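import Cfsg.Agent.Lib.UFour73.ClassEqLocal

/-!
# The class equations of the principal block

With the norms of the three sections, the products of two conjugates of `a` give
`∑ m_j α² / n = L < 0` for all five `j` and `∑ γ α² / n = 0`.
-/

set_option autoImplicit false
set_option linter.style.haveILetI false

namespace CfsgLib.UFour73

open Cfsg CfsgLib.Characters CfsgLib.PiHom
open scoped ComplexConjugate

universe u

variable {G : Type u} [Group G] [Fintype G] (E : Setting G)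

/-- `{a}` -/
noncomputable def repsA : Finset G := {E.a 0}

open scoped Classical in
/-- `a (r^k)^S` -/
noncomputable def repsR (k : ℕ) : Finset G :=
  (Finset.univ.filter (· ∈ E.S)).image fun s => E.a 0 * (s * E.r ^ k * s⁻¹)

open scoped Classical in
/-- the elements of order four squaring to `a` -/
noncomputable def repsX : Finset G :=
  Finset.univ.filter fun x => x ∈ E.S ∧ x ∉ zInv E.S ∧ x * x = E.a 0

theorem mem_repsR {k : ℕ} {g : G} :
    g ∈ repsR E k ↔ ∃ s ∈ E.S, g = E.a 0 * (s * E.r ^ k * s⁻¹) := by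
  classical
  simp only [repsR, Finset.mem_image, Finset.mem_filter, Finset.mem_univ, true_and, eq_comm]

theorem mem_repsX {x : G} :
    x ∈ repsX E ↔ x ∈ E.S ∧ x ∉ zInv E.S ∧ x * x = E.a 0 := by
  classical
  simp [repsX]

theorem a_comm_r : E.a 0 * E.r = E.r * E.a 0 := (E.r_fix _ (E.a_mem 0)).symm

theorem reps_a : Reps E (repsA E) 1 := by
  refine ⟨?_, ?_, ?_, ?_, ?_⟩ <;> simp only [repsA, Finset.mem_singleton, forall_eq]
  · exact E.S_le (E.a_memS 0)
  · intro s hs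
    rw [(E.a_mem 0).2.2 s hs]; group
  · rw [← a_comm_r E]; group
  · rw [pow_one, inv_mul_cancel]; exact one_mem _
  · exact fun _ => trivial

/-- `r^k` with `5 ∤ k` is fixed only by the centre. -/
theorem mem_zInv_of_fix {k : ℕ} (hk : ¬ 5 ∣ k) {t : G} (ht : t ∈ E.S)
    (h : (E.r ^ k)⁻¹ * t * E.r ^ k * t⁻¹ ∈ E.θ 0) : t ∈ zInv E.S := by
  have h1 : (E.r ^ k)⁻¹ * t * E.r ^ k * t⁻¹ = 1 :=
    E.eq_one_of_mem_θ h (mul_mem (E.pow_r_conj_S k ht) (inv_mem ht))
  have hc : E.r ^ k ∈ Subgroup.centralizer ({t} : Set G) := by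
    rw [Subgroup.mem_centralizer_singleton_iff]
    calc E.r ^ k * t = E.r ^ k * ((E.r ^ k)⁻¹ * t * E.r ^ k * t⁻¹) * t := by rw [h1, mul_one]
      _ = t * E.r ^ k := by group
  have h5 : E.r ^ 5 ∈ Subgroup.centralizer ({t} : Set G) :=
    Subgroup.mem_centralizer_singleton_iff.2 (E.W0_comm _ E.r_pow t ht)
  have hcop : Nat.Coprime k 5 := ((Nat.prime_five.coprime_iff_not_dvd).2 hk).symm
  obtain ⟨l, -, hl⟩ := Nat.exists_mul_mod_eq_one_of_coprime hcop (by norm_num)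
  have h2 : E.r ^ (k * l) ∈ Subgroup.centralizer ({t} : Set G) := by
    rw [pow_mul]; exact pow_mem hc l
  rw [← Nat.div_add_mod (k * l) 5, hl, pow_add, pow_mul, pow_one] at h2
  have h3 := mul_mem (inv_mem (pow_mem h5 (k * l / 5))) h2
  rw [inv_mul_cancel_left, Subgroup.mem_centralizer_singleton_iff] at h3
  exact E.r_free t ht (by rw [h3, mul_inv_cancel_right, mul_inv_cancel]; exact one_mem _)

theorem repsR_inj {k : ℕ} (hk : ¬ 5 ∣ k) {s t : G} (hs : s ∈ E.S) (ht : t ∈ E.S) :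
    (E.a 0 * (s * E.r ^ k * s⁻¹))⁻¹ * (E.a 0 * (t * E.r ^ k * t⁻¹)) ∈ E.θ 0 ↔
      s⁻¹ * t ∈ zInv E.S := by
  have hsC := E.X_le_cent 0 (E.S_le hs)
  constructor
  · intro h
    refine mem_zInv_of_fix E hk (mul_mem (inv_mem hs) ht) ?_
    have h1 := E.θ_conj 0 (inv_mem hsC) h
    rwa [show s⁻¹ * ((E.a 0 * (s * E.r ^ k * s⁻¹))⁻¹ * (E.a 0 * (t * E.r ^ k * t⁻¹))) * s⁻¹⁻¹ =
      (E.r ^ k)⁻¹ * (s⁻¹ * t) * E.r ^ k * (s⁻¹ * t)⁻¹ by group] at h1
  · intro hz
    have hc : Commute (s⁻¹ * t) (E.r ^ k) := Commute.pow_right (E.r_fix _ hz).symm k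
    have e : t * E.r ^ k * t⁻¹ = s * E.r ^ k * s⁻¹ := by
      calc t * E.r ^ k * t⁻¹ = s * ((s⁻¹ * t) * E.r ^ k) * t⁻¹ := by group
        _ = _ := by rw [hc.eq]; group
    rw [e, inv_mul_cancel]; exact one_mem _

theorem reps_r {k : ℕ} (hk : ¬ 5 ∣ k) : Reps E (repsR E k) 5 := by
  refine ⟨fun p hp => ?_, fun p hp s hs => ?_, fun p hp => ?_, fun p hp => ?_, fun p hp q hq h => ?_⟩
  all_goals obtain ⟨t, ht, rfl⟩ := (mem_repsR E).1 hp
  · exact mul_mem (E.S_le (E.a_memS 0))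
      (mul_mem (mul_mem (E.S_le ht) (pow_mem E.r_mem k)) (inv_mem (E.S_le ht)))
  · refine (mem_repsR E).2 ⟨s * t, mul_mem hs ht, ?_⟩
    calc s * (E.a 0 * (t * E.r ^ k * t⁻¹)) * s⁻¹ = (s * E.a 0) * (t * E.r ^ k * t⁻¹) * s⁻¹ := by
          group
      _ = _ := by rw [(E.a_mem 0).2.2 s hs]; group
  · refine (mem_repsR E).2 ⟨E.r * t * E.r⁻¹, E.r_conj_S ht, ?_⟩
    calc E.r * (E.a 0 * (t * E.r ^ k * t⁻¹)) * E.r⁻¹
        = (E.r * E.a 0) * (t * E.r ^ k * t⁻¹) * E.r⁻¹ := by group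
      _ = _ := by rw [← a_comm_r E]; group
  · have hc : Commute (E.a 0) (t * E.r ^ k * t⁻¹) :=
      E.zInv_comm_X (E.a_mem 0)
        (mul_mem (mul_mem (E.S_le ht) (pow_mem E.r_mem k)) (inv_mem (E.S_le ht)))
    rw [hc.mul_pow, ← mul_assoc, show E.a 0 ^ 5 = E.a 0 by
      rw [pow_succ, show (4 : ℕ) = 2 * 2 from rfl, pow_mul, show E.a 0 ^ 2 = 1 from (pow_two _).trans (E.a_sq 0), one_pow, one_mul],
      inv_mul_cancel, one_mul, conj_pow]
    refine E.θ_conj 0 (E.X_le_cent 0 (E.S_le ht)) (E.W0_le 0 ?_)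
    rw [← pow_mul, mul_comm, pow_mul]
    exact pow_mem E.r_pow k
  · obtain ⟨t', ht', rfl⟩ := (mem_repsR E).1 hq
    have hz := (repsR_inj E hk ht ht').1 h
    have hc : Commute (t⁻¹ * t') (E.r ^ k) := Commute.pow_right (E.r_fix _ hz).symm k
    have e : t' * E.r ^ k * t'⁻¹ = t * E.r ^ k * t⁻¹ := by
      calc t' * E.r ^ k * t'⁻¹ = t * ((t⁻¹ * t') * E.r ^ k) * t'⁻¹ := by group
        _ = _ := by rw [hc.eq]; group
    rw [e]

theorem reps_x : Reps E (repsX E) 2 := by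
  refine ⟨fun p hp => ?_, fun p hp s hs => ?_, fun p hp => ?_, fun p hp => ?_, fun p hp q hq h => ?_⟩
  all_goals obtain ⟨h1, h2, h3⟩ := (mem_repsX E).1 hp
  · exact E.S_le h1
  · refine (mem_repsX E).2 ⟨mul_mem (mul_mem hs h1) (inv_mem hs), fun hz => h2 ?_, ?_⟩
    · have e : p = s * p * s⁻¹ := by
        have h4 := hz.2.2 s hs
        calc p = s⁻¹ * (s * p * s⁻¹ * s) := by group
          _ = _ := by rw [← h4]; group
      rwa [e]
    · rw [show s * p * s⁻¹ * (s * p * s⁻¹) = s * (p * p) * s⁻¹ by group, h3,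
        (E.a_mem 0).2.2 s hs]
      group
  · refine (mem_repsX E).2 ⟨E.r_conj_S h1, fun hz => h2 ?_, ?_⟩
    · have e : p = E.r * p * E.r⁻¹ := by
        have h4 := E.r_fix _ hz
        calc p = E.r⁻¹ * (E.r * p * E.r⁻¹ * E.r) := by group
          _ = _ := by rw [← h4]; group
      rwa [e]
    · rw [show E.r * p * E.r⁻¹ * (E.r * p * E.r⁻¹) = E.r * (p * p) * E.r⁻¹ by group, h3,
        ← a_comm_r E]
      group
  · rw [pow_two, h3, inv_mul_cancel]; exact one_mem _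
  · obtain ⟨h1', -, -⟩ := (mem_repsX E).1 hq
    exact inv_mul_eq_one.1 (E.eq_one_of_mem_θ h (mul_mem (inv_mem h1) h1'))

theorem card_repsR {k : ℕ} (hk : ¬ 5 ∣ k) : (repsR E k).card = 16 := by
  classical
  have hS : (Finset.univ.filter (· ∈ E.S)).card = 64 := by
    rw [← Fintype.card_subtype, ← Nat.card_eq_fintype_card]
    exact E.herm.card
  have hfib : ∀ g ∈ repsR E k, ((Finset.univ.filter (· ∈ E.S)).filter
      fun s => E.a 0 * (s * E.r ^ k * s⁻¹) = g).card = 4 := by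
    intro g hg
    obtain ⟨t, ht, rfl⟩ := (mem_repsR E).1 hg
    rw [← E.card_zInv, Nat.card_eq_fintype_card, ← Finset.card_univ]
    symm
    refine Finset.card_bij (fun (z : ↥(zInv E.S)) _ => t * (z : G)) (fun z _ => ?_)
      (fun a _ b _ e => Subtype.ext (mul_left_cancel e)) (fun s hs => ?_)
    · refine Finset.mem_filter.2 ⟨Finset.mem_filter.2 ⟨Finset.mem_univ _, mul_mem ht z.2.1⟩, ?_⟩
      have hc : Commute (z : G) (E.r ^ k) := Commute.pow_right (E.r_fix _ z.2).symm k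
      calc E.a 0 * (t * z * E.r ^ k * (t * z)⁻¹)
          = E.a 0 * (t * ((z : G) * E.r ^ k) * (z : G)⁻¹ * t⁻¹) := by group
        _ = _ := by rw [hc.eq]; group
    · obtain ⟨hs1, hs2⟩ := Finset.mem_filter.1 hs
      refine ⟨⟨t⁻¹ * s, (repsR_inj E hk ht (Finset.mem_filter.1 hs1).2).1 ?_⟩, Finset.mem_univ _,
        mul_inv_cancel_left t s⟩
      rw [hs2, inv_mul_cancel]; exact one_mem _
  have h := Finset.card_eq_sum_card_image (fun s => E.a 0 * (s * E.r ^ k * s⁻¹))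
    (Finset.univ.filter (· ∈ E.S))
  rw [show (Finset.univ.filter (· ∈ E.S)).image (fun s => E.a 0 * (s * E.r ^ k * s⁻¹)) = repsR E k from
    rfl, Finset.sum_congr rfl hfib, Finset.sum_const, smul_eq_mul, hS] at h
  have h' : (repsR E k).card * 4 = 64 := h.symm
  omega

theorem card_repsX : (repsX E).card = 20 := by
  classical
  set z : ↥E.S := ⟨E.a 0, E.a_memS 0⟩ with hz
  let α : MulAut ↥E.S := E.S.normalizerMonoidHom ⟨E.y, E.y_norm⟩
  have h1 : ((α z : ↥E.S) : G) = E.a 1 := by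
    show E.y * E.a 0 * E.y⁻¹ = E.a 1
    rw [E.y_a]; rfl
  have h2 : ((α (α z) : ↥E.S) : G) = E.a 2 := by
    show E.y * ((α z : ↥E.S) : G) * E.y⁻¹ = E.a 2
    rw [h1, E.y_a]; rfl
  have hne : ∀ i j : Fin 3, i ≠ j → E.a i ≠ E.a j := fun i j h e => h (E.a_inj e)
  have hV := isColouring E.herm α ((E.mem_center_iff z).2 (E.a_mem 0))
    (fun e => E.a_ne 0 (congrArg Subtype.val e))
    (fun e => hne 1 0 (by decide) (by rw [← h1, e]))
    (fun e => hne 2 0 (by decide) (by rw [← h2, e]))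
  have h5 : Nat.card {v : ↥E.S ⧸ Subgroup.center ↥E.S // sqCol v = z} = 5 := hV.fibre 0
  have e1 : Nat.card {x : ↥E.S // x * x = z} = 20 := by
    have e := Nat.card_congr (QuotientGroup.preimageMkEquivSubgroupProdSet (Subgroup.center ↥E.S)
      {v | sqCol v = z})
    rw [Nat.card_prod, E.herm.card_center] at e
    have e' : Nat.card {x : ↥E.S // x * x = z} =
        Nat.card ↥(QuotientGroup.mk (s := Subgroup.center ↥E.S) ⁻¹' {v | sqCol v = z}) :=
      Nat.card_congr (Equiv.subtypeEquivRight fun x => by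
        simp [sqCol_mk E.herm])
    rw [e', e, show Nat.card ↥{v : ↥E.S ⧸ Subgroup.center ↥E.S | sqCol v = z} = 5 from h5]
  rw [← e1, ← Nat.card_eq_finsetCard]
  refine Nat.card_congr
    { toFun := fun x => ⟨⟨x.1, ((mem_repsX E).1 x.2).1⟩, Subtype.ext ((mem_repsX E).1 x.2).2.2⟩
      invFun := fun x => ⟨(x.1 : G), (mem_repsX E).2 ⟨x.1.2, fun hc => ?_, congrArg Subtype.val x.2⟩⟩
      left_inv := fun _ => rfl
      right_inv := fun _ => rfl }
  exact E.a_ne 0 ((congrArg Subtype.val x.2).symm.trans hc.2.1)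

/-- Five rationals whose transform vanishes off the origin are equal. -/
theorem eq_of_transform {ζ : ℂ} (hζ : IsPrimitiveRoot ζ 5) (M : Fin 5 → ℚ)
    (h : ∀ k : ℕ, ¬ 5 ∣ k → ∑ j, (M j : ℂ) * ζ ^ (j.val * k) = 0) (l : Fin 5) :
    5 * M l = ∑ j, M j := by
  have hgeo : ∀ e : ℕ, ∑ k ∈ Finset.range 5, ζ ^ (e * k) = if 5 ∣ e then 5 else 0 := by
    intro e
    simp only [pow_mul]
    split_ifs with he
    · rw [(hζ.pow_eq_one_iff_dvd e).2 he]; simp
    · rw [geom_sum_eq (fun e' => he ((hζ.pow_eq_one_iff_dvd e).1 e')), ← pow_mul, mul_comm e 5,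
        pow_mul, hζ.pow_eq_one, one_pow, sub_self, zero_div]
  have h1 : ∑ k ∈ Finset.range 5, ζ ^ (4 * l.val * k) * ∑ j, (M j : ℂ) * ζ ^ (j.val * k) =
      ∑ j, (M j : ℂ) := by
    rw [Finset.sum_eq_single 0]
    · simp
    · intro k hk hk0
      rw [h k (fun hd => hk0 (Nat.eq_zero_of_dvd_of_lt hd (Finset.mem_range.1 hk))), mul_zero]
    · simp
  have h2 : ∑ k ∈ Finset.range 5, ζ ^ (4 * l.val * k) * ∑ j, (M j : ℂ) * ζ ^ (j.val * k) =
      5 * (M l : ℂ) := by
    simp only [Finset.mul_sum]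
    rw [Finset.sum_comm]
    have e : ∀ j : Fin 5, ∑ k ∈ Finset.range 5, ζ ^ (4 * l.val * k) * ((M j : ℂ) * ζ ^ (j.val * k)) =
        (M j : ℂ) * if j = l then 5 else 0 := by
      intro j
      have hjl : (5 ∣ 4 * l.val + j.val) ↔ j = l := by
        refine ⟨fun hd => Fin.ext ?_, fun e => ⟨l.val, by rw [e]; ring⟩⟩
        have := j.isLt
        have := l.isLt
        omega
      have e2 := hgeo (4 * l.val + j.val)
      simp only [hjl] at e2
      rw [← e2, Finset.mul_sum]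
      refine Finset.sum_congr rfl fun k _ => ?_
      rw [add_mul, pow_add]; ring
    rw [Finset.sum_congr rfl fun j _ => e j]
    simp [mul_comm]
  have h3 : ((5 * M l : ℚ) : ℂ) = ((∑ j, M j : ℚ) : ℂ) := by
    push_cast
    rw [← h2, h1]
  exact_mod_cast h3

theorem pairs_nonempty :
    0 < (ClassCount.pairs (E.a 0) (E.a 0) (closConj (cosetsθ E (repsA E)))).card := by
  classical
  have hy0 : E.y * E.a 0 * E.y⁻¹ = E.a 1 := E.y_a 0
  have hy1 : E.y * E.a 1 * E.y⁻¹ = E.a 2 := E.y_a 1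
  obtain ⟨i, hi⟩ := E.a_cover _ (mul_mem (E.a_mem 0) (E.a_mem 1)) fun e => by
    have h := eq_inv_of_mul_eq_one_right e
    rw [inv_eq_of_mul_eq_one_right (E.a_sq 0)] at h
    exact absurd (E.a_inj h) (by decide)
  have hi2 : i = 2 := by
    fin_cases i
    · exact absurd (mul_eq_left.1 hi) (E.a_ne 1)
    · exact absurd (mul_eq_right.1 hi) (E.a_ne 0)
    · rfl
  refine Finset.card_pos.2 ⟨(E.a 0, E.a 1), Finset.mem_filter.2 ⟨Finset.mem_product.2
    ⟨ClassCount.mem_cls_self _, ClassCount.mem_cls.2 (isConj_iff.2 ⟨E.y, hy0⟩)⟩, ?_⟩⟩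
  show E.a 0 * E.a 1 ∈ _
  rw [hi, hi2]
  refine mem_closConj.2 ⟨(E.y * E.y)⁻¹, (mem_cosetsθ E).2
    ⟨E.a 0, by simp [repsA], 1, one_mem _, ?_⟩⟩
  rw [mul_one, ← hy1, ← hy0]; group

theorem exists_class_eq (D : Setting G) {ι : Type*} [Fintype ι] [DecidableEq ι] {ζ : ℂ}
    (hζ : IsPrimitiveRoot ζ 5) (χ : ι → G → ℂ) (n γ : ι → ℤ) (m : Fin 5 → ι → ℤ)
    (hinj : Function.Injective χ) (hirr : ∀ i, IsIrrCharacter G (χ i))
    (hval : ∀ i, LocalValues D.toLocal ζ (χ i) (n i) (γ i) (fun j => m j i))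
    (gram : ∀ j l, ∑ i, m j i * m l i = 1 + if j = l then 4 else 0)
    (gamma_sq : ∑ i, γ i * γ i = 16) (m_gamma : ∀ j, ∑ i, m j i * γ i = 4) :
    ∃ L : ℚ, L < 0 ∧
      (∀ j, ∑ i, (m j i : ℚ) * ((5 * γ i - 4 * ∑ l, m l i : ℤ) : ℚ) ^ 2 / (n i : ℚ) = L) ∧
      ∑ i, (γ i : ℚ) * ((5 * γ i - 4 * ∑ l, m l i : ℤ) : ℚ) ^ 2 / (n i : ℚ) = 0 := by
  set α : ι → ℤ := fun i => 5 * γ i - 4 * ∑ l, m l i with hα
  have hαa : ∀ i, χ i (D.a 0) = (α i : ℂ) := fun i => (hval i).val_a 0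
  let χ' : ι → IrrCharacter G := fun i => ⟨χ i, hirr i⟩
  have hχ' : Function.Injective χ' := fun i j e => hinj (congrArg Subtype.val e)
  set θc := Nat.card ↥(D.θ 0) with hθc
  have hθpos : 0 < θc := Nat.card_pos
  have hGc : (Nat.card G : ℂ) ≠ 0 := Nat.cast_ne_zero.2 Nat.card_pos.ne'
  have main : ∀ (P : Finset G) (e : ℕ), Reps D P e → 0 < P.card → ∀ b : ι → ℂ,
      (∀ i, ∀ p ∈ P, χ i p = b i) → (∑ i, b i * conj (b i)) * (P.card : ℂ) = 320 →
      ((ClassCount.pairs (D.a 0) (D.a 0) (closConj (cosetsθ D P))).card : ℂ) *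
          (Nat.card (Subgroup.centralizer ({D.a 0} : Set G)) : ℂ) ^ 2 * (320 : ℂ) =
        (Nat.card G : ℂ) ^ 2 * (P.card : ℂ) * ∑ i, (α i : ℂ) ^ 2 * conj (b i) / (n i : ℂ) := by
    intro P e hP hpos b hb hnorm
    have hne : (cosetsθ D P).Nonempty := by
      rw [← Finset.card_pos, hP.card_eq]; exact Nat.mul_pos hpos hθpos
    have hb' : ∀ i, ∀ d ∈ cosetsθ D P, (χ' i : G → ℂ) d = b i := by
      intro i d hd
      obtain ⟨p, hp, u, hu, rfl⟩ := (mem_cosetsθ D).1 hd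
      show χ i (p * u) = b i
      rw [(hval i).fixed 0 p (hP.le p hp) (hP.even hp) u hu, hb i p hp]
    have h := hP.tight.pairs_eq hne χ' hχ' b hb' (by
      rw [hP.card_eq, D.card_cent]
      push_cast
      linear_combination (θc : ℂ) * hnorm) (D.a 0)
    simp only [χ', hαa, fun i => (hval i).deg, hP.card_eq] at h
    rw [D.card_cent] at h ⊢
    push_cast at h ⊢
    refine mul_left_cancel₀ (Nat.cast_ne_zero.2 hθpos.ne' : (θc : ℂ) ≠ 0) ?_
    linear_combination h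
  have gramC : ∀ j l, ∑ i, (m j i : ℂ) * (m l i : ℂ) = 1 + if j = l then 4 else 0 := fun j l => by
    have := gram j l
    split_ifs at this ⊢ <;> exact_mod_cast this
  -- elements of order four
  have hxz : ∑ i, (γ i : ℚ) * ((α i : ℤ) : ℚ) ^ 2 / (n i : ℚ) = 0 := by
    have hcard := card_repsX D
    have h := main _ _ (reps_x D) (by omega) (fun i => (γ i : ℂ)) (fun i p hp => by
      obtain ⟨h1, h2, -⟩ := (mem_repsX D).1 hp
      exact (hval i).val_x p h1 h2) (by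
        have h16 : ∑ i, (γ i : ℂ) * (γ i : ℂ) = 16 := by exact_mod_cast gamma_sq
        simp only [map_intCast, h16, hcard]
        norm_num)
    rw [(reps_x D).pairs_empty (fun p hp hpp => D.a_ne 0 (by
      rw [← ((mem_repsX D).1 hp).2.2]
      exact D.eq_one_of_mem_θ hpp (mul_mem ((mem_repsX D).1 hp).1 ((mem_repsX D).1 hp).1)))] at h
    simp only [Finset.card_empty, Nat.cast_zero, zero_mul, map_intCast, hcard] at h
    have h0 := (mul_eq_zero.1 h.symm).resolve_left (by simp [hGc])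
    have h1 : ((∑ i, (γ i : ℚ) * ((α i : ℤ) : ℚ) ^ 2 / (n i : ℚ) : ℚ) : ℂ) = 0 := by
      rw [← h0]
      push_cast
      exact Finset.sum_congr rfl fun i _ => by ring
    exact_mod_cast h1
  set M : Fin 5 → ℚ := fun j => ∑ i, (m j i : ℚ) * ((α i : ℤ) : ℚ) ^ 2 / (n i : ℚ) with hM
  -- elements of order ten
  have hzero : ∀ k : ℕ, ¬ 5 ∣ k → ∑ j, (M j : ℂ) * ζ ^ (j.val * k) = 0 := by
    intro k hk
    set β : ι → ℂ := fun i => ∑ j, (m j i : ℂ) * ζ ^ (j.val * k) with hβ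
    have hcard := card_repsR D hk
    have hnz : (conj ζ : ℂ) = ζ ^ 4 := by
      rw [← Complex.inv_eq_conj (Complex.norm_eq_one_of_pow_eq_one hζ.pow_eq_one (by norm_num))]
      exact (eq_inv_of_mul_eq_one_left (by rw [← pow_succ]; exact hζ.pow_eq_one)).symm
    have hnorm : (∑ i, β i * conj (β i)) * ((repsR D k).card : ℂ) = 320 := by
      have hs : ∑ j : Fin 5, ζ ^ (j.val * k) = 0 := by
        rw [Fin.sum_univ_eq_sum_range (fun j => ζ ^ (j * k)) 5]
        simp only [mul_comm _ k, pow_mul]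
        rw [geom_sum_eq (fun e' => hk ((hζ.pow_eq_one_iff_dvd k).1 e')), ← pow_mul, mul_comm k 5,
          pow_mul, hζ.pow_eq_one, one_pow, sub_self, zero_div]
      have hone : ∀ j : Fin 5, ζ ^ (j.val * k) * conj (ζ ^ (j.val * k)) = 1 := fun j => by
        rw [map_pow, hnz, ← mul_pow, ← pow_succ', hζ.pow_eq_one, one_pow]
      have h20 : ∑ i, β i * conj (β i) = 20 := by
        simp only [hβ, map_sum, map_mul, map_intCast, Finset.sum_mul_sum]
        rw [Finset.sum_comm]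
        have e : ∀ j : Fin 5, ∑ i, ∑ l : Fin 5, (m j i : ℂ) * ζ ^ (j.val * k) *
            ((m l i : ℂ) * conj (ζ ^ (l.val * k))) = 4 := by
          intro j
          rw [Finset.sum_comm]
          have e1 : ∀ l : Fin 5, ∑ i, (m j i : ℂ) * ζ ^ (j.val * k) *
              ((m l i : ℂ) * conj (ζ ^ (l.val * k))) =
              (1 + if j = l then 4 else 0) * (ζ ^ (j.val * k) * conj (ζ ^ (l.val * k))) := by
            intro l
            rw [← gramC j l, Finset.sum_mul]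
            exact Finset.sum_congr rfl fun i _ => by ring
          rw [Finset.sum_congr rfl fun l _ => e1 l]
          simp only [add_mul, one_mul, ite_mul, zero_mul, Finset.sum_add_distrib,
            Finset.sum_ite_eq, Finset.mem_univ, if_true, ← Finset.mul_sum, ← map_sum, hs, map_zero,
            mul_zero, zero_add, hone, mul_one]
        rw [Finset.sum_congr rfl fun j _ => e j]
        simp
        norm_num
      rw [h20, hcard]; norm_num
    have h := main _ _ (reps_r D hk) (by omega) β (fun i p hp => by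
      obtain ⟨s, hs, rfl⟩ := (mem_repsR D).1 hp
      have hc : IsClassFunction G (χ i) := irr_isClassFunction ⟨χ i, hirr i⟩
      rw [show D.a 0 * (s * D.r ^ k * s⁻¹) = s * (D.a 0 * D.r ^ k) * s⁻¹ by
        rw [← mul_assoc (D.a 0), ← mul_assoc (D.a 0), ← (D.a_mem 0).2.2 s hs]; group, hc]
      exact (hval i).val_ar k hk) hnorm
    rw [(reps_r D hk).pairs_empty (fun p hp hpp => by
      obtain ⟨s, hs, rfl⟩ := (mem_repsR D).1 hp
      have hX := mul_mem (mul_mem (D.S_le hs) (pow_mem D.r_mem k)) (inv_mem (D.S_le hs))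
      have hc : Commute (D.a 0) (s * D.r ^ k * s⁻¹) := D.zInv_comm_X (D.a_mem 0) hX
      rw [← pow_two, hc.mul_pow, pow_two (D.a 0), D.a_sq, one_mul, conj_pow, ← pow_mul] at hpp
      have h1 := D.θ_conj 0 (inv_mem (D.X_le_cent 0 (D.S_le hs))) hpp
      rw [show s⁻¹ * (s * D.r ^ (k * 2) * s⁻¹) * s⁻¹⁻¹ = D.r ^ (k * 2) by group] at h1
      have := D.pow_r_mem_SW (Subgroup.mem_sup_right (D.mem_W0 h1 (pow_mem D.r_mem _)))
      omega)] at h
    simp only [Finset.card_empty, Nat.cast_zero, zero_mul, hcard] at h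
    have h0 := congrArg conj ((mul_eq_zero.1 h.symm).resolve_left (by simp [hGc]))
    simp only [map_sum, map_div₀, map_mul, map_pow, map_intCast, Complex.conj_conj, map_zero,
      hβ] at h0
    rw [← h0]
    simp only [hM]
    push_cast
    simp only [Finset.sum_mul, Finset.mul_sum, Finset.sum_div]
    rw [Finset.sum_comm]
    exact Finset.sum_congr rfl fun i _ => Finset.sum_congr rfl fun j _ => by ring
  have hall := eq_of_transform hζ M hzero
  -- involutions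
  have hpos : 0 < ∑ i, ((α i : ℤ) : ℚ) ^ 2 * ((α i : ℤ) : ℚ) / (n i : ℚ) := by
    have hsq : ∑ i, (α i : ℂ) * (α i : ℂ) = 320 := by
      have h1 : ∑ i, (α i : ℂ) * (α i : ℂ) = 25 * ∑ i, (γ i : ℂ) * (γ i : ℂ) -
          40 * ∑ j, ∑ i, (m j i : ℂ) * (γ i : ℂ) + 16 * ∑ j, ∑ l, ∑ i, (m j i : ℂ) * (m l i : ℂ) := by
        simp only [Fin.sum_univ_five, hα, Finset.mul_sum, ← Finset.sum_add_distrib,
          ← Finset.sum_sub_distrib]
        refine Finset.sum_congr rfl fun i _ => ?_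
        push_cast
        ring
      have h16 : ∑ i, (γ i : ℂ) * (γ i : ℂ) = 16 := by exact_mod_cast gamma_sq
      have h4 : ∀ j, ∑ i, (m j i : ℂ) * (γ i : ℂ) = 4 := fun j => by exact_mod_cast m_gamma j
      rw [h1, h16]
      simp only [h4, gramC, Finset.sum_add_distrib, Finset.sum_ite_eq, Finset.mem_univ, if_true]
      simp
      norm_num
    have hA : (repsA D).card = 1 := Finset.card_singleton _
    have h := main _ _ (reps_a D) (by omega) (fun i => (α i : ℂ)) (fun i p hp => by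
      rw [Finset.mem_singleton.1 hp]; exact hαa i) (by
        simp only [map_intCast, hsq, hA, Nat.cast_one, mul_one])
    simp only [map_intCast, hA, Nat.cast_one, mul_one] at h
    have hN := pairs_nonempty D
    set N := (ClassCount.pairs (D.a 0) (D.a 0) (closConj (cosetsθ D (repsA D)))).card
    set c := Nat.card (Subgroup.centralizer ({D.a 0} : Set G))
    have hc : 0 < c := Nat.card_pos
    have hG : 0 < Nat.card G := Nat.card_pos
    have hQ : ((N * c ^ 2 * 320 : ℕ) : ℚ) =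
        ((Nat.card G ^ 2 : ℕ) : ℚ) * ∑ i, ((α i : ℤ) : ℚ) ^ 2 * ((α i : ℤ) : ℚ) / (n i : ℚ) := by
      have : (((N * c ^ 2 * 320 : ℕ) : ℚ) : ℂ) = (((Nat.card G ^ 2 : ℕ) : ℚ) *
          ∑ i, ((α i : ℤ) : ℚ) ^ 2 * ((α i : ℤ) : ℚ) / (n i : ℚ) : ℚ) := by
        push_cast
        exact h
      exact_mod_cast this
    have hl : 0 < ((N * c ^ 2 * 320 : ℕ) : ℚ) := by positivity
    rw [hQ] at hl
    exact pos_of_mul_pos_right hl (by positivity)
  have hsplit : ∑ i, ((α i : ℤ) : ℚ) ^ 2 * ((α i : ℤ) : ℚ) / (n i : ℚ) =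
      5 * (∑ i, (γ i : ℚ) * ((α i : ℤ) : ℚ) ^ 2 / (n i : ℚ)) - 4 * ∑ j, M j := by
    simp only [hM, Fin.sum_univ_five, Finset.mul_sum, ← Finset.sum_add_distrib,
      ← Finset.sum_sub_distrib]
    refine Finset.sum_congr rfl fun i _ => ?_
    simp only [hα, Fin.sum_univ_five]
    push_cast
    ring
  refine ⟨(∑ j, M j) / 5, ?_, fun j => ?_, hxz⟩
  · rw [hxz] at hsplit
    rw [hsplit] at hpos
    linarith
  · show M j = _
    rw [← hall j]; ring

end CfsgLib.UFour73
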