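import Cfsg.Agent.Lib.UFour73.BlockData
import Cfsg.Agent.Lib.UFour73.ClassEq

/-!
# The principal 2-block as seen from a `Setting`
-/

set_option autoImplicit false

namespace CfsgLib.UFour73

universe u

/-- A `Setting` has block values. -/
theorem exists_blockValues {G : Type u} [Group G] [Fintype G] (D : Setting G) :
    ∃ (ι : Type u) (_ : Fintype ι) (_ : DecidableEq ι), Nonempty (BlockValues D.toLocal ι) := by
  obtain ⟨ι, iF, iD, ζ, χ, one, n, γ, m, σ, hζ, hinj, hirr, hne, hval, hn1, hγ1, hm1, hngt, hgram,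
    hγγ, hmγ, hdeg, hσ1, hσn, hσγ, hσm, hσk, hσl⟩ := exists_blockData D
  obtain ⟨L, hL, hrm, hrγ⟩ := exists_class_eq D hζ χ n γ m hinj hirr hval hgram hγγ hmγ
  exact ⟨ι, iF, iD, ⟨{
    ζ := ζ, hζ := hζ, χ := χ, one := one, n := n, γ := γ, m := m, σ := σ, L := L
    irr := hirr, nonprincipal := hne, values := hval, n_one := hn1, γ_one := hγ1, m_one := hm1
    n_gt := hngt, gram := hgram, gamma_sq := hγγ, m_gamma := hmγ, deg := hdeg
    L_neg := hL, rec_m := hrm, rec_γ := hrγ, σ_one := hσ1, σ_n := hσn, σ_γ := hσγ, σ_m := hσm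
    σ_kC := hσk, σ_lC := hσl }⟩⟩

end CfsgLib.UFour73
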