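import Mathlib

/-!
# Arithmetic data of a principal 2-block of a group with Sylow 2-subgroups of type `PSU₃(4)`

For each character: the degree, the value `γ` at an element of order four, the five multiplicities
`m j`, and the multiplicities `k j`, `l j` of the linear characters of `C_M(a)` in the part moved by
and fixed by the core of the centraliser of an involution.
-/

set_option autoImplicit false

namespace CfsgLib.UFour73.Arith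

open Finset

/-- The Galois action on the index of a character of the cyclic group of order five. -/
def dbl (i : Fin 5) : Fin 5 := 2 * i

/-- The data. -/
structure Data (ι : Type*) [Fintype ι] [DecidableEq ι] where
  /-- the principal character -/
  one : ι
  /-- degrees -/
  n : ι → ℤ
  /-- values at an element of order four -/
  γ : ι → ℤ
  /-- multiplicities -/
  m : Fin 5 → ι → ℤ
  /-- Galois permutation -/
  σ : Equiv.Perm ι
  /-- linear constituents of the moved part -/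
  k : ι → Fin 5 → ℤ
  /-- linear constituents of the fixed part -/
  l : ι → Fin 5 → ℤ
  n_one : n one = 1
  γ_one : γ one = 1
  m_one : ∀ i, m i one = if i = 0 then 1 else 0
  n_gt : ∀ χ, χ ≠ one → 1 < n χ
  gram : ∀ i j, ∑ χ, m i χ * m j χ = 1 + if i = j then 4 else 0
  gamma_sq : ∑ χ, γ χ * γ χ = 16
  m_gamma : ∀ i, ∑ χ, m i χ * γ χ = 4
  deg : ∀ i, ∑ χ, n χ * m i χ = 0
  /-- the common value of the class equations -/
  L : ℚ
  L_neg : L < 0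
  rec_m : ∀ i, ∑ χ, (m i χ : ℚ) * ((5 * γ χ - 4 * ∑ j, m j χ : ℤ) : ℚ) ^ 2 / (n χ : ℚ) = L
  rec_γ : ∑ χ, (γ χ : ℚ) * ((5 * γ χ - 4 * ∑ j, m j χ : ℤ) : ℚ) ^ 2 / (n χ : ℚ) = 0
  σ_one : σ one = one
  σ_n : ∀ χ, n (σ χ) = n χ
  σ_γ : ∀ χ, γ (σ χ) = γ χ
  σ_m : ∀ χ i, m i (σ χ) = m (dbl i) χ
  σ_k : ∀ χ i, k (σ χ) i = k χ (dbl i)
  σ_l : ∀ χ i, l (σ χ) i = l χ (dbl i)
  k_nonneg : ∀ χ, χ ≠ one → ((∃ i, m i χ ≠ 0) ∨ γ χ ≠ 0) → ∀ i, 0 ≤ k χ i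
  l_nonneg : ∀ χ, χ ≠ one → ((∃ i, m i χ ≠ 0) ∨ γ χ ≠ 0) → ∀ i, 0 ≤ l χ i
  l_le : ∀ χ, χ ≠ one → ((∃ i, m i χ ≠ 0) ∨ γ χ ≠ 0) → ∀ i, l χ i ≤ 2 * k χ i
  o_nonneg : ∀ χ, χ ≠ one → ((∃ i, m i χ ≠ 0) ∨ γ χ ≠ 0) → γ χ ≤ ∑ j, l χ j
  f_nonneg : ∀ χ, χ ≠ one → ((∃ i, m i χ ≠ 0) ∨ γ χ ≠ 0) →
    ∀ i, 0 ≤ m i χ + ((∑ j, l χ j) - γ χ) - l χ i
  f_zero_le : ∀ χ, χ ≠ one → ((∃ i, m i χ ≠ 0) ∨ γ χ ≠ 0) →
    m 0 χ + ((∑ j, l χ j) - γ χ) - l χ 0 ≤ 2 * ((∑ j, k χ j) - k χ 0)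
  k_pos : ∀ χ, χ ≠ one → ((∃ i, m i χ ≠ 0) ∨ γ χ ≠ 0) → 1 ≤ ∑ j, k χ j
  n_ge : ∀ χ, χ ≠ one → ((∃ i, m i χ ≠ 0) ∨ γ χ ≠ 0) →
    (∑ j, l χ j) + 15 * ((∑ j, l χ j) - γ χ) +
      12 * (∑ j, (m j χ + ((∑ i, l χ i) - γ χ) - l χ j)) + 64 * (∑ j, k χ j) ≤ n χ
  n_cong : ∀ χ, χ ≠ one → ((∃ i, m i χ ≠ 0) ∨ γ χ ≠ 0) →
    (64 : ℤ) ∣ n χ - 4 * γ χ + 3 * (5 * γ χ - 4 * ∑ j, m j χ)

namespace Data

variable {ι : Type*} [Fintype ι] [DecidableEq ι] (D : Data ι)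

/-- the value at an involution -/
def α (χ : ι) : ℤ := 5 * D.γ χ - 4 * ∑ j, D.m j χ

/-- a character with a nonzero multiplicity or value -/
def Live (χ : ι) : Prop := (∃ i, D.m i χ ≠ 0) ∨ D.γ χ ≠ 0

theorem n_pos (χ : ι) : 0 < D.n χ := by
  by_cases h : χ = D.one
  · rw [h, D.n_one]; norm_num
  · have := D.n_gt χ h; omega

/-- The contribution to a class equation. -/
def term (χ : ι) : ℚ := (D.α χ : ℚ) ^ 2 / (D.n χ : ℚ)

theorem term_nonneg (χ : ι) : 0 ≤ D.term χ :=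
  div_nonneg (sq_nonneg _) (by exact_mod_cast (D.n_pos χ).le)

theorem term_le {χ : ι} {a N : ℤ} (ha : D.α χ ^ 2 ≤ a) (hN : N ≤ D.n χ) (hN0 : 0 < N) :
    D.term χ ≤ (a : ℚ) / N := by
  unfold term
  have h1 : ((D.α χ : ℚ) ^ 2) ≤ (a : ℚ) := by exact_mod_cast ha
  have h2 : (N : ℚ) ≤ (D.n χ : ℚ) := by exact_mod_cast hN
  exact div_le_div₀ ((sq_nonneg _).trans h1) h1 (by exact_mod_cast hN0) h2

theorem n_bounds {χ : ι} (h1 : χ ≠ D.one) (hl : D.Live χ) :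
    64 * (∑ j, D.k χ j) + D.α χ ≤ D.n χ ∧ 64 * (∑ j, D.k χ j) - 3 * D.α χ ≤ D.n χ := by
  have hge := D.n_ge χ h1 hl
  have ho := D.o_nonneg χ h1 hl
  have hL : 0 ≤ ∑ j, D.l χ j := sum_nonneg fun i _ => D.l_nonneg χ h1 hl i
  have hF : 0 ≤ ∑ j, (D.m j χ + ((∑ i, D.l χ i) - D.γ χ) - D.l χ j) :=
    sum_nonneg fun i _ => D.f_nonneg χ h1 hl i
  simp only [Fin.sum_univ_five] at hge ho hL hF
  simp only [α, Fin.sum_univ_five]
  constructor <;> omega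

theorem dvd_n {χ : ι} (h1 : χ ≠ D.one) (hl : D.Live χ) :
    (64 : ℤ) ∣ D.n χ - 4 * D.γ χ + 3 * D.α χ := D.n_cong χ h1 hl

/-- If the moved part has no linear constituent outside the trivial one, then `γ = m 0`. -/
theorem gamma_eq_m0 {χ : ι} (h1 : χ ≠ D.one) (hl : D.Live χ)
    (hk : ∀ i, i ≠ 0 → D.k χ i = 0) : D.γ χ = D.m 0 χ := by
  have hl0 : ∀ i, i ≠ 0 → D.l χ i = 0 := fun i hi => by
    have h2 := D.l_le χ h1 hl i
    have h3 := D.l_nonneg χ h1 hl i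
    rw [hk i hi] at h2
    omega
  have h4 := D.f_nonneg χ h1 hl 0
  have h5 := D.f_zero_le χ h1 hl
  have := hl0 1 (by decide); have := hl0 2 (by decide); have := hl0 3 (by decide)
  have := hl0 4 (by decide)
  have := hk 1 (by decide); have := hk 2 (by decide); have := hk 3 (by decide)
  have := hk 4 (by decide)
  simp only [Fin.sum_univ_five] at h4 h5
  omega

theorem sigma_ne_one {χ : ι} (h1 : χ ≠ D.one) : D.σ χ ≠ D.one := fun h =>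
  h1 (D.σ.injective (h.trans D.σ_one.symm))

/-- Two-step periodicity. -/
theorem two_periodic {χ : ι} (h : D.σ (D.σ χ) = χ) :
    D.k χ 4 = D.k χ 1 ∧ D.k χ 3 = D.k χ 2 := by
  have e : ∀ i, D.k χ i = D.k χ (dbl (dbl i)) := fun i => by
    conv_lhs => rw [← h, D.σ_k, D.σ_k]
  exact ⟨(e 1).symm, (e 2).symm⟩

theorem two_periodic_m {χ : ι} (h : D.σ (D.σ χ) = χ) :
    D.m 4 χ = D.m 1 χ ∧ D.m 3 χ = D.m 2 χ := by
  have e : ∀ i, D.m i χ = D.m (dbl (dbl i)) χ := fun i => by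
    conv_lhs => rw [← h, D.σ_m, D.σ_m]
  exact ⟨(e 1).symm, (e 2).symm⟩

theorem two_le_k {χ : ι} (h1 : χ ≠ D.one) (hl : D.Live χ) (h : D.σ (D.σ χ) = χ)
    (hg : D.γ χ ≠ D.m 0 χ) : 2 ≤ ∑ j, D.k χ j := by
  obtain ⟨e4, e3⟩ := D.two_periodic h
  have hk := D.k_nonneg χ h1 hl
  have := hk 0; have := hk 1; have := hk 2
  by_contra hlt
  refine hg (D.gamma_eq_m0 h1 hl fun i hi => ?_)
  simp only [Fin.sum_univ_five] at hlt
  fin_cases i
  · exact absurd rfl hi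
  all_goals (simp only [Fin.reduceFinMk, Fin.isValue]; omega)

theorem four_le_k {χ : ι} (h1 : χ ≠ D.one) (hl : D.Live χ)
    (h : D.σ χ = χ ∨ D.σ (D.σ (D.σ χ)) = χ) (hg : D.γ χ ≠ D.m 0 χ) : 4 ≤ ∑ j, D.k χ j := by
  have e : D.k χ 2 = D.k χ 1 ∧ D.k χ 3 = D.k χ 1 ∧ D.k χ 4 = D.k χ 1 := by
    rcases h with h | h
    · have e : ∀ i, D.k χ i = D.k χ (dbl i) := fun i => by conv_lhs => rw [← h, D.σ_k]
      have a : D.k χ 1 = D.k χ 2 := e 1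
      have b : D.k χ 2 = D.k χ 4 := e 2
      have c : D.k χ 4 = D.k χ 3 := e 4
      omega
    · have e : ∀ i, D.k χ i = D.k χ (dbl (dbl (dbl i))) := fun i => by
        conv_lhs => rw [← h, D.σ_k, D.σ_k, D.σ_k]
      have a : D.k χ 1 = D.k χ 3 := e 1
      have b : D.k χ 3 = D.k χ 4 := e 3
      have c : D.k χ 4 = D.k χ 2 := e 4
      omega
  obtain ⟨e2, e3, e4⟩ := e
  have hk := D.k_nonneg χ h1 hl
  have := hk 0; have := hk 1
  by_contra hlt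
  refine hg (D.gamma_eq_m0 h1 hl fun i hi => ?_)
  simp only [Fin.sum_univ_five] at hlt
  fin_cases i
  · exact absurd rfl hi
  all_goals (simp only [Fin.reduceFinMk, Fin.isValue]; omega)

/-- Sums outside the principal character. -/
theorem sum_erase_one {M : Type*} [AddCommGroup M] (f : ι → M) :
    ∑ χ ∈ univ.erase D.one, f χ = (∑ χ, f χ) - f D.one :=
  Finset.sum_erase_eq_sub (mem_univ _)

end Data

end CfsgLib.UFour73.Arith
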