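import Cfsg.Agent.Lib.UFour73.LocalDefs
import Cfsg.Agent.Lib.UFour73.ArithBase
import Cfsg.Prelude.Def_Characters

/-!
# Interfaces between the layers of the `PSU₃(4)` Sylow type argument

`Setting` is what the group theory supplies, `BlockValues` what the character theory derives from it.
See `coord/notes/S0486_U34_helper38.md`.
-/

set_option autoImplicit false

namespace CfsgLib.UFour73

open CfsgLib.PiHom (zInv)

universe u

/-- The local configuration together with the shape of the involution centralisers and the fusion. -/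
structure Setting (G : Type u) [Group G] extends Local G where
  simple : IsSimpleGroup G
  nonab : ¬ IsMulCommutative G
  sylow : ∃ P : Sylow 2 G, (P : Subgroup G) = S
  cent : ∀ i g, g ∈ Subgroup.centralizer ({a i} : Set G) ↔ ∃ u ∈ θ i, ∃ x ∈ X, g = u * x
  cent_norm : ∀ i, Subgroup.centralizer ({a i} : Set G) ≤ Subgroup.normalizer (θ i : Set G)
  θ_inf : ∀ i, θ i ⊓ X = W0
  four_conj : ∀ s ∈ S, s ∉ zInv S → ∀ t ∈ S, t ∉ zInv S → IsConj s t

variable {G : Type u} [Group G] [Fintype G]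

/-- The principal 2-block as seen from the local configuration. -/
structure BlockValues (D : Local G) (ι : Type*) [Fintype ι] [DecidableEq ι] where
  /-- a primitive fifth root of unity -/
  ζ : ℂ
  hζ : IsPrimitiveRoot ζ 5
  /-- the characters -/
  χ : ι → G → ℂ
  /-- the principal character -/
  one : ι
  /-- degrees -/
  n : ι → ℤ
  /-- values at an element of order four -/
  γ : ι → ℤ
  /-- multiplicities -/
  m : Fin 5 → ι → ℤ
  /-- Galois permutation -/
  σ : Equiv.Perm ι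
  /-- the common value of the class equations -/
  L : ℚ
  irr : ∀ i, Cfsg.IsIrrCharacter G (χ i)
  nonprincipal : ∀ i, i ≠ one → χ i ≠ fun _ => 1
  values : ∀ i, LocalValues D ζ (χ i) (n i) (γ i) (fun j => m j i)
  n_one : n one = 1
  γ_one : γ one = 1
  m_one : ∀ j, m j one = if j = 0 then 1 else 0
  n_gt : ∀ i, i ≠ one → 1 < n i
  gram : ∀ j l, ∑ i, m j i * m l i = 1 + if j = l then 4 else 0
  gamma_sq : ∑ i, γ i * γ i = 16
  m_gamma : ∀ j, ∑ i, m j i * γ i = 4
  deg : ∀ j, ∑ i, n i * m j i = 0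
  L_neg : L < 0
  rec_m : ∀ j, ∑ i, (m j i : ℚ) * ((5 * γ i - 4 * ∑ l, m l i : ℤ) : ℚ) ^ 2 / (n i : ℚ) = L
  rec_γ : ∑ i, (γ i : ℚ) * ((5 * γ i - 4 * ∑ l, m l i : ℤ) : ℚ) ^ 2 / (n i : ℚ) = 0
  σ_one : σ one = one
  σ_n : ∀ i, n (σ i) = n i
  σ_γ : ∀ i, γ (σ i) = γ i
  σ_m : ∀ i j, m j (σ i) = m (Arith.dbl j) i
  σ_kC : ∀ i j, kC D ζ (χ (σ i)) j = kC D ζ (χ i) (Arith.dbl j)
  σ_lC : ∀ i j, lC D ζ (χ (σ i)) j = lC D ζ (χ i) (Arith.dbl j)

end CfsgLib.UFour73
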