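import Cfsg.Agent.Lib.UFour73.ArithMain
import Cfsg.Agent.Lib.UFour73.Setting

/-!
# Assembly of the character theoretic and module theoretic layers
-/

set_option autoImplicit false

namespace CfsgLib.UFour73

universe u

variable {G : Type u} [Group G] [Fintype G]

omit [Fintype G] in
/-- An irreducible character of degree more than one has no fixed vector. -/
theorem fixed_eq_zero {d : ℕ} (ρ : Representation ℂ G (Fin d → ℂ)) (hirr : ρ.IsIrreducible) {n : ℤ}
    (hn : 1 < n) (hd : ρ.character 1 = n) (v : Fin d → ℂ) (hv : ∀ g, ρ g v = v) : v = 0 := by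
  by_contra hv0
  let W : Subrepresentation ρ := ⟨ℂ ∙ v, fun g w hw => by
    obtain ⟨c, rfl⟩ := Submodule.mem_span_singleton.1 hw
    rw [map_smul, hv]
    exact Submodule.smul_mem _ _ (Submodule.mem_span_singleton_self v)⟩
  have : IsSimpleOrder (Subrepresentation ρ) := hirr
  rcases eq_bot_or_eq_top W with h | h
  · have h1 : v ∈ W.toSubmodule := Submodule.mem_span_singleton_self v
    rw [h] at h1
    exact hv0 ((Submodule.mem_bot ℂ).1 h1)
  · have h1 : W.toSubmodule = ⊤ := by rw [h]; rfl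
    have h2 : Module.finrank ℂ W.toSubmodule = 1 := finrank_span_singleton hv0
    rw [h1, finrank_top] at h2
    rw [Representation.char_one, h2] at hd
    have h3 : n = 1 := by exact_mod_cast hd.symm
    omega

/-- The statement proved by the module layer. -/
def LocalBoundsHold (D : Local G) : Prop :=
  ∀ (d : ℕ) (ρ : Representation ℂ G (Fin d → ℂ)), (∀ v, (∀ g, ρ g v = v) → v = 0) →
    ∀ (ζ : ℂ), IsPrimitiveRoot ζ 5 → ∀ (n γ : ℤ) (m : Fin 5 → ℤ),
      LocalValues D ζ ρ.character n γ m →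
      ∃ k l : Fin 5 → ℤ, (∀ j, kC D ζ ρ.character j = k j) ∧ (∀ j, lC D ζ ρ.character j = l j) ∧
        LocalBounds n γ m k l

/-- Block values and local bounds are incompatible. -/
theorem no_blockValues (D : Local G) (hLB : LocalBoundsHold D) {ι : Type*} [Fintype ι]
    [DecidableEq ι] (B : BlockValues D ι) : False := by
  have hex : ∀ i, ∃ k l : Fin 5 → ℤ, i ≠ B.one → (∀ j, kC D B.ζ (B.χ i) j = k j) ∧
      (∀ j, lC D B.ζ (B.χ i) j = l j) ∧ LocalBounds (B.n i) (B.γ i) (fun j => B.m j i) k l := by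
    intro i
    by_cases hi : i = B.one
    · exact ⟨0, 0, fun h => absurd hi h⟩
    obtain ⟨d, ρ, hirr, hχ⟩ := B.irr i
    have hv := B.values i
    rw [← hχ] at hv
    obtain ⟨k, l, h⟩ := hLB d ρ (fixed_eq_zero ρ hirr (B.n_gt i hi) hv.deg) B.ζ B.hζ _ _ _ hv
    exact ⟨k, l, fun _ => hχ ▸ h⟩
  choose k₀ l₀ hkl using hex
  classical
  let k : ι → Fin 5 → ℤ := fun i => if i = B.one then 0 else k₀ i
  let l : ι → Fin 5 → ℤ := fun i => if i = B.one then 0 else l₀ i
  have hk : ∀ i, i ≠ B.one → (∀ j, kC D B.ζ (B.χ i) j = k i j) ∧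
      (∀ j, lC D B.ζ (B.χ i) j = l i j) ∧
        LocalBounds (B.n i) (B.γ i) (fun j => B.m j i) (k i) (l i) := fun i hi => by
    simp only [k, l, if_neg hi]
    exact hkl i hi
  have hne : ∀ i, i ≠ B.one → B.σ i ≠ B.one := fun i hi h =>
    hi (B.σ.injective (h.trans B.σ_one.symm))
  refine Arith.Data.absurd
    { one := B.one, n := B.n, γ := B.γ, m := B.m, σ := B.σ, k := k, l := l,
      n_one := B.n_one, γ_one := B.γ_one, m_one := B.m_one, n_gt := B.n_gt, gram := B.gram,
      gamma_sq := B.gamma_sq, m_gamma := B.m_gamma, deg := B.deg, L := B.L, L_neg := B.L_neg,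
      rec_m := B.rec_m, rec_γ := B.rec_γ, σ_one := B.σ_one, σ_n := B.σ_n, σ_γ := B.σ_γ,
      σ_m := B.σ_m,
      σ_k := ?_, σ_l := ?_,
      k_nonneg := fun i hi _ => (hk i hi).2.2.1
      l_nonneg := fun i hi _ => (hk i hi).2.2.2.1
      l_le := fun i hi _ => (hk i hi).2.2.2.2.1
      o_nonneg := fun i hi _ => (hk i hi).2.2.2.2.2.1
      f_nonneg := fun i hi _ => (hk i hi).2.2.2.2.2.2.1
      f_zero_le := fun i hi _ => (hk i hi).2.2.2.2.2.2.2.1
      k_pos := fun i hi hl => (hk i hi).2.2.2.2.2.2.2.2.1 hl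
      n_ge := fun i hi _ => (hk i hi).2.2.2.2.2.2.2.2.2.1
      n_cong := fun i hi _ => (hk i hi).2.2.2.2.2.2.2.2.2.2 }
  · intro i j
    by_cases hi : i = B.one
    · subst hi; simp [k, B.σ_one]
    · have h := B.σ_kC i j
      rw [(hk _ (hne i hi)).1, (hk i hi).1] at h
      exact_mod_cast h
  · intro i j
    by_cases hi : i = B.one
    · subst hi; simp [l, B.σ_one]
    · have h := B.σ_lC i j
      rw [(hk _ (hne i hi)).2.1, (hk i hi).2.1] at h
      exact_mod_cast h

end CfsgLib.UFour73
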