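import Cfsg.Agent.Lib.UThreeSylow.FourBase
import Cfsg.Agent.Lib.UThreeSylow.Central

/-!
# Sylow 2-subgroups of type `PSU₃(4)`: reduction to simple groups

A group without core and without proper normal subgroups of odd index is a 2-group or simple.
-/

set_option autoImplicit false
set_option linter.style.haveILetI false
set_option linter.unusedSectionVars false

namespace CfsgLib.UThreeSylow

open Subgroup

universe u

variable {G : Type u} [Group G] [Finite G] {S : Sylow 2 G}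

/-- One central involution in `Z(S)` makes the Sylow subgroup normal. -/
theorem four_normal_of_central (h : UT ↥(S : Subgroup G) 4) (hO : Cfsg.oddCore G = ⊥) {a : G}
    (ha : a ∈ zS S) (ha1 : a ≠ 1) (hac : a ∈ center G) : (S : Subgroup G).Normal := by
  refine normal_of_central h le_rfl hO fun b hb => ?_
  by_contra hbc
  obtain ⟨n, -, he⟩ := fused_of_not_central h hO hb ha hbc ha1
  refine hbc ?_
  rw [show b = n⁻¹ * (n * b * n⁻¹) * n by group, he, mem_center_iff.1 hac n⁻¹, inv_mul_cancel_right]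
  exact hac

/-- The centralisers of the involutions of `Z(S)` are closed over their cores. -/
theorem four_coreClosed_centralizer (h : UT ↥(S : Subgroup G) 4) {a : G} (ha : a ∈ zS S)
    (ha1 : a ≠ 1) : CoreClosed ↥(centralizer ({a} : Set G)) := by
  have : Fact (Nat.Prime 2) := ⟨Nat.prime_two⟩
  set C := centralizer ({a} : Set G)
  have hSC := le_centralizer_of_mem_zS (S := S) ha
  set T : Sylow 2 C := S.subtype hSC
  haveI : (Cfsg.oddCore C).Normal := Cfsg.pPrimeCore_normal 2 _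
  set O := Cfsg.oddCore C
  have hodd : Odd (Nat.card O) := Nat.coprime_two_right.1 CfsgLib.PCore.pPrimeCore_coprime
  set Tb : Sylow 2 (C ⧸ O) := T.mapSurjective (QuotientGroup.mk'_surjective O)
  have hinj : Function.Injective ((QuotientGroup.mk' O).domRestrict (T : Subgroup C)) := by
    rw [injective_iff_map_eq_one]
    intro x hx
    have hxO : (x : C) ∈ O := (QuotientGroup.eq_one_iff _).1 hx
    obtain ⟨j, hj⟩ := T.2 x
    refine orderOf_eq_one_iff.1 (Nat.eq_one_of_dvd_coprimes ((Nat.coprime_two_left.2 hodd).pow_left j)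
      (orderOf_dvd_of_pow_eq_one hj) ?_)
    rw [← Subgroup.orderOf_coe]
    exact O.orderOf_dvd_natCard hxO
  have hut : UT ↥(Tb : Subgroup (C ⧸ O)) 4 :=
    ut_of_equiv ((MonoidHom.ofInjective hinj).trans (MulEquiv.subgroupCongr
      (MonoidHom.domRestrict_range _ _))) (ut_of_equiv (subgroupOfEquivOfLe hSC).symm h)
  have hO' : Cfsg.oddCore (C ⧸ O) = ⊥ := CfsgLib.PCore.pPrimeCore_quotient_pPrimeCore
  set aC : C := ⟨a, mem_centralizer_singleton_iff.2 rfl⟩
  set ab := QuotientGroup.mk' O aC with hab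
  have habc : ab ∈ center (C ⧸ O) := by
    refine mem_center_iff.2 fun g => ?_
    obtain ⟨g, rfl⟩ := QuotientGroup.mk'_surjective O g
    rw [hab, ← map_mul, ← map_mul]
    congr 1
    exact Subtype.ext (mem_centralizer_singleton_iff.1 g.2)
  have habS : ab ∈ zS Tb := by
    refine mem_zS.2 ⟨mem_map_of_mem _ (mem_subgroupOf.2 (zS_le ha) : aC ∈ (T : Subgroup C)), fun s _ =>
      mem_center_iff.1 habc s⟩
  have hab1 : ab ≠ 1 := fun e => by
    have h1 := O.orderOf_dvd_natCard ((QuotientGroup.eq_one_iff aC).1 e)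
    rw [← Subgroup.orderOf_coe, show ((aC : C) : G) = a from rfl,
      orderOf_eq_prime (show a ^ 2 = 1 by rw [pow_two, zS_sq h ha]) ha1] at h1
    exact hodd.not_two_dvd_nat h1
  exact coreClosed_of_normal_quotient T (four_normal_of_central hut hO' habS hab1 habc)

/-- Without core and without proper normal subgroups of odd index: a 2-group or simple. -/
theorem four_simple_or_top (h : UT ↥(S : Subgroup G) 4) (hO : Cfsg.oddCore G = ⊥)
    (hO' : ∀ N : Subgroup G, N.Normal → Odd N.index → N = ⊤) :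
    (S : Subgroup G) = ⊤ ∨ (IsSimpleGroup G ∧ ¬ IsMulCommutative G) := by
  have : Fact (Nat.Prime 2) := ⟨Nat.prime_two⟩
  by_cases hcen : ∃ a ∈ zS S, a ≠ 1 ∧ a ∈ center G
  · obtain ⟨a, ha, ha1, hac⟩ := hcen
    refine Or.inl (hO' _ (four_normal_of_central h hO ha ha1 hac) ?_)
    rw [← Nat.not_even_iff_odd, even_iff_two_dvd]
    exact S.not_dvd_index
  push Not at hcen
  have hfus : ∀ a ∈ zS S, ∀ b ∈ zS S, a ≠ 1 → b ≠ 1 →
      ∃ n ∈ normalizer ((S : Subgroup G) : Set G), n * a * n⁻¹ = b :=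
    fun a ha b hb ha1 hb1 => fused_of_not_central h hO ha hb (hcen a ha ha1) hb1
  obtain ⟨a, ha, ha1, -⟩ := exists_other (a := 1) h
  have hna : ¬ IsMulCommutative G := fun hc =>
    hcen a ha ha1 (mem_center_iff.2 fun g => hc.is_comm.comm g a)
  refine Or.inr ⟨?_, hna⟩
  have hnt : Nontrivial G := ⟨⟨a, 1, ha1⟩⟩
  refine ⟨fun N hN => or_iff_not_imp_left.2 fun hNbot => ?_⟩
  haveI := hN
  -- an involution of `Z(S)` in `N`
  have hNeven : ¬ Odd (Nat.card N) := fun ho =>
    hNbot (le_bot_iff.1 (hO ▸ le_sSup ⟨hN, Nat.coprime_two_right.2 ho⟩))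
  obtain ⟨P, hP⟩ := exists_sylow_subgroupOf N S
  have hconjN : ∀ t ∈ N, t * t = 1 → ∃ m ∈ N, m * t * m⁻¹ ∈ zS S := by
    intro t ht ht2
    have hp : IsPGroup 2 ↥(zpowers (⟨t, ht⟩ : N)) := by
      obtain ⟨k, -, hk⟩ := (Nat.dvd_prime_pow Nat.prime_two).1 (show orderOf (⟨t, ht⟩ : N) ∣ 2 ^ 1 by
        refine orderOf_dvd_of_pow_eq_one ?_
        rw [pow_one, pow_two]; exact Subtype.ext ht2)
      exact IsPGroup.of_card (n := k) (by rw [Nat.card_zpowers, hk])
    obtain ⟨Q, hQ⟩ := hp.exists_le_sylow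
    obtain ⟨m, hm⟩ := MulAction.exists_smul_eq N Q P
    refine ⟨m, m.2, ?_⟩
    have h1 : m * ⟨t, ht⟩ * m⁻¹ ∈ (P : Subgroup N) := by
      rw [← hm, Sylow.coe_subgroup_smul]
      exact ⟨_, hQ (mem_zpowers _), rfl⟩
    rw [hP, mem_comap] at h1
    refine mem_zS_of_sq h h1 ?_
    rw [show (m : G) * t * (m : G)⁻¹ * ((m : G) * t * (m : G)⁻¹) = m * (t * t) * (m : G)⁻¹ by group, ht2]
    group
  obtain ⟨t, ht⟩ := exists_prime_orderOf_dvd_card' (G := N) 2 (even_iff_two_dvd.1 (Nat.not_odd_iff_even.1 hNeven))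
  have htt : (t : G) * t = 1 := by
    rw [← Subgroup.orderOf_coe] at ht
    rw [← pow_two, ← ht, pow_orderOf_eq_one]
  obtain ⟨m, hm, hu⟩ := hconjN t t.2 htt
  set u := m * (t : G) * m⁻¹ with hu'
  have hu1 : u ≠ 1 := fun e => by
    have : (t : G) = 1 := by rw [show (t : G) = m⁻¹ * u * m by rw [hu']; group, e]; group
    rw [OneMemClass.coe_eq_one] at this
    rw [this, orderOf_one] at ht
    exact absurd ht (by norm_num)
  have huN : u ∈ N := hN.conj_mem _ t.2 _
  have hZN : ∀ b ∈ zS S, b ∈ N := by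
    intro b hb
    rcases eq_or_ne b 1 with rfl | hb1
    · exact one_mem _
    obtain ⟨n, -, hn⟩ := hfus u hu b hb hu1 hb1
    exact hn ▸ hN.conj_mem _ huN _
  -- every involution of `Z(S)` has another conjugate under `N`
  have hmove : ∀ b ∈ zS S, b ≠ 1 → ∃ g ∈ N, g * b * g⁻¹ ∈ zS S ∧ g * b * g⁻¹ ≠ b := by
    intro b hb hb1
    by_contra hno
    push Not at hno
    have hbN := hZN b hb
    have hbo : orderOf (⟨b, hbN⟩ : N) = 2 := by
      rw [Subgroup.orderOf_mk]
      exact orderOf_eq_prime (by rw [pow_two, zS_sq h hb]) hb1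
    obtain ⟨K, hK, hKodd, hc⟩ := Cfsg.Agent.S0215.result P ⟨b, hbN⟩ hbo
      (by show (⟨b, hbN⟩ : N) ∈ (P : Subgroup N); rw [hP, mem_comap]; exact zS_le hb) (fun g hg => by
        have hg' : g * ⟨b, hbN⟩ * g⁻¹ ∈ (P : Subgroup N) := hg
        rw [hP, mem_comap] at hg'
        refine Subtype.ext ?_
        simp only [map_mul, map_inv, coe_subtype] at hg'
        simp only [Subgroup.coe_mul, Subgroup.coe_inv]
        exact hno g g.2 (mem_zS_of_sq h hg' (by
          rw [show (g : G) * b * (g : G)⁻¹ * ((g : G) * b * (g : G)⁻¹) = g * (b * b) * (g : G)⁻¹ by group,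
            zS_sq h hb]
          group)))
    have hKle : K ≤ Cfsg.oddCore N := le_sSup ⟨hK, Nat.coprime_two_right.2 hKodd⟩
    haveI : (Cfsg.oddCore N).Characteristic := CfsgLib.PCore.pPrimeCore_characteristic_inst
    have hmap : (Cfsg.oddCore N).map N.subtype ≤ Cfsg.oddCore G := by
      refine le_sSup ⟨inferInstance, ?_⟩
      rw [card_map_of_injective N.subtype_injective]
      exact CfsgLib.PCore.pPrimeCore_coprime
    rw [hO] at hmap
    have hbc : (⟨b, hbN⟩ : N) ∈ center N := by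
      refine mem_center_iff.2 fun g => ?_
      have h1 := hKle (hc g)
      have h2 : ((⟨b, hbN⟩ * g * (⟨b, hbN⟩ : N)⁻¹ * g⁻¹ : N) : G) = 1 :=
        mem_bot.1 (hmap ⟨_, h1, rfl⟩)
      rw [OneMemClass.coe_eq_one, mul_inv_eq_one, mul_inv_eq_iff_eq_mul] at h2
      exact h2.symm
    -- then `Z(S)` is normal
    have hcG : ∀ g : G, ∀ y ∈ zS S, g * y * g⁻¹ ∈ zS S := by
      have hall : ∀ y, (hy : y ∈ zS S) → (⟨y, hZN y hy⟩ : N) ∈ center N := by
        intro y hy
        rcases eq_or_ne y 1 with rfl | hy1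
        · exact one_mem _
        obtain ⟨n, -, hn⟩ := hfus b hb y hy hb1 hy1
        refine mem_center_iff.2 fun g => Subtype.ext ?_
        have h1 := congrArg Subtype.val (mem_center_iff.1 hbc
          ⟨n⁻¹ * (g : G) * n⁻¹⁻¹, hN.conj_mem _ g.2 _⟩)
        simp only [Subgroup.coe_mul, inv_inv] at h1
        show (g : G) * y = y * g
        rw [← hn]
        calc (g : G) * (n * b * n⁻¹) = n * (n⁻¹ * g * n * b) * n⁻¹ := by group
          _ = n * (b * (n⁻¹ * g * n)) * n⁻¹ := by rw [h1]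
          _ = n * b * n⁻¹ * g := by group
      intro g y hy
      have hgy : g * y * g⁻¹ ∈ N := hN.conj_mem _ (hZN y hy) _
      obtain ⟨m', hm', hy'⟩ := hconjN _ hgy (by
        rw [show g * y * g⁻¹ * (g * y * g⁻¹) = g * (y * y) * g⁻¹ by group, zS_sq h hy]; group)
      have h1 := congrArg Subtype.val (mem_center_iff.1 (hall y hy)
        ⟨g⁻¹ * m' * g⁻¹⁻¹, hN.conj_mem _ hm' _⟩)
      simp only [Subgroup.coe_mul, inv_inv] at h1
      have h2 : m' * (g * y * g⁻¹) * m'⁻¹ = g * y * g⁻¹ := by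
        calc m' * (g * y * g⁻¹) * m'⁻¹ = g * (g⁻¹ * m' * g * y) * g⁻¹ * m'⁻¹ := by group
          _ = g * (y * (g⁻¹ * m' * g)) * g⁻¹ * m'⁻¹ := by rw [h1]
          _ = g * y * g⁻¹ := by group
      rwa [h2] at hy'
    haveI : (zS S).Normal := ⟨fun y hy g => hcG g y hy⟩
    have hCS : (S : Subgroup G) ≤ centralizer (zS S : Set G) := fun s hs =>
      mem_centralizer_iff.2 fun y hy => ((mem_zS.1 hy).2 s hs).symm
    have htop := hO' (centralizer (zS S : Set G)) inferInstance (by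
      rw [← Nat.not_even_iff_odd, even_iff_two_dvd]
      exact fun hd => S.not_dvd_index (hd.trans (index_dvd_of_le hCS)))
    exact hcen b hb hb1 (mem_center_iff.2 fun g =>
      (mem_centralizer_iff.1 (htop ▸ mem_top g) b hb).symm)
  -- `N` is transitive on the involutions of `Z(S)`
  have htrans : ∀ b ∈ zS S, b ≠ 1 → ∀ c ∈ zS S, c ≠ 1 → ∃ g ∈ N, g * b * g⁻¹ = c := by
    intro b hb hb1 c hc hc1
    rcases eq_or_ne b c with rfl | hbc
    · exact ⟨1, one_mem _, by group⟩
    obtain ⟨g, hg, hgS, hgb⟩ := hmove b hb hb1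
    rcases zS_cases h hb hc hb1 hc1 hbc hgS with e | e | e | e
    · exact absurd (conj_eq_one_iff.1 e) hb1
    · exact absurd e hgb
    · exact ⟨g, hg, e⟩
    obtain ⟨g', hg', hgS', hgc⟩ := hmove c hc hc1
    rcases zS_cases h hb hc hb1 hc1 hbc hgS' with e' | e' | e' | e'
    · exact absurd (conj_eq_one_iff.1 e') hc1
    · refine ⟨g'⁻¹, inv_mem hg', ?_⟩
      rw [← e']; group
    · exact absurd e' hgc
    · refine ⟨g'⁻¹ * g, mul_mem (inv_mem hg') hg, ?_⟩
      rw [show g'⁻¹ * g * b * (g'⁻¹ * g)⁻¹ = g'⁻¹ * (g * b * g⁻¹) * g' by group, e, ← e']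
      group
  -- `G / N` is solvable
  haveI : Group.IsSolvable ↥(centralizer ({a} : Set G)) :=
    solvable_of_coreClosed (four_coreClosed_centralizer h ha ha1)
  haveI : Group.IsSolvable (G ⧸ N) := by
    refine Group.isSolvable_of_surjective (f := (QuotientGroup.mk' N).comp
      (centralizer ({a} : Set G)).subtype) fun x => ?_
    obtain ⟨g, rfl⟩ := QuotientGroup.mk'_surjective N x
    have hga : g * a * g⁻¹ ∈ N := hN.conj_mem _ (hZN a ha) _
    obtain ⟨m', hm', hy'⟩ := hconjN _ hga (by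
      rw [show g * a * g⁻¹ * (g * a * g⁻¹) = g * (a * a) * g⁻¹ by group, zS_sq h ha]; group)
    have hne : m' * (g * a * g⁻¹) * m'⁻¹ ≠ 1 := fun e =>
      ha1 (conj_eq_one_iff.1 (conj_eq_one_iff.1 e))
    obtain ⟨k, hk, hka⟩ := htrans _ hy' hne a ha ha1
    refine ⟨⟨k * m' * g, mem_centralizer_singleton_iff.2 ?_⟩, ?_⟩
    · refine eq_mul_of_mul_inv_eq ?_
      conv_rhs => rw [← hka]
      group
    · show QuotientGroup.mk' N (k * m' * g) = QuotientGroup.mk' N g
      rw [map_mul, show QuotientGroup.mk' N (k * m') = 1 from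
        (QuotientGroup.eq_one_iff _).2 (mul_mem hk hm'), one_mul]
  by_contra hNtop
  haveI : Nontrivial (G ⧸ N) := by
    refine not_subsingleton_iff_nontrivial.1 fun hs => hNtop (eq_top_iff.2 fun g _ => ?_)
    exact (QuotientGroup.eq_one_iff g).1 (Subsingleton.elim _ _)
  set K := (_root_.commutator (G ⧸ N)).comap (QuotientGroup.mk' N) with hKdef
  have hKne : K ≠ ⊤ := fun e => by
    have := Group.IsSolvable.commutator_lt_top_of_nontrivial (G ⧸ N)
    refine this.ne ?_
    rw [← map_comap_eq_self_of_surjective (QuotientGroup.mk'_surjective N) (_root_.commutator (G ⧸ N)),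
      ← hKdef, e, map_top_of_surjective _ (QuotientGroup.mk'_surjective N)]
  have hcomm : ∀ x y : G, x * y * x⁻¹ * y⁻¹ ∈ K := fun x y => by
    rw [hKdef, mem_comap, map_mul, map_mul, map_mul, map_inv, map_inv, ← commutatorElement_def]
    exact commutator_mem_commutator (mem_top _) (mem_top _)
  -- an element of `N(S)` without fixed points on `S`
  obtain ⟨b, hb, hb1, hba⟩ := exists_other (a := a) h
  obtain ⟨n, hn, hna'⟩ := hfus a ha b hb ha1 hb1
  have hfree : ∀ s ∈ (S : Subgroup G), n * s * n⁻¹ = s → s = 1 := by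
    intro s hs he
    have hz : ∀ y ∈ zS S, n * y * n⁻¹ = y → y = 1 := fun y hy hye => by
      by_contra hy1
      exact hba (hna'.symm.trans (fix_zS h hn hy hy1 hye ha))
    have h2 : s * s = 1 := hz _ (sq_mem_zS h hs)
      (by rw [show n * (s * s) * n⁻¹ = (n * s * n⁻¹) * (n * s * n⁻¹) by group, he])
    exact hz s (mem_zS_of_sq h hs h2) he
  let f : ↥(S : Subgroup G) → ↥(S : Subgroup G) := fun s =>
    ⟨(s : G)⁻¹ * (n * s * n⁻¹), mul_mem (inv_mem s.2) ((mem_normalizer_iff.1 hn s).1 s.2)⟩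
  have hfi : Function.Injective f := by
    intro x y e
    have e' : (x : G)⁻¹ * (n * x * n⁻¹) = (y : G)⁻¹ * (n * y * n⁻¹) := congrArg Subtype.val e
    refine Subtype.ext (mul_inv_eq_one.1 (hfree _ (mul_mem x.2 (inv_mem y.2)) ?_))
    rw [show n * ((x : G) * (y : G)⁻¹) * n⁻¹ = (n * x * n⁻¹) * (n * y * n⁻¹)⁻¹ by group,
      show n * x * n⁻¹ = (x : G) * ((y : G)⁻¹ * (n * y * n⁻¹)) by rw [← e']; group]
    group
  have hSK : (S : Subgroup G) ≤ K := by
    intro s hs
    obtain ⟨x, hx⟩ := Finite.surjective_of_injective hfi ⟨s, hs⟩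
    have hx' : (x : G)⁻¹ * (n * x * n⁻¹) = s := congrArg Subtype.val hx
    rw [← hx', show (x : G)⁻¹ * (n * x * n⁻¹) = (x : G)⁻¹ * n * (x : G)⁻¹⁻¹ * n⁻¹ by group]
    exact hcomm _ _
  refine hKne (hO' K (hKdef ▸ inferInstance) ?_)
  rw [← Nat.not_even_iff_odd, even_iff_two_dvd]
  exact fun hd => S.not_dvd_index (hd.trans (index_dvd_of_le hSK))

end CfsgLib.UThreeSylow
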