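import Cfsg.Agent.Lib.UThreeSylow.Main
import Cfsg.Agent.Lib.UThreeSylow.FourClosed
import Cfsg.Agent.Lib.UFour73.Simple
import Cfsg.Agent.Lib.UFour73.Assemble

/-!
# Simple groups with Sylow 2-subgroups of the type of `PSU₃(4)`: the ending

A strongly embedded subgroup gives `PSU₃(4)` by Bender's theorem; the local configuration is
impossible by the block argument.
-/

set_option autoImplicit false
set_option linter.style.haveILetI false

namespace CfsgLib.UFour73

open Subgroup CfsgLib.InvCharSixtyFour CfsgLib.UThreeSylow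

universe u v

/-- A Sylow 2-subgroup of `PSU₃(4)` has the abstract type. -/
theorem hermLike_of_psu {G : Type u} [Group G] {F : Type v} [Field F] [Fintype F]
    (hF : Fintype.card F = 16) (S : Sylow 2 G) (P : Sylow 2 (Cfsg.PSU 3 F 4))
    (hS : Nonempty ((S : Subgroup G) ≃* (P : Subgroup (Cfsg.PSU 3 F 4)))) :
    HermLike ↥(S : Subgroup G) 4 := by
  have hF' : Fintype.card F = 4 ^ 2 := by rw [hF]; norm_num
  let _ := InvCharThree.hermGroup hF' (show Even 4 by decide)
  obtain ⟨g⟩ := InvCharThree.herm_equiv_sylow_psu hF' (show Even 4 by decide) (n := 2) rfl P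
  obtain ⟨e⟩ := hS
  exact hermLike_of_equiv (g.trans e.symm) (hermLike_herm hF' (show Even 4 by decide))

variable {G : Type u} [Group G] [Finite G] [IsSimpleGroup G]

/-- A strongly embedded subgroup identifies the group. -/
theorem psu_of_stronglyEmbedded (hna : ¬ IsMulCommutative G) {F : Type v} [Field F] [Fintype F]
    (hF : Fintype.card F = 16) (S : Sylow 2 G) (h : HermLike ↥(S : Subgroup G) 4)
    {H : Subgroup G} (hH : Cfsg.IsStronglyEmbedded H) :
    Nonempty (G ≃* Cfsg.PSU 3 F 4) := by
  have : Fact (Nat.Prime 2) := ⟨Nat.prime_two⟩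
  obtain ⟨t, ht⟩ := exists_prime_orderOf_dvd_card' (G := ↥H) 2 (even_iff_two_dvd.1 hH.2.1)
  rw [← Subgroup.orderOf_coe] at ht
  have hO : Cfsg.oddCore G = ⊥ := CfsgLib.CoreKill.oddCore_eq_bot_of_simple ht
  rcases BenderQ.classification BenderQ.benderKernel RankOneRecog.rankOneClass hH with h1 | h1
  · exfalso
    have h2 := (h1 t ht).1
    rw [show Cfsg.pPrimeCore 2 G = ⊥ from hO, bot_sup_eq] at h2
    have hc : (t : G) ∈ center G :=
      mem_center_iff.2 fun g => mem_centralizer_singleton_iff.1 (h2 ▸ mem_top g)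
    rcases (inferInstance : (center G).Normal).eq_bot_or_eq_top with hb | hb
    · rw [hb, mem_bot] at hc
      rw [hc, orderOf_one] at ht
      exact absurd ht (by norm_num)
    · exact hna ⟨⟨fun a b => mem_center_iff.1 (hb ▸ mem_top b) a⟩⟩
  · obtain ⟨N, hN, hi, ⟨e⟩⟩ := of_bender (F := F) (q := 4) (n := 2) le_rfl rfl
      (by rw [hF]; norm_num) S (ut_of_hermLike_four h) h1
    let e0 : G ⧸ Cfsg.oddCore G ≃* G :=
      (QuotientGroup.quotientMulEquivOfEq hO).trans QuotientGroup.quotientBot
    haveI : IsSimpleGroup (G ⧸ Cfsg.oddCore G) := e0.isSimpleGroup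
    rcases hN.eq_bot_or_eq_top with rfl | rfl
    · exfalso
      rw [index_bot, ← Nat.not_even_iff_odd, even_iff_two_dvd, Nat.card_congr e0.toEquiv] at hi
      exact hi (ht ▸ orderOf_dvd_natCard _)
    · exact ⟨(e0.symm.trans topEquiv.symm).trans e⟩

end CfsgLib.UFour73

namespace CfsgLib.UFour73

open Subgroup CfsgLib.InvCharSixtyFour CfsgLib.UThreeSylow

universe u v

variable {G : Type u} [Group G] [Fintype G] [IsSimpleGroup G]

/-- The simple case, from the group theoretic, character theoretic and module theoretic layers. -/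
theorem psu_of_layers (hna : ¬ IsMulCommutative G) {F : Type v} [Field F] [Fintype F]
    (hF : Fintype.card F = 16) (S : Sylow 2 G) (h : HermLike ↥(S : Subgroup G) 4)
    (hGT : (∃ H : Subgroup G, Cfsg.IsStronglyEmbedded H) ∨ Nonempty (Setting G))
    (hchar : ∀ D : Setting G, ∃ (ι : Type u) (_ : Fintype ι) (_ : DecidableEq ι),
      Nonempty (BlockValues D.toLocal ι))
    (hmod : ∀ D : Local G, LocalBoundsHold D) :
    Nonempty (G ≃* Cfsg.PSU 3 F 4) := by
  rcases hGT with ⟨H, hH⟩ | ⟨⟨D⟩⟩
  · exact psu_of_stronglyEmbedded hna hF S h hH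
  · obtain ⟨ι, i1, i2, ⟨B⟩⟩ := hchar D
    exact (no_blockValues D.toLocal (hmod _) B).elim

/-- A group with Sylow 2-subgroups of the type of `PSU₃(4)` is not commutative. -/
theorem not_comm_of_hermLike {H : Type u} [Group H] [Finite H] (S : Sylow 2 H)
    (h : HermLike ↥(S : Subgroup H) 4) : ¬ IsMulCommutative H := fun hc => by
  obtain ⟨x, hx⟩ := exists_noncentral (ut_of_hermLike_four h) (by norm_num)
  exact hx (mem_center_iff.2 fun g => Subtype.ext (hc.is_comm.comm _ _))

end CfsgLib.UFour73
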