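import Cfsg.Agent.Lib.UFour73.ModuleLinear

/-!
# Representations of an extension of a group of type `2^{2+4} : 5`

`X` has a normal subgroup `W₀` acting trivially and `X / W₀` is `S : C₅` with `A = Z(S)` of order
four.
-/

set_option autoImplicit false
set_option linter.unusedSectionVars false

namespace CfsgLib.UFour73.Mod

open Module
open scoped Classical

/-- The group theoretic data. -/
structure XData (X : Type*) [Group X] where
  /-- the 2-group -/
  S : Subgroup X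
  /-- its centre -/
  A : Subgroup X
  /-- the kernel -/
  W0 : Subgroup X
  /-- an element of order five modulo `W0` -/
  r : X
  /-- an involution of `A` -/
  a : X
  card_S : Nat.card S = 64
  card_A : Nat.card A = 4
  A_le : A ≤ S
  A_sq : ∀ z ∈ A, z * z = 1
  a_mem : a ∈ A
  a_ne : a ≠ 1
  central : ∀ z ∈ A, ∀ g : X, z * g = g * z
  conj_S : ∀ s ∈ S, r * s * r⁻¹ ∈ S
  cm_onto : ∀ s ∈ S, s ∉ A → ∀ z ∈ A, ∃ t ∈ S, t * s * t⁻¹ = z * s
  r_pow : r ^ 5 ∈ W0
  free : ∀ k : ℕ, ¬ 5 ∣ k → ∀ s ∈ S, r ^ k * s * (r ^ k)⁻¹ * s⁻¹ ∈ A → s ∈ A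
  bij : Function.Bijective fun p : Fin 5 × S × W0 => r ^ p.1.val * (p.2.1 : X) * (p.2.2 : X)

variable {X : Type*} [Group X] [Fintype X] (D : XData X)

/-- The sign character of `A`. -/
noncomputable def XData.lam : ↥D.A →* ℂ where
  toFun z := if z ∈ Subgroup.zpowers (⟨D.a, D.a_mem⟩ : ↥D.A) then 1 else -1
  map_one' := by rw [if_pos (one_mem _)]
  map_mul' z w := by
    have hord : orderOf (⟨D.a, D.a_mem⟩ : ↥D.A) = 2 := by
      refine orderOf_eq_prime (Subtype.ext ?_) fun h => D.a_ne (congrArg Subtype.val h)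
      simp [pow_two, D.A_sq _ D.a_mem]
    have hidx : (Subgroup.zpowers (⟨D.a, D.a_mem⟩ : ↥D.A)).index = 2 := by
      have h := Subgroup.card_mul_index (Subgroup.zpowers (⟨D.a, D.a_mem⟩ : ↥D.A))
      rw [Nat.card_zpowers, hord, D.card_A] at h
      omega
    have h := Subgroup.mul_mem_iff_of_index_two hidx (a := z) (b := w)
    by_cases h1 : z ∈ Subgroup.zpowers (⟨D.a, D.a_mem⟩ : ↥D.A) <;>
      by_cases h2 : w ∈ Subgroup.zpowers (⟨D.a, D.a_mem⟩ : ↥D.A) <;>
      simp [h1, h2, h]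

namespace XData

theorem lam_sq (z : ↥D.A) : D.lam z * D.lam z = 1 := by
  rw [← map_mul, show z * z = 1 from Subtype.ext (D.A_sq _ z.2), map_one]

theorem exists_lam_neg : ∃ z : ↥D.A, D.lam z = -1 := by
  classical
  by_contra h
  push Not at h
  have hall : ∀ z : ↥D.A, z ∈ Subgroup.zpowers (⟨D.a, D.a_mem⟩ : ↥D.A) := fun z => by
    by_contra hz
    exact h z (by simp [lam, hz])
  have htop : Subgroup.zpowers (⟨D.a, D.a_mem⟩ : ↥D.A) = ⊤ := (Subgroup.eq_top_iff' _).2 hall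
  have hord : orderOf (⟨D.a, D.a_mem⟩ : ↥D.A) ≤ 2 :=
    orderOf_le_of_pow_eq_one two_pos (Subtype.ext (by simp [pow_two, D.A_sq _ D.a_mem]))
  have h2 := congrArg (fun H : Subgroup ↥D.A => Nat.card H) htop
  simp only [Nat.card_zpowers, Subgroup.card_top, D.card_A] at h2
  omega

theorem sum_lam : ∑ z : ↥D.A, D.lam z = 0 := by
  obtain ⟨c, hc⟩ := D.exists_lam_neg
  have h := (Group.mulLeft_bijective c).sum_comp (fun z => D.lam z)
  simp only [map_mul, hc, neg_one_mul, Finset.sum_neg_distrib] at h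
  linear_combination (-(1 / 2) : ℂ) * h

theorem pow_conj_S (k : ℕ) : ∀ s ∈ D.S, D.r ^ k * s * (D.r ^ k)⁻¹ ∈ D.S := by
  induction k with
  | zero => simp
  | succ k ih =>
    intro s hs
    have := D.conj_S _ (ih s hs)
    simpa [pow_succ', mul_assoc] using this

/-- Averaging a class function over a coset `S r^k`. -/
theorem sum_coset (k : ℕ) (hk : ¬ 5 ∣ k) (F : X → ℂ) (hF : ∀ g h, F (h * g * h⁻¹) = F g) :
    ∑ s : ↥D.S, F (s * D.r ^ k) = 16 * ∑ z : ↥D.A, F (z * D.r ^ k) := by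
  let θ : ↥D.S × ↥D.A → ↥D.S := fun p =>
    ⟨p.1 * (D.r ^ k * (p.1 : X)⁻¹ * (D.r ^ k)⁻¹) * p.2,
      D.S.mul_mem (D.S.mul_mem p.1.2 (D.pow_conj_S k _ (D.S.inv_mem p.1.2))) (D.A_le p.2.2)⟩
  have hfib : ∀ s : ↥D.S, (Finset.univ.filter fun p => θ p = s).card ≤ 4 := by
    intro s
    rcases (Finset.univ.filter fun p => θ p = s).eq_empty_or_nonempty with h | ⟨⟨t, z⟩, htz⟩
    · rw [h]; simp
    rw [Finset.mem_filter] at htz
    refine le_trans (Finset.card_le_card_of_injOn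
      (t := Finset.univ.filter fun u : ↥D.S => (u : X) ∈ D.A)
      (fun p => t⁻¹ * p.1) ?_ ?_) ?_
    · rintro ⟨t', z'⟩ hp
      simp only [Finset.coe_filter, Finset.mem_univ, true_and, Set.mem_ofPred_eq] at hp ⊢
      refine D.free k hk _ (t⁻¹ * t').2 ?_
      have e : (θ (t', z') : X) = θ (t, z) := by rw [hp, htz.2]
      simp only [θ] at e
      obtain ⟨c, hc⟩ : ∃ c, c = D.r ^ k := ⟨_, rfl⟩
      rw [← hc] at e ⊢
      show c * ((t : X)⁻¹ * t') * c⁻¹ * ((t : X)⁻¹ * t')⁻¹ ∈ D.A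
      have e2 : (t' : X) * (c * (t' : X)⁻¹ * c⁻¹) =
          (z : X) * (z' : X)⁻¹ * (t * (c * (t : X)⁻¹ * c⁻¹)) := by
        rw [D.central _ (D.A.mul_mem z.2 (D.A.inv_mem z'.2)), ← mul_assoc _ (z : X), ← e]
        group
      have e3 : c * (t' : X)⁻¹ * c⁻¹ =
          (t' : X)⁻¹ * ((z : X) * (z' : X)⁻¹ * (t * (c * (t : X)⁻¹ * c⁻¹))) := by
        rw [← e2]; group
      have e4 : c * ((t : X)⁻¹ * t') * c⁻¹ =
          ((z : X) * (z' : X)⁻¹)⁻¹ * ((t : X)⁻¹ * t') := by
        have e5 : c * ((t : X)⁻¹ * t') * c⁻¹ =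
            (c * (t : X)⁻¹ * c⁻¹) * (c * (t' : X)⁻¹ * c⁻¹)⁻¹ := by group
        rw [e5, e3]
        have hcz := D.central _ (D.A.inv_mem (D.A.mul_mem z.2 (D.A.inv_mem z'.2)))
        rw [show (c * (t : X)⁻¹ * c⁻¹) * ((t' : X)⁻¹ *
          ((z : X) * (z' : X)⁻¹ * (t * (c * (t : X)⁻¹ * c⁻¹))))⁻¹ =
          (t : X)⁻¹ * (((z : X) * (z' : X)⁻¹)⁻¹ * (1 : X)) * t' from ?_]
        · rw [mul_one, ← hcz (t : X)⁻¹, mul_assoc]
        · have h6 : (c * (t : X)⁻¹ * c⁻¹) *
              ((z : X) * (z' : X)⁻¹ * (t * (c * (t : X)⁻¹ * c⁻¹)))⁻¹ =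
              (t : X)⁻¹ * (((z : X) * (z' : X)⁻¹)⁻¹ * (1 : X)) := by
            rw [mul_one]; group
          rw [mul_inv_rev, inv_inv, ← mul_assoc, h6]
      rw [e4, mul_inv_cancel_right]
      exact D.A.inv_mem (D.A.mul_mem z.2 (D.A.inv_mem z'.2))
    · rintro ⟨t', z'⟩ hp ⟨t'', z''⟩ hq e
      simp only [Finset.coe_filter, Finset.mem_univ, true_and, Set.mem_ofPred_eq] at hp hq
      simp only [mul_right_inj] at e
      subst e
      have e2 : (θ (t', z') : X) = θ (t', z'') := by rw [hp, hq]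
      simp only [θ, mul_right_inj] at e2
      rw [Subtype.ext e2]
    · rw [← D.card_A, Nat.card_eq_fintype_card, ← Finset.card_univ]
      exact Finset.card_le_card_of_injOn (fun u : ↥D.S => if h : (u : X) ∈ D.A then ⟨u, h⟩ else 1)
        (fun u _ => Finset.mem_univ _) (by
          intro u hu v hv e
          simp only [Finset.coe_filter, Finset.mem_univ, true_and, Set.mem_ofPred_eq] at hu hv
          simp only [dif_pos hu, dif_pos hv, Subtype.mk.injEq] at e
          exact Subtype.ext e)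
  have hS : Fintype.card ↥D.S = 64 := by rw [← Nat.card_eq_fintype_card, D.card_S]
  have hA : Fintype.card ↥D.A = 4 := by rw [← Nat.card_eq_fintype_card, D.card_A]
  have htot : ∑ s : ↥D.S, (Finset.univ.filter fun p => θ p = s).card = 256 := by
    rw [← Finset.card_eq_sum_card_fiberwise (fun _ _ => Finset.mem_univ _), Finset.card_univ,
      Fintype.card_prod, hS, hA]
  have heq : ∀ s : ↥D.S, (Finset.univ.filter fun p => θ p = s).card = 4 := fun s => by
    refine (Finset.sum_eq_sum_iff_of_le (g := fun _ => 4) fun s _ => hfib s).1 ?_ s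
      (Finset.mem_univ s)
    rw [htot, Finset.sum_const, Finset.card_univ, hS]
    rfl
  have h1 : ∑ p : ↥D.S × ↥D.A, F ((θ p : X) * D.r ^ k) = 4 * ∑ s : ↥D.S, F (s * D.r ^ k) := by
    rw [← Finset.sum_fiberwise Finset.univ θ, Finset.mul_sum]
    refine Finset.sum_congr rfl fun s _ => ?_
    rw [Finset.sum_congr rfl fun p hp => by rw [(Finset.mem_filter.1 hp).2], Finset.sum_const,
      heq s, nsmul_eq_mul]
    norm_num
  have h2 : ∀ p : ↥D.S × ↥D.A, F ((θ p : X) * D.r ^ k) = F (p.2 * D.r ^ k) := fun p => by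
    rw [← hF (p.2 * D.r ^ k) p.1]
    congr 1
    obtain ⟨c, hc⟩ : ∃ c, c = D.r ^ k := ⟨_, rfl⟩
    simp only [θ, ← hc]
    calc (p.1 : X) * (c * (p.1 : X)⁻¹ * c⁻¹) * p.2 * c
        = p.1 * ((c * (p.1 : X)⁻¹ * c⁻¹) * (p.2 : X)) * c := by group
      _ = p.1 * ((p.2 : X) * (c * (p.1 : X)⁻¹ * c⁻¹)) * c := by rw [← D.central _ p.2.2]
      _ = p.1 * (p.2 * c) * (p.1 : X)⁻¹ := by group
  simp only [h2, Fintype.sum_prod_type, Finset.sum_const, Finset.card_univ, hS, nsmul_eq_mul] at h1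
  push_cast at h1
  linear_combination (-(1 / 4) : ℂ) * h1

variable {U : Type*} [AddCommGroup U] [Module ℂ U] [FiniteDimensional ℂ U]
  (τ : Representation ℂ X U)

/-- The twisted action of `A`. -/
noncomputable def fA : ↥D.A →* Module.End ℂ U where
  toFun z := D.lam z • τ z
  map_one' := by simp
  map_mul' z w := by
    simp only [map_mul, Subgroup.coe_mul, smul_mul_assoc, mul_smul_comm, smul_smul]
    rw [mul_comm]

/-- The action of `S`. -/
noncomputable def fS : ↥D.S →* Module.End ℂ U := τ.comp D.S.subtype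

/-- projection on the `λ`-part -/
noncomputable def PA : Module.End ℂ U := avgHom (D.fA τ)

/-- projection on the fixed points of `S` -/
noncomputable def PS : Module.End ℂ U := avgHom (D.fS τ)

/-- projection on an eigenspace of `r` -/
noncomputable def E (ζ : ℂ) (j : Fin 5) : Module.End ℂ U := avgFive ((ζ ^ j.val)⁻¹ • τ D.r)

theorem PA_comm (g : X) : Commute (τ g) (D.PA τ) := by
  classical
  refine Commute.smul_right (Commute.sum_right _ _ _ fun z _ => ?_) _
  refine Commute.smul_right ?_ _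
  show τ g * τ z = τ z * τ g
  rw [← map_mul, ← map_mul, D.central _ z.2]

theorem PS_comm : Commute (τ D.r) (D.PS τ) := by
  classical
  show τ D.r * D.PS τ = D.PS τ * τ D.r
  simp only [PS, avgHom, mul_smul_comm, smul_mul_assoc, Finset.mul_sum, Finset.sum_mul, fS,
    MonoidHom.comp_apply, Subgroup.coe_subtype, ← map_mul]
  congr 1
  refine Finset.sum_bij (fun s _ => (⟨D.r * s * D.r⁻¹, D.conj_S _ s.2⟩ : ↥D.S))
    (fun _ _ => Finset.mem_univ _) (fun s _ t _ e => ?_) (fun s _ => ?_) fun s _ => ?_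
  · simpa using e
  · have hinj : Function.Injective
        (fun s : ↥D.S => (⟨D.r * s * D.r⁻¹, D.conj_S _ s.2⟩ : ↥D.S)) :=
      fun s t e => by simpa using e
    obtain ⟨t, ht⟩ := Finite.injective_iff_surjective.1 hinj s
    exact ⟨t, Finset.mem_univ _, ht⟩
  · simp

variable {τ}

theorem r_five (hW : ∀ w ∈ D.W0, τ w = 1) : τ D.r ^ 5 = 1 := by
  rw [← map_pow]; exact hW _ D.r_pow

theorem Q_five (hW : ∀ w ∈ D.W0, τ w = 1) {ζ : ℂ} (hζ : ζ ^ 5 = 1) (j : Fin 5) :
    ((ζ ^ j.val)⁻¹ • τ D.r) ^ 5 = 1 := by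
  rw [smul_pow, D.r_five hW, inv_pow, ← pow_mul, mul_comm, pow_mul, hζ, one_pow, inv_one, one_smul]

theorem E_comm {P : Module.End ℂ U} (h : Commute (τ D.r) P) (ζ : ℂ) (j : Fin 5) :
    Commute P (D.E τ ζ j) :=
  Commute.smul_right (Commute.sum_right _ _ _ fun _ _ => (h.symm.smul_right _).pow_right _) _

theorem PA_idem : D.PA τ * D.PA τ = D.PA τ := by classical exact avgHom_idem _

theorem PS_idem : D.PS τ * D.PS τ = D.PS τ := by classical exact avgHom_idem _

theorem PAE_idem (hW : ∀ w ∈ D.W0, τ w = 1) {ζ : ℂ} (hζ : ζ ^ 5 = 1) (j : Fin 5) :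
    D.PA τ * D.E τ ζ j * (D.PA τ * D.E τ ζ j) = D.PA τ * D.E τ ζ j :=
  idem_mul D.PA_idem (avgFive_idem (D.Q_five hW hζ j)) (D.E_comm (D.PA_comm τ D.r) ζ j).eq

theorem PSE_idem (hW : ∀ w ∈ D.W0, τ w = 1) {ζ : ℂ} (hζ : ζ ^ 5 = 1) (j : Fin 5) :
    D.PS τ * D.E τ ζ j * (D.PS τ * D.E τ ζ j) = D.PS τ * D.E τ ζ j :=
  idem_mul D.PS_idem (avgFive_idem (D.Q_five hW hζ j)) (D.E_comm (D.PS_comm τ) ζ j).eq

theorem trace_PA :
    LinearMap.trace ℂ U (D.PA τ) = 4⁻¹ * ∑ z : ↥D.A, D.lam z * τ.character z := by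
  classical
  simp only [PA, avgHom, fA, MonoidHom.coe_mk, OneHom.coe_mk, map_smul, map_sum, smul_eq_mul,
    Representation.character, ← Nat.card_eq_fintype_card, D.card_A]
  norm_num

theorem trace_PS : LinearMap.trace ℂ U (D.PS τ) = 64⁻¹ * ∑ s : ↥D.S, τ.character s := by
  classical
  simp only [PS, avgHom, fS, MonoidHom.comp_apply, Subgroup.coe_subtype, map_smul, map_sum,
    smul_eq_mul, Representation.character, ← Nat.card_eq_fintype_card, D.card_S]
  norm_num

theorem trace_PAE (ζ : ℂ) (j : Fin 5) : LinearMap.trace ℂ U (D.PA τ * D.E τ ζ j) =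
    20⁻¹ * ∑ i : Fin 5, (ζ ^ (i.val * j.val))⁻¹ *
      ∑ z : ↥D.A, D.lam z * τ.character (z * D.r ^ i.val) := by
  classical
  simp only [PA, avgHom, fA, E, avgFive, MonoidHom.coe_mk, OneHom.coe_mk, smul_mul_assoc,
    mul_smul_comm, Finset.mul_sum, Finset.sum_mul, smul_pow, ← map_pow, ← map_mul,
    Finset.smul_sum, map_smul, map_sum, smul_eq_mul, Representation.character,
    ← Nat.card_eq_fintype_card, D.card_A, inv_pow, ← pow_mul]
  refine Finset.sum_congr rfl fun i _ => Finset.sum_congr rfl fun z _ => ?_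
  rw [mul_comm j.val i.val]
  push_cast
  ring

theorem trace_PSE (ζ : ℂ) (j : Fin 5) : LinearMap.trace ℂ U (D.PS τ * D.E τ ζ j) =
    320⁻¹ * ∑ i : Fin 5, (ζ ^ (i.val * j.val))⁻¹ *
      ∑ s : ↥D.S, τ.character (s * D.r ^ i.val) := by
  classical
  simp only [PS, avgHom, fS, E, avgFive, MonoidHom.comp_apply, Subgroup.coe_subtype, smul_mul_assoc,
    mul_smul_comm, Finset.mul_sum, Finset.sum_mul, smul_pow, ← map_pow, ← map_mul,
    Finset.smul_sum, map_smul, map_sum, smul_eq_mul, Representation.character,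
    ← Nat.card_eq_fintype_card, D.card_S, inv_pow, ← pow_mul]
  refine Finset.sum_congr rfl fun i _ => Finset.sum_congr rfl fun z _ => ?_
  rw [mul_comm j.val i.val]
  push_cast
  ring

/-- the operators on an invariant subspace -/
theorem restrict_PA (p : Subrepresentation τ) (v : p.toSubmodule) :
    ((D.PA p.toRepresentation v : p.toSubmodule) : U) = D.PA τ v := by
  classical
  simp [PA, avgHom, fA, Subrepresentation.toRepresentation, LinearMap.sum_apply]

theorem restrict_PS (p : Subrepresentation τ) (v : p.toSubmodule) :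
    ((D.PS p.toRepresentation v : p.toSubmodule) : U) = D.PS τ v := by
  classical
  simp [PS, avgHom, fS, Subrepresentation.toRepresentation, LinearMap.sum_apply]

theorem restrict_E (p : Subrepresentation τ) (ζ : ℂ) (j : Fin 5) (v : p.toSubmodule) :
    ((D.E p.toRepresentation ζ j v : p.toSubmodule) : U) = D.E τ ζ j v := by
  have key : ∀ (i : ℕ) (v : p.toSubmodule),
      (((((ζ ^ j.val)⁻¹ • p.toRepresentation D.r) ^ i) v : p.toSubmodule) : U) =
        (((ζ ^ j.val)⁻¹ • τ D.r) ^ i) v := by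
    intro i
    induction i with
    | zero => simp
    | succ i ih =>
      intro v
      rw [pow_succ, pow_succ, Module.End.mul_apply, Module.End.mul_apply, ih]
      rfl
  simp [E, avgFive, LinearMap.sum_apply, key]

theorem map_eq_of_restrict (p : Subrepresentation τ) {P : Module.End ℂ U}
    {Q : Module.End ℂ p.toSubmodule} (h : ∀ v, ((Q v : p.toSubmodule) : U) = P v) :
    finrank ℂ ↥((⊤ : Submodule ℂ p.toSubmodule).map Q) = finrank ℂ ↥(p.toSubmodule.map P) := by
  have e : ((⊤ : Submodule ℂ p.toSubmodule).map Q).map p.toSubmodule.subtype =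
      p.toSubmodule.map P := by
    ext x
    simp only [Submodule.mem_map, Submodule.mem_top, true_and, Submodule.coe_subtype]
    constructor
    · rintro ⟨y, ⟨v, rfl⟩, rfl⟩
      exact ⟨v, v.2, (h v).symm⟩
    · rintro ⟨v, hv, rfl⟩
      exact ⟨_, ⟨⟨v, hv⟩, rfl⟩, h _⟩
  rw [← Submodule.finrank_map_subtype_eq p.toSubmodule, e]

end XData

end CfsgLib.UFour73.Mod
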