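import Cfsg.Agent.Lib.UFour73.LocalDefs
import Cfsg.Agent.Lib.UFour73.ModuleHb

/-!
# The local configuration as an extension of `2^{2+4} : 5`
-/

set_option autoImplicit false
set_option linter.unusedSectionVars false

namespace CfsgLib.UFour73

open CfsgLib.PiHom (zInv mem_zInv zInv_le)
open CfsgLib.InvCharSixtyFour (cm)
open scoped Pointwise

universe u

variable {G : Type u} [Group G]

namespace Local

variable (D : Local G)

theorem S_le : D.S ≤ D.X := by rw [D.X_eq]; exact le_sup_left.trans le_sup_left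

theorem W0_le_X : D.W0 ≤ D.X := by rw [D.X_eq]; exact le_sup_right.trans le_sup_left

theorem r_mem : D.r ∈ D.X := by
  rw [D.X_eq]; exact le_sup_right (a := D.S ⊔ D.W0) (Subgroup.mem_zpowers D.r)

theorem mem_center_iff {s : ↥D.S} : s ∈ Subgroup.center ↥D.S ↔ (s : G) ∈ zInv D.S := by
  rw [Subgroup.mem_center_iff, mem_zInv]
  constructor
  · intro h
    refine ⟨s.2, ?_, fun t ht => congrArg Subtype.val (h ⟨t, ht⟩)⟩
    exact congrArg Subtype.val (D.herm.center_sq s (Subgroup.mem_center_iff.2 h))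
  · rintro ⟨-, -, h⟩ t
    exact Subtype.ext (h t t.2)

theorem card_zInv : Nat.card ↥(zInv D.S) = 4 := by
  rw [← D.herm.card_center]
  exact Nat.card_congr
    ⟨fun z => ⟨⟨z, z.2.1⟩, D.mem_center_iff.2 z.2⟩, fun s => ⟨s.1.1, D.mem_center_iff.1 s.2⟩,
      fun _ => rfl, fun _ => rfl⟩

theorem central {z : G} (hz : z ∈ zInv D.S) {g : G} (hg : g ∈ D.X) : z * g = g * z := by
  have h : D.X ≤ Subgroup.centralizer ({z} : Set G) := by
    rw [D.X_eq]
    refine sup_le (sup_le (fun s hs => ?_) fun w hw => ?_) ((Subgroup.zpowers_le).2 ?_)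
    · exact Subgroup.mem_centralizer_singleton_iff.2 ((hz.2.2 s hs))
    · exact Subgroup.mem_centralizer_singleton_iff.2 (D.W0_comm w hw z hz.1)
    · exact Subgroup.mem_centralizer_singleton_iff.2 (D.r_fix z hz)
  exact (Subgroup.mem_centralizer_singleton_iff.1 (h hg)).symm

theorem pow_five_comm (q : ℕ) {s : G} (hs : s ∈ D.S) :
    D.r ^ (5 * q) * s = s * D.r ^ (5 * q) :=
  D.W0_comm _ (by rw [pow_mul]; exact D.W0.pow_mem D.r_pow q) s hs

theorem r_conj {s : G} (hs : s ∈ D.S) (k : ℕ) : D.r ^ k * s * (D.r ^ k)⁻¹ ∈ D.S := by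
  induction k with
  | zero => simpa using hs
  | succ k ih =>
    have h := (Subgroup.mem_normalizer_iff.1 D.r_norm _).1 ih
    simpa [pow_succ', mul_assoc] using h

theorem free {k : ℕ} (hk : ¬ 5 ∣ k) {s : G} (hs : s ∈ D.S)
    (h : D.r ^ k * s * (D.r ^ k)⁻¹ * s⁻¹ ∈ zInv D.S) : s ∈ zInv D.S := by
  have hm : ∀ j : ℕ, D.r ^ (k * j) * s * (D.r ^ (k * j))⁻¹ * s⁻¹ ∈ zInv D.S := by
    intro j
    induction j with
    | zero => simp only [mul_zero, pow_zero, one_mul, inv_one, mul_one, mul_inv_cancel]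
              exact one_mem _
    | succ j ih =>
      obtain ⟨z, hz, e⟩ : ∃ z ∈ zInv D.S, D.r ^ (k * j) * s * (D.r ^ (k * j))⁻¹ = z * s :=
        ⟨_, ih, by group⟩
      have hc := D.central hz (D.X.pow_mem D.r_mem k)
      have e2 : D.r ^ (k * (j + 1)) * s * (D.r ^ (k * (j + 1)))⁻¹ * s⁻¹ =
          z * (D.r ^ k * s * (D.r ^ k)⁻¹ * s⁻¹) := by
        rw [show k * (j + 1) = k + k * j by ring, pow_add, mul_inv_rev]
        calc D.r ^ k * D.r ^ (k * j) * s * ((D.r ^ (k * j))⁻¹ * (D.r ^ k)⁻¹) * s⁻¹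
            = D.r ^ k * (D.r ^ (k * j) * s * (D.r ^ (k * j))⁻¹) * (D.r ^ k)⁻¹ * s⁻¹ := by group
          _ = D.r ^ k * (z * s) * (D.r ^ k)⁻¹ * s⁻¹ := by rw [e]
          _ = (D.r ^ k * z) * (s * (D.r ^ k)⁻¹ * s⁻¹) := by group
          _ = _ := by rw [← hc]; group
      rw [e2]
      exact mul_mem hz h
  obtain ⟨j, q, hjq⟩ : ∃ j q : ℕ, k * j = 5 * q + 1 := by
    obtain e | e | e | e : k % 5 = 1 ∨ k % 5 = 2 ∨ k % 5 = 3 ∨ k % 5 = 4 := by omega
    · exact ⟨1, k / 5, by omega⟩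
    · exact ⟨3, 3 * (k / 5) + 1, by omega⟩
    · exact ⟨2, 2 * (k / 5) + 1, by omega⟩
    · exact ⟨4, 4 * (k / 5) + 3, by omega⟩
  have h1 := hm j
  rw [hjq, pow_succ', mul_inv_rev] at h1
  refine D.r_free s hs ?_
  have e := D.pow_five_comm q hs
  rwa [show D.r * D.r ^ (5 * q) * s * ((D.r ^ (5 * q))⁻¹ * D.r⁻¹) * s⁻¹ =
    D.r * (D.r ^ (5 * q) * s) * (D.r ^ (5 * q))⁻¹ * D.r⁻¹ * s⁻¹ by group, e,
    show D.r * (s * D.r ^ (5 * q)) * (D.r ^ (5 * q))⁻¹ * D.r⁻¹ * s⁻¹ =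
      D.r * s * D.r⁻¹ * s⁻¹ by group] at h1

variable [Finite G]

theorem inter_eq_bot {g : G} (hs : g ∈ D.S) (hw : g ∈ D.W0) : g = 1 := by
  have h1 : orderOf g ∣ 64 := by
    have h := orderOf_dvd_natCard (⟨g, hs⟩ : ↥D.S)
    rw [D.herm.card, Subgroup.orderOf_mk] at h
    exact h
  have h2 : orderOf g ∣ Nat.card ↥D.W0 := by
    have h := orderOf_dvd_natCard (⟨g, hw⟩ : ↥D.W0)
    rwa [Subgroup.orderOf_mk] at h
  have h3 : Nat.Coprime 64 (Nat.card ↥D.W0) := by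
    rw [show (64 : ℕ) = 2 ^ 6 by norm_num]
    exact (Nat.coprime_two_left.2 D.W0_odd).pow_left 6
  exact orderOf_eq_one_iff.1 (Nat.dvd_one.1 (h3.gcd_eq_one ▸ Nat.dvd_gcd h1 h2))

theorem mem_SW {g : G} : g ∈ D.S ⊔ D.W0 ↔ ∃ s ∈ D.S, ∃ w ∈ D.W0, g = s * w := by
  rw [← SetLike.mem_coe, Subgroup.coe_mul_of_left_le_normalizer_right D.S D.W0
    (D.S_le.trans D.X_norm_W0)]
  simp only [Set.mem_mul, SetLike.mem_coe, eq_comm]

theorem exists_nf {g : G} (hg : g ∈ D.X) :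
    ∃ i : Fin 5, ∃ s ∈ D.S, ∃ w ∈ D.W0, g = D.r ^ i.val * s * w := by
  have hN : Subgroup.zpowers D.r ≤ Subgroup.normalizer ((D.S ⊔ D.W0 : Subgroup G) : Set G) := by
    rw [Subgroup.zpowers_le]
    have h1 := D.r_norm
    have h2 := D.X_norm_W0 D.r_mem
    rw [Subgroup.mem_normalizer_iff] at h1 h2 ⊢
    intro x
    constructor
    · intro hx
      obtain ⟨s, hs, w, hw, rfl⟩ := D.mem_SW.1 hx
      rw [show D.r * (s * w) * D.r⁻¹ = (D.r * s * D.r⁻¹) * (D.r * w * D.r⁻¹) by group]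
      exact D.mem_SW.2 ⟨_, (h1 s).1 hs, _, (h2 w).1 hw, rfl⟩
    · intro hx
      obtain ⟨s, hs, w, hw, e⟩ := D.mem_SW.1 hx
      refine D.mem_SW.2 ⟨D.r⁻¹ * s * D.r, (h1 _).2 ?_, D.r⁻¹ * w * D.r, (h2 _).2 ?_, ?_⟩
      · simpa [mul_assoc] using hs
      · simpa [mul_assoc] using hw
      · rw [show x = D.r⁻¹ * (D.r * x * D.r⁻¹) * D.r by group, e]; group
  rw [D.X_eq, sup_comm, ← SetLike.mem_coe,
    Subgroup.coe_mul_of_left_le_normalizer_right _ _ hN] at hg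
  obtain ⟨_, ⟨z, rfl⟩, x, hx, rfl⟩ := hg
  obtain ⟨s, hs, w, hw, rfl⟩ := D.mem_SW.1 hx
  obtain ⟨i, q, hiq⟩ : ∃ (i : Fin 5) (q : ℤ), z = (i.val : ℤ) + 5 * q :=
    ⟨⟨(z % 5).toNat, by omega⟩, z / 5, by show z = ((z % 5).toNat : ℤ) + 5 * (z / 5); omega⟩
  have hq : D.r ^ (5 * q) ∈ D.W0 := by
    rw [zpow_mul]
    exact D.W0.zpow_mem (by rw [show (D.r ^ (5 : ℤ)) = D.r ^ (5 : ℕ) from zpow_natCast D.r 5]; exact D.r_pow) q
  have hn := Subgroup.mem_normalizer_iff.1 (D.X_norm_W0 (D.S_le hs)) (s⁻¹ * D.r ^ (5 * q) * s)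
  refine ⟨i, s, hs, (s⁻¹ * D.r ^ (5 * q) * s) * w, D.W0.mul_mem (hn.2 ?_) hw, ?_⟩
  · rwa [show s * (s⁻¹ * D.r ^ (5 * q) * s) * s⁻¹ = D.r ^ (5 * q) by group]
  · show D.r ^ z * (s * w) = _
    rw [hiq, zpow_add, zpow_natCast]
    group

theorem nf_inj {i j : Fin 5} {s t w v : G} (hs : s ∈ D.S) (ht : t ∈ D.S) (hw : w ∈ D.W0)
    (hv : v ∈ D.W0) (e : D.r ^ i.val * s * w = D.r ^ j.val * t * v) : i = j ∧ s = t ∧ w = v := by
  have key : ∀ d : ℕ, d < 5 → D.r ^ d ∈ D.S ⊔ D.W0 → d = 0 := fun d hd h => by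
    by_contra h0
    refine D.r_not_mem ?_
    obtain ⟨c, q, hcq⟩ : ∃ c q : ℕ, d * c = 5 * q + 1 := by
      obtain e | e | e | e : d = 1 ∨ d = 2 ∨ d = 3 ∨ d = 4 := by omega
      · exact ⟨1, 0, by omega⟩
      · exact ⟨3, 1, by omega⟩
      · exact ⟨2, 1, by omega⟩
      · exact ⟨4, 3, by omega⟩
    have h' := Subgroup.pow_mem _ h c
    rw [← pow_mul, hcq, pow_succ, pow_mul] at h'
    exact (Subgroup.mul_mem_cancel_left _
      (le_sup_right (a := D.S) (D.W0.pow_mem D.r_pow q))).1 h'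
  have hmem : ∀ {a b : G}, a ∈ D.S → b ∈ D.W0 → a * b ∈ D.S ⊔ D.W0 := fun ha hb =>
    mul_mem (le_sup_left (b := D.W0) ha) (le_sup_right (a := D.S) hb)
  have hij : i = j := by
    rw [mul_assoc, mul_assoc] at e
    rcases le_total i.val j.val with hle | hle
    · refine Fin.ext (le_antisymm hle ?_)
      have h : D.r ^ (j.val - i.val) = (s * w) * (t * v)⁻¹ := by
        rw [eq_mul_inv_iff_mul_eq, pow_sub _ hle, ← mul_left_cancel_iff (a := D.r ^ i.val), e]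
        group
      have := key _ (by omega) (h ▸ mul_mem (hmem hs hw) (inv_mem (hmem ht hv)))
      omega
    · refine Fin.ext (le_antisymm ?_ hle)
      have h : D.r ^ (i.val - j.val) = (t * v) * (s * w)⁻¹ := by
        rw [eq_mul_inv_iff_mul_eq, pow_sub _ hle, ← mul_left_cancel_iff (a := D.r ^ j.val), ← e]
        group
      have := key _ (by omega) (h ▸ mul_mem (hmem ht hv) (inv_mem (hmem hs hw)))
      omega
  subst hij
  rw [mul_assoc, mul_assoc, mul_left_cancel_iff] at e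
  have h : t⁻¹ * s = v * w⁻¹ := by
    rw [eq_mul_inv_iff_mul_eq, mul_assoc, e]; group
  have h1 := D.inter_eq_bot (D.S.mul_mem (D.S.inv_mem ht) hs) (h ▸ D.W0.mul_mem hv (D.W0.inv_mem hw))
  obtain rfl := inv_mul_eq_one.1 h1
  exact ⟨rfl, rfl, mul_left_cancel e⟩

/-- The local configuration inside `X`. -/
def xData : Mod.XData ↥D.X where
  S := D.S.subgroupOf D.X
  A := (zInv D.S).subgroupOf D.X
  W0 := D.W0.subgroupOf D.X
  r := ⟨D.r, D.r_mem⟩
  a := ⟨D.a 0, D.S_le (D.a_mem 0).1⟩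
  card_S := by
    rw [Nat.card_congr (Subgroup.subgroupOfEquivOfLe D.S_le).toEquiv, D.herm.card]; norm_num
  card_A := by
    rw [Nat.card_congr (Subgroup.subgroupOfEquivOfLe ((zInv_le D.S).trans D.S_le)).toEquiv,
      D.card_zInv]
  A_le _ hx := zInv_le D.S hx
  A_sq _ hx := Subtype.ext hx.2.1
  a_mem := D.a_mem 0
  a_ne h := D.a_ne 0 (congrArg Subtype.val h)
  central z hz g := Subtype.ext (D.central hz g.2)
  conj_S s hs := by
    have h := D.r_conj hs 1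
    simpa [Subgroup.mem_subgroupOf] using h
  cm_onto s hs hsA z hz := by
    have hsc : (⟨s, hs⟩ : ↥D.S) ∉ Subgroup.center ↥D.S := fun h => hsA (D.mem_center_iff.1 h)
    obtain ⟨t, ht⟩ := D.herm.cm_onto _ hsc ⟨z, hz.1⟩ (D.mem_center_iff.2 hz)
    have ht' := congrArg Subtype.val ht
    simp only [cm, Subgroup.coe_mul, Subgroup.coe_inv] at ht'
    have hzz : (z : G)⁻¹ = z := inv_eq_of_mul_eq_one_right hz.2.1
    refine ⟨⟨t, D.S_le t.2⟩, t.2, Subtype.ext ?_⟩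
    show (t : G) * s * (t : G)⁻¹ = z * s
    rw [← hzz, ← ht']
    group
  r_pow := D.r_pow
  free k hk s hs h := D.free hk hs (by simpa [Subgroup.mem_subgroupOf] using h)
  bij := by
    constructor
    · rintro ⟨i, s, w⟩ ⟨j, t, v⟩ e
      have e' := congrArg Subtype.val e
      simp only [Subgroup.coe_mul, SubgroupClass.coe_pow] at e'
      obtain ⟨rfl, h1, h2⟩ := D.nf_inj s.2 t.2 w.2 v.2 e'
      rw [show s = t from Subtype.ext (Subtype.ext h1), show w = v from Subtype.ext (Subtype.ext h2)]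
    · intro g
      obtain ⟨i, s, hs, w, hw, e⟩ := D.exists_nf g.2
      exact ⟨⟨i, ⟨⟨s, D.S_le hs⟩, hs⟩, ⟨⟨w, D.W0_le_X hw⟩, hw⟩⟩, Subtype.ext (by simpa using e.symm)⟩

end Local

end CfsgLib.UFour73
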