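import Cfsg.Agent.Lib.UFour73.ModuleSpec

/-!
# Multiplicities of a representation with prescribed values at 2-singular elements
-/

set_option autoImplicit false
set_option linter.unusedSectionVars false
set_option linter.style.haveILetI false

namespace CfsgLib.UFour73.Mod

open Module
open scoped Classical

namespace XData

variable {X : Type*} [Group X] [Fintype X] (D : XData X)
variable {U : Type*} [AddCommGroup U] [Module ℂ U] [FiniteDimensional ℂ U]
  {τ : Representation ℂ X U}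

theorem toSub_bot : (⊥ : Subrepresentation τ).toSubmodule = ⊥ := rfl

theorem toSub_top : (⊤ : Subrepresentation τ).toSubmodule = ⊤ := rfl

/-- The prescribed values. -/
structure Vals (τ : Representation ℂ X U) (ζ : ℂ) (γ : ℤ) (m : Fin 5 → ℤ) : Prop where
  at_A : ∀ z ∈ D.A, z ≠ 1 → τ.character z = ((5 * γ - 4 * ∑ j, m j : ℤ) : ℂ)
  at_S : ∀ s ∈ D.S, s ∉ D.A → τ.character s = (γ : ℂ)
  at_Ar : ∀ z ∈ D.A, z ≠ 1 → ∀ k : ℕ, ¬ 5 ∣ k →
    τ.character (z * D.r ^ k) = ∑ j, (m j : ℂ) * ζ ^ (j.val * k)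

/-- number of `ξ_j`-constituents, times four -/
noncomputable def gFour (τ : Representation ℂ X U) (ζ : ℂ) (j : Fin 5) (p : Submodule ℂ U) : ℤ :=
  (D.rA τ p : ℤ) - 4 * (D.rAE τ ζ j p : ℤ)

theorem gFour_nonneg (hW : ∀ w ∈ D.W0, τ w = 1) {ζ : ℂ} (hζ : IsPrimitiveRoot ζ 5) (j : Fin 5)
    (p : Subrepresentation τ) : 0 ≤ D.gFour τ ζ j p.toSubmodule := by
  have h := D.four_le hW hζ j p
  simp only [gFour]
  omega

theorem gFour_modular (hW : ∀ w ∈ D.W0, τ w = 1) {ζ : ℂ} (hζ : IsPrimitiveRoot ζ 5) (j : Fin 5)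
    (p q : Subrepresentation τ) :
    D.gFour τ ζ j (p ⊔ q).toSubmodule + D.gFour τ ζ j (p ⊓ q).toSubmodule =
      D.gFour τ ζ j p.toSubmodule + D.gFour τ ζ j q.toSubmodule := by
  have m1 := finrank_map_modular D.PA_idem (D.map_le_PA p) (D.map_le_PA q)
  have m2 := finrank_map_modular (D.PAE_idem hW hζ.pow_eq_one j) (D.map_le_PAE p ζ j)
    (D.map_le_PAE q ζ j)
  simp only [gFour, rA, rAE, Subrepresentation.toSubmodule_sup,
    Subrepresentation.toSubmodule_inf]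
  omega

theorem gFour_mono (hW : ∀ w ∈ D.W0, τ w = 1) {ζ : ℂ} (hζ : IsPrimitiveRoot ζ 5) (j : Fin 5)
    (p : Subrepresentation τ) :
    D.gFour τ ζ j p.toSubmodule ≤ D.gFour τ ζ j (⊤ : Subrepresentation τ).toSubmodule := by
  haveI : ComplementedLattice (Subrepresentation τ) :=
    (Representation.isSemisimpleRepresentation_iff_isSemisimpleModule_asModule τ).2 inferInstance
  obtain ⟨c, hc⟩ := exists_isCompl p
  have h := D.gFour_modular hW hζ j p c
  have h2 := D.gFour_nonneg hW hζ j c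
  rw [hc.sup_eq_top, hc.inf_eq_bot] at h
  have h0 : D.gFour τ ζ j (⊥ : Subrepresentation τ).toSubmodule = 0 := by
    rw [gFour, rA, rAE, toSub_bot, Submodule.map_bot, Submodule.map_bot, finrank_bot]; rfl
  omega

theorem gFour_three (hW : ∀ w ∈ D.W0, τ w = 1) {ζ : ℂ} (hζ : IsPrimitiveRoot ζ 5) (j : Fin 5)
    (u v w : Subrepresentation τ) (h0 : u ⊓ v ⊓ w = ⊥) :
    D.gFour τ ζ j u.toSubmodule + D.gFour τ ζ j v.toSubmodule + D.gFour τ ζ j w.toSubmodule ≤
      2 * D.gFour τ ζ j (⊤ : Subrepresentation τ).toSubmodule :=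
  three_meet (fun p : Subrepresentation τ => D.gFour τ ζ j p.toSubmodule)
    (D.gFour_modular hW hζ j) (D.gFour_mono hW hζ j)
    (by rw [gFour, rA, rAE, toSub_bot, Submodule.map_bot, Submodule.map_bot, finrank_bot]; rfl) u v w h0

theorem rSE_three (hW : ∀ w ∈ D.W0, τ w = 1) {ζ : ℂ} (hζ : IsPrimitiveRoot ζ 5) (j : Fin 5)
    (u v w : Subrepresentation τ) (h0 : u ⊓ v ⊓ w = ⊥) :
    D.rSE τ ζ j u.toSubmodule + D.rSE τ ζ j v.toSubmodule + D.rSE τ ζ j w.toSubmodule ≤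
      2 * D.rSE τ ζ j ⊤ := by
  have h := three_meet (fun p : Subrepresentation τ => (D.rSE τ ζ j p.toSubmodule : ℤ))
    (fun p q => finrank_map_modular (D.PSE_idem hW hζ.pow_eq_one j) (D.map_le_PSE p ζ j)
      (D.map_le_PSE q ζ j))
    (fun p => by
      exact_mod_cast Submodule.finrank_mono (Submodule.map_mono (le_top : p.toSubmodule ≤ ⊤)))
    (by simp [rSE, toSub_bot]) u v w h0
  simp only [toSub_top] at h
  omega

theorem rSE_mono (j : Fin 5) {ζ : ℂ} (p : Submodule ℂ U) : D.rSE τ ζ j p ≤ D.rSE τ ζ j ⊤ :=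
  Submodule.finrank_mono (Submodule.map_mono le_top)

theorem sum_lam_ne : ∑ z ∈ (Finset.univ : Finset ↥D.A).erase 1, D.lam z = -1 := by
  rw [Finset.sum_erase_eq_sub (Finset.mem_univ _), D.sum_lam, map_one]
  ring

theorem card_A_ne : ((Finset.univ : Finset ↥D.A).erase 1).card = 3 := by
  rw [Finset.card_erase_of_mem (Finset.mem_univ _), Finset.card_univ, ← Nat.card_eq_fintype_card,
    D.card_A]

theorem sum_inv_root {ζ : ℂ} (hζ : IsPrimitiveRoot ζ 5) (i : Fin 5) :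
    ∑ j : Fin 5, (ζ ^ (i.val * j.val))⁻¹ = if i = 0 then (5 : ℂ) else 0 := by
  rw [← sum_root hζ i 0]
  simp

theorem sum_inv_mul_root {ζ : ℂ} (hζ : IsPrimitiveRoot ζ 5) (m : Fin 5 → ℤ) (j : Fin 5) :
    ∑ i : Fin 5, (ζ ^ (i.val * j.val))⁻¹ * ∑ l, (m l : ℂ) * ζ ^ (l.val * i.val) = 5 * m j := by
  simp only [Finset.mul_sum]
  rw [Finset.sum_comm, Finset.sum_eq_single j]
  · rw [Finset.sum_congr rfl fun i _ => show
      (ζ ^ (i.val * j.val))⁻¹ * ((m j : ℂ) * ζ ^ (j.val * i.val)) = (m j : ℂ) from ?_]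
    · simp [mul_comm]
    · rw [mul_comm i.val, mul_comm (m j : ℂ), ← mul_assoc,
        inv_mul_cancel₀ (pow_ne_zero _ (hζ.ne_zero (by norm_num))), one_mul]
  · intro l _ hlj
    have h : ∑ i : Fin 5, (ζ ^ (i.val * j.val))⁻¹ * ((m l : ℂ) * ζ ^ (l.val * i.val)) =
        (m l : ℂ) * ∑ i : Fin 5, ζ ^ (l.val * i.val) * (ζ ^ (j.val * i.val))⁻¹ := by
      rw [Finset.mul_sum]
      exact Finset.sum_congr rfl fun i _ => by rw [mul_comm i.val j.val]; ring
    rw [h, sum_root hζ, if_neg (Ne.symm hlj), mul_zero]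
  · exact fun h => absurd (Finset.mem_univ _) h

/-- The multiplicities in terms of the linear constituents. -/
theorem piece (hW : ∀ w ∈ D.W0, τ w = 1) {ζ : ℂ} (hζ : IsPrimitiveRoot ζ 5) {γ : ℤ}
    {m : Fin 5 → ℤ} (hv : D.Vals τ ζ γ m) :
    (finrank ℂ U : ℤ) = 64 * (∑ j, (D.rSE τ ζ j ⊤ : ℤ)) - 3 * (5 * γ - 4 * ∑ j, m j) - 60 * γ ∧
    γ ≤ ∑ j, (D.rSE τ ζ j ⊤ : ℤ) ∧
    ∀ j, D.gFour τ ζ j ⊤ =
      4 * (m j + ((∑ i, (D.rSE τ ζ i ⊤ : ℤ)) - γ) - (D.rSE τ ζ j ⊤ : ℤ)) := by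
  obtain ⟨α, hα⟩ : ∃ α : ℤ, α = 5 * γ - 4 * ∑ j, m j := ⟨_, rfl⟩
  let n := finrank ℂ U
  let β : ℕ → ℂ := fun k => ∑ l : Fin 5, (m l : ℂ) * ζ ^ (l.val * k)
  have hS0 : ∑ s : ↥D.S, τ.character s = (n : ℂ) + 3 * α + 60 * γ := by
    have e : ∀ s : ↥D.S, τ.character s =
        (γ : ℂ) + (if (s : X) ∈ D.A then ((α : ℂ) - γ) else 0) +
          (if (s : X) = 1 then ((n : ℂ) - α) else 0) := fun s => by
      by_cases h1 : (s : X) = 1
      · rw [h1, τ.char_one, if_pos D.A.one_mem, if_pos rfl]; ring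
      · by_cases hs : (s : X) ∈ D.A
        · rw [hv.at_A _ hs h1, ← hα, if_pos hs, if_neg h1]; ring
        · rw [hv.at_S _ s.2 hs, if_neg hs, if_neg h1]; ring
    have h4 : (Finset.univ.filter fun s : ↥D.S => (s : X) ∈ D.A).card = 4 := by
      rw [← Fintype.card_subtype, ← Nat.card_eq_fintype_card, ← D.card_A]
      exact Nat.card_congr ⟨fun s => ⟨s.1, s.2⟩, fun z => ⟨⟨z, D.A_le z.2⟩, z.2⟩, fun _ => rfl,
        fun _ => rfl⟩
    have h1 : (Finset.univ.filter fun s : ↥D.S => (s : X) = 1).card = 1 :=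
      Finset.card_eq_one.2 ⟨1, by ext s; simp⟩
    rw [Finset.sum_congr rfl fun s _ => e s]
    simp only [Finset.sum_add_distrib, Finset.sum_const, Finset.sum_ite, Finset.sum_const_zero,
      add_zero, h4, h1, Finset.card_univ, ← Nat.card_eq_fintype_card, D.card_S, nsmul_eq_mul]
    push_cast
    ring
  have hA0 : ∑ z : ↥D.A, D.lam z * τ.character z = (n : ℂ) - α := by
    rw [← Finset.add_sum_erase Finset.univ _ (Finset.mem_univ (1 : ↥D.A))]
    rw [map_one, one_mul, Subgroup.coe_one, τ.char_one, Finset.sum_congr rfl fun z hz => by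
      rw [hv.at_A _ z.2 fun h => (Finset.mem_erase.1 hz).1 (Subtype.ext h), ← hα],
      ← Finset.sum_mul, D.sum_lam_ne]
    ring
  have hAk : ∀ i : Fin 5, i ≠ 0 → ∑ z : ↥D.A, D.lam z * τ.character (z * D.r ^ i.val) =
      τ.character (D.r ^ i.val) - β i.val := fun i hi => by
    rw [← Finset.add_sum_erase Finset.univ _ (Finset.mem_univ (1 : ↥D.A))]
    rw [map_one, one_mul, Subgroup.coe_one, one_mul, Finset.sum_congr rfl fun z hz => by
      rw [hv.at_Ar _ z.2 (fun h => (Finset.mem_erase.1 hz).1 (Subtype.ext h)) _ (five_not_dvd hi)],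
      ← Finset.sum_mul, D.sum_lam_ne]
    simp only [β]
    ring
  have hSk : ∀ i : Fin 5, i ≠ 0 → ∑ s : ↥D.S, τ.character (s * D.r ^ i.val) =
      16 * (τ.character (D.r ^ i.val) + 3 * β i.val) := fun i hi => by
    rw [D.sum_coset _ (five_not_dvd hi) τ.character (fun g h => τ.char_conj g h),
      ← Finset.add_sum_erase Finset.univ _ (Finset.mem_univ (1 : ↥D.A))]
    rw [Subgroup.coe_one, one_mul, Finset.sum_congr rfl fun z hz => by
      rw [hv.at_Ar _ z.2 (fun h => (Finset.mem_erase.1 hz).1 (Subtype.ext h)) _ (five_not_dvd hi)],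
      Finset.sum_const, D.card_A_ne, nsmul_eq_mul]
    norm_num [β]
  have hSE : ∀ j, (D.rSE τ ζ j ⊤ : ℂ) = 320⁻¹ * ∑ i : Fin 5, (ζ ^ (i.val * j.val))⁻¹ *
      ∑ s : ↥D.S, τ.character (s * D.r ^ i.val) := fun j => by
    rw [rSE, ← trace_idem (D.PSE_idem hW hζ.pow_eq_one j), D.trace_PSE]
  have hL : ((∑ j, (D.rSE τ ζ j ⊤ : ℤ) : ℤ) : ℂ) = 64⁻¹ * ((n : ℂ) + 3 * α + 60 * γ) := by
    push_cast
    rw [Finset.sum_congr rfl fun j _ => hSE j, ← Finset.mul_sum, Finset.sum_comm]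
    simp only [← Finset.sum_mul, sum_inv_root hζ, ite_mul, zero_mul, Finset.sum_ite_eq',
      Finset.mem_univ, if_true, Fin.val_zero, pow_zero, mul_one, hS0]
    ring
  obtain ⟨Λ, hΛ⟩ : ∃ Λ : ℤ, Λ = ∑ j, (D.rSE τ ζ j ⊤ : ℤ) := ⟨_, rfl⟩
  rw [← hΛ] at hL ⊢
  have hn : (n : ℤ) = 64 * Λ - 3 * α - 60 * γ := by
    have h : ((n : ℤ) : ℂ) = ((64 * Λ - 3 * α - 60 * γ : ℤ) : ℂ) := by
      push_cast
      rw [hL]
      ring
    exact_mod_cast h
  refine ⟨hα ▸ hn, ?_, fun j => ?_⟩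
  · -- compare with the fixed points of `A`
    let P0 : Module.End ℂ U := avgHom (τ.comp D.A.subtype)
    have hP0 : P0 * P0 = P0 := avgHom_idem _
    have hle : (⊤ : Submodule ℂ U).map (D.PS τ) ≤ (⊤ : Submodule ℂ U).map P0 := by
      rintro _ ⟨v, -, rfl⟩
      refine ⟨D.PS τ v, trivial, ?_⟩
      have hz : ∀ z : ↥D.A, τ z (D.PS τ v) = D.PS τ v := fun z => by
        rw [← Module.End.mul_apply]
        exact congrArg (fun T : Module.End ℂ U => T v)
          (mul_avgHom (D.fS τ) ⟨z, D.A_le z.2⟩)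
      show avgHom (τ.comp D.A.subtype) (D.PS τ v) = D.PS τ v
      simp only [avgHom, LinearMap.smul_apply, LinearMap.sum_apply, MonoidHom.comp_apply,
        Subgroup.coe_subtype, hz, Finset.sum_const, Finset.card_univ, ← Nat.cast_smul_eq_nsmul ℂ,
        smul_smul]
      rw [inv_mul_cancel₀ (Nat.cast_ne_zero.2 Fintype.card_ne_zero), one_smul]
    have h1 : (finrank ℂ ↥((⊤ : Submodule ℂ U).map (D.PS τ)) : ℂ) = (Λ : ℂ) := by
      rw [← trace_idem D.PS_idem, D.trace_PS, hS0, hL]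
    have h2 : (finrank ℂ ↥((⊤ : Submodule ℂ U).map P0) : ℂ) = 4⁻¹ * ((n : ℂ) + 3 * α) := by
      rw [← trace_idem hP0]
      simp only [P0, avgHom, map_smul, map_sum, smul_eq_mul, MonoidHom.comp_apply,
        Subgroup.coe_subtype, ← Nat.card_eq_fintype_card, D.card_A]
      have e : ∀ z ∈ (Finset.univ : Finset ↥D.A).erase 1,
          LinearMap.trace ℂ U (τ (z : X)) = (α : ℂ) := fun z hz => by
        rw [hα]; exact hv.at_A _ z.2 fun h => (Finset.mem_erase.1 hz).1 (Subtype.ext h)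
      rw [← Finset.add_sum_erase Finset.univ _ (Finset.mem_univ (1 : ↥D.A)),
        Finset.sum_congr rfl e,
        Finset.sum_const, D.card_A_ne, nsmul_eq_mul, Subgroup.coe_one, map_one,
        LinearMap.trace_one]
      norm_num [n]
    have h1' : (finrank ℂ ↥((⊤ : Submodule ℂ U).map (D.PS τ)) : ℤ) = Λ := by exact_mod_cast h1
    have h2' : 4 * (finrank ℂ ↥((⊤ : Submodule ℂ U).map P0) : ℤ) = (n : ℤ) + 3 * α := by
      have h : ((4 * (finrank ℂ ↥((⊤ : Submodule ℂ U).map P0) : ℤ) : ℤ) : ℂ) =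
          (((n : ℤ) + 3 * α : ℤ) : ℂ) := by
        push_cast
        rw [h2]
        ring
      exact_mod_cast h
    have h3 := Submodule.finrank_mono hle
    omega
  · have hRA : (D.rA τ ⊤ : ℂ) = 4⁻¹ * ((n : ℂ) - α) := by
      rw [rA, ← trace_idem D.PA_idem, D.trace_PA, hA0]
    have hAE : (D.rAE τ ζ j ⊤ : ℂ) = 20⁻¹ * ∑ i : Fin 5, (ζ ^ (i.val * j.val))⁻¹ *
        ∑ z : ↥D.A, D.lam z * τ.character (z * D.r ^ i.val) := by
      rw [rAE, ← trace_idem (D.PAE_idem hW hζ.pow_eq_one j), D.trace_PAE]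
    have hm := sum_inv_mul_root hζ m j
    simp only [Fin.sum_univ_five] at hm
    simp only [Fin.val_zero, mul_zero, zero_mul, pow_zero, inv_one, one_mul, mul_one] at hm
    have hSj := hSE j
    rw [Fin.sum_univ_five, hSk 1 (by decide), hSk 2 (by decide), hSk 3 (by decide),
      hSk 4 (by decide)] at hSj
    rw [Fin.sum_univ_five, hAk 1 (by decide), hAk 2 (by decide), hAk 3 (by decide),
      hAk 4 (by decide)] at hAE
    simp only [Fin.val_zero, zero_mul, pow_zero, inv_one, one_mul, mul_one, hS0] at hSj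
    simp only [Fin.val_zero, zero_mul, pow_zero, inv_one, one_mul, mul_one, hA0] at hAE
    simp only [β, Fin.sum_univ_five, Fin.val_zero, mul_zero, zero_mul, pow_zero, mul_one]
      at hSj hAE
    have hn' : (n : ℂ) = 64 * (Λ : ℂ) - 3 * α - 60 * γ := by exact_mod_cast hn
    have hα' : (α : ℂ) = 5 * γ - 4 * (m 0 + m 1 + m 2 + m 3 + m 4) := by
      rw [hα, Fin.sum_univ_five]; push_cast; ring
    have h : ((D.gFour τ ζ j ⊤ : ℤ) : ℂ) =
        ((4 * (m j + (Λ - γ) - (D.rSE τ ζ j ⊤ : ℤ)) : ℤ) : ℂ) := by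
      simp only [gFour]
      push_cast
      rw [hRA, hAE, hSj]
      linear_combination (4 / 5 : ℂ) * hm + (1 / 16 : ℂ) * hn' - (1 / 5 : ℂ) * hα'
    exact_mod_cast h

end XData

end CfsgLib.UFour73.Mod
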