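import Cfsg.Agent.Lib.UFour73.Assemble
import Cfsg.Agent.Lib.UFour73.ModuleGroup
import Cfsg.Agent.Lib.UFour73.ModulePiece

/-!
# The module bound

For a representation without fixed vectors, the fixed points of the three cores meet in zero inside
the fixed points of `W₀`. This bounds the linear constituents of the part fixed by a core by those
of the part moved by it.
-/

set_option autoImplicit false
set_option linter.unusedSectionVars false
set_option linter.style.haveILetI false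

namespace CfsgLib.UFour73

open Module
open CfsgLib.PiHom (zInv mem_zInv zInv_le)
open scoped Classical

universe u

variable {G : Type u} [Group G] [Fintype G] (D : Local G)
variable {V : Type*} [AddCommGroup V] [Module ℂ V] [FiniteDimensional ℂ V]
  (ρ : Representation ℂ G V)

/-- The fixed points of a subgroup normalised by `X`. -/
noncomputable def fixedSub (Q : Subgroup G) (hQ : D.X ≤ Subgroup.normalizer (Q : Set G)) :
    Subrepresentation (ρ.comp D.X.subtype) where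
  toSubmodule := Representation.invariants (ρ.comp Q.subtype)
  apply_mem_toSubmodule g v hv := fun q => by
    have h := (Subgroup.mem_normalizer_iff.1 (hQ (D.X.inv_mem g.2)) q.1).1 q.2
    have hv' : ρ ((g : G)⁻¹ * q.1 * (g : G)⁻¹⁻¹) v = v := hv ⟨_, h⟩
    show ρ q.1 (ρ g v) = ρ g v
    conv_rhs => rw [← hv']
    rw [← Module.End.mul_apply, ← Module.End.mul_apply, ← map_mul, ← map_mul]
    congr 2
    group

theorem mem_fixedSub {Q : Subgroup G} {hQ : D.X ≤ Subgroup.normalizer (Q : Set G)} {v : V} :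
    v ∈ (fixedSub D ρ Q hQ).toSubmodule ↔ ∀ q ∈ Q, ρ q v = v :=
  ⟨fun h q hq => h ⟨q, hq⟩, fun h q => h q.1 q.2⟩

/-- The character on the fixed points is the average of the character. -/
theorem fixedSub_char (Q : Subgroup G) (hQ : D.X ≤ Subgroup.normalizer (Q : Set G)) (g : ↥D.X) :
    (fixedSub D ρ Q hQ).toRepresentation.character g =
      (Nat.card Q : ℂ)⁻¹ * ∑ u : ↥Q, ρ.character ((g : G) * u) := by
  let P : Module.End ℂ V := Mod.avgHom (ρ.comp Q.subtype)
  have hfix : ∀ v ∈ (fixedSub D ρ Q hQ).toSubmodule, P v = v := fun v hv => by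
    simp only [P, Mod.avgHom, LinearMap.smul_apply, LinearMap.sum_apply, MonoidHom.comp_apply,
      Subgroup.coe_subtype, fun q : ↥Q => (mem_fixedSub D ρ).1 hv q.1 q.2, Finset.sum_const,
      Finset.card_univ, ← Nat.cast_smul_eq_nsmul ℂ, smul_smul]
    rw [inv_mul_cancel₀ (Nat.cast_ne_zero.2 Fintype.card_ne_zero), one_smul]
  have hmem : ∀ v, (ρ g * P) v ∈ (fixedSub D ρ Q hQ).toSubmodule := fun v => by
    refine (fixedSub D ρ Q hQ).apply_mem_toSubmodule g ((mem_fixedSub D ρ).2 fun q hq => ?_)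
    exact congrArg (fun T : Module.End ℂ V => T v) (Mod.mul_avgHom (ρ.comp Q.subtype) ⟨q, hq⟩)
  have h := LinearMap.trace_restrict_eq_of_forall_mem _ (ρ g * P) hmem
  have e : (ρ g * P).restrict (fun x _ => hmem x) = (fixedSub D ρ Q hQ).toRepresentation g :=
    LinearMap.ext fun v => Subtype.ext (by
      show (ρ g * P) v.1 = ρ g v.1
      rw [Module.End.mul_apply, hfix v.1 v.2])
  rw [e] at h
  show LinearMap.trace ℂ _ ((fixedSub D ρ Q hQ).toRepresentation g) = _
  rw [h]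
  simp only [P, Mod.avgHom, mul_smul_comm, Finset.mul_sum, MonoidHom.comp_apply,
    Subgroup.coe_subtype, ← map_mul, map_smul, map_sum, smul_eq_mul, Representation.character,
    Nat.card_eq_fintype_card]

theorem fixedSub_mono {P Q : Subgroup G} {hP : D.X ≤ Subgroup.normalizer (P : Set G)}
    {hQ : D.X ≤ Subgroup.normalizer (Q : Set G)} (h : P ≤ Q) :
    (fixedSub D ρ Q hQ).toSubmodule ≤ (fixedSub D ρ P hP).toSubmodule := fun _ hv =>
  (mem_fixedSub D ρ).2 fun q hq => (mem_fixedSub D ρ).1 hv q (h hq)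

namespace Local

/-- Elements with a non-trivial part in `S` have even order. -/
theorem even_of_mem_S {s : G} (hs : s ∈ D.S) (h1 : s ≠ 1) : Even (orderOf s) := by
  have h : orderOf s ∣ 2 ^ 6 := by
    have h := orderOf_dvd_natCard (⟨s, hs⟩ : ↥D.S)
    rw [D.herm.card, Subgroup.orderOf_mk] at h
    exact h
  obtain ⟨j, -, hj⟩ := (Nat.dvd_prime_pow Nat.prime_two).1 h
  rcases j with _ | j
  · exact absurd (orderOf_eq_one_iff.1 (by simpa using hj)) h1
  · rw [hj, pow_succ']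
    exact even_two_mul _

theorem even_of_mem_Ar {z : G} (hz : z ∈ zInv D.S) (h1 : z ≠ 1) (k : ℕ) :
    Even (orderOf (z * D.r ^ k)) := by
  by_contra h
  rw [Nat.not_even_iff_odd] at h
  have hc : Commute z (D.r ^ k) := D.central hz (D.X.pow_mem D.r_mem k)
  have h2 := pow_orderOf_eq_one (z * D.r ^ k)
  rw [hc.mul_pow] at h2
  obtain ⟨q, hq⟩ := h
  have hzo : z ^ orderOf (z * D.r ^ k) = z := by
    rw [hq, pow_succ, pow_mul, pow_two, hz.2.1, one_pow, one_mul]
  rw [hzo] at h2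
  have hodd : ¬ 2 ∣ orderOf D.r := by
    intro hd
    have h5 : D.r ^ (5 * Nat.card ↥D.W0) = 1 := by
      have h6 : (⟨D.r ^ 5, D.r_pow⟩ : ↥D.W0) ^ Nat.card ↥D.W0 = 1 := pow_card_eq_one'
      rw [pow_mul]
      have h7 := congrArg Subtype.val h6
      simp only [SubgroupClass.coe_pow, OneMemClass.coe_one] at h7
      exact h7
    have hd2 := hd.trans (orderOf_dvd_of_pow_eq_one h5)
    have := Nat.odd_iff.1 D.W0_odd
    omega
  have hz2 : orderOf z = 2 := orderOf_eq_prime (by rw [pow_two, hz.2.1]) h1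
  have e : (D.r ^ k) ^ orderOf (z * D.r ^ k) = z := by
    rw [← hq] at *
    calc _ = z⁻¹ * (z * (D.r ^ k) ^ orderOf (z * D.r ^ k)) := by rw [inv_mul_cancel_left]
      _ = z⁻¹ := by rw [h2, mul_one]
      _ = z := inv_eq_of_mul_eq_one_right hz.2.1
  rw [← pow_mul] at e
  have hdiv := orderOf_pow_dvd (x := D.r) (k * orderOf (z * D.r ^ k))
  rw [e, hz2] at hdiv
  exact hodd hdiv

theorem conj_r_pow (k : ℕ) : ∃ w ∈ D.W0, D.y * D.r ^ k * D.y⁻¹ = D.r ^ k * w := by
  induction k with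
  | zero => exact ⟨1, one_mem _, by simp⟩
  | succ k ih =>
    obtain ⟨w, hw, e⟩ := ih
    have h := (Subgroup.mem_normalizer_iff.1 (D.X_norm_W0 (D.X.inv_mem D.r_mem))
      (w * (D.y * D.r * D.y⁻¹ * D.r⁻¹))).1 (D.W0.mul_mem hw D.y_r)
    refine ⟨_, h, ?_⟩
    calc D.y * D.r ^ (k + 1) * D.y⁻¹ = (D.y * D.r ^ k * D.y⁻¹) * (D.y * D.r * D.y⁻¹) := by group
      _ = D.r ^ k * w * (D.y * D.r * D.y⁻¹) := by rw [e]
      _ = _ := by group

theorem avg_succ (ζ : ℂ) (χ : G → ℂ) (hχ : ∀ g h, χ (h * g * h⁻¹) = χ g) (i : Fin 3) (j : Fin 5) :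
    avg D ζ χ (D.θ (i + 1)) j = avg D ζ χ (D.θ i) j := by
  have hmem : ∀ {Q : Subgroup G}, D.y ∈ Subgroup.normalizer (Q : Set G) → ∀ x,
      x ∈ Q ↔ D.y * x * D.y⁻¹ ∈ Q := fun h x => Subgroup.mem_normalizer_iff.1 h x
  have hθ : ∀ x, x ∈ D.θ i → D.y * x * D.y⁻¹ ∈ D.θ (i + 1) := fun x hx => by
    rw [← D.y_θ i]
    exact ⟨x, hx, rfl⟩
  have hcard : Nat.card ↥(D.θ (i + 1)) = Nat.card ↥(D.θ i) := by
    rw [← D.y_θ i]
    exact Subgroup.card_map_of_injective (MulAut.conj D.y).injective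
  unfold avg
  rw [hcard]
  congr 1
  refine Finset.sum_congr rfl fun k _ => ?_
  obtain ⟨w, hw, hwk⟩ := D.conj_r_pow k.val
  symm
  refine Fintype.sum_bijective (fun s : ↥D.S => (⟨D.y * s * D.y⁻¹, (hmem D.y_norm s).1 s.2⟩ : ↥D.S))
    ((Finite.injective_iff_bijective).1 fun s t e => by simpa using e) _ _ fun s => ?_
  refine Fintype.sum_bijective
    (fun u : ↥(D.θ i) => (⟨w * (D.y * u * D.y⁻¹),
      (D.θ (i + 1)).mul_mem (D.W0_le _ hw) (hθ _ u.2)⟩ : ↥(D.θ (i + 1))))
    ((Fintype.bijective_iff_injective_and_card _).2 ⟨fun u v e => by simpa using e, by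
      rw [← Nat.card_eq_fintype_card, ← Nat.card_eq_fintype_card, hcard]⟩) _ _ fun u => ?_
  congr 1
  rw [← hχ (D.r ^ k.val * (s : G) * (u : G)) D.y]
  congr 1
  have hws := D.W0_comm w hw _ ((hmem D.y_norm (s : G)).1 s.2)
  calc D.y * (D.r ^ k.val * (s : G) * (u : G)) * D.y⁻¹
      = (D.y * D.r ^ k.val * D.y⁻¹) * (D.y * s * D.y⁻¹) * (D.y * u * D.y⁻¹) := by group
    _ = D.r ^ k.val * (w * (D.y * s * D.y⁻¹)) * (D.y * u * D.y⁻¹) := by rw [hwk]; group
    _ = D.r ^ k.val * (D.y * s * D.y⁻¹) * (w * (D.y * u * D.y⁻¹)) := by rw [hws]; group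

theorem val_conj (ζ : ℂ) {χ : G → ℂ} (hχ : ∀ g h, χ (h * g * h⁻¹) = χ g) {n γ : ℤ}
    {m : Fin 5 → ℤ} (hv : LocalValues D ζ χ n γ m) (i : Fin 3) {k : ℕ} (hk : ¬ 5 ∣ k) :
    χ (D.a i * D.r ^ k) = ∑ j, (m j : ℂ) * ζ ^ (j.val * k) := by
  have step : ∀ i : Fin 3, χ (D.a (i + 1) * D.r ^ k) = χ (D.a i * D.r ^ k) := fun i => by
    obtain ⟨w, hw, e⟩ := D.conj_r_pow k
    rw [← hχ (D.a i * D.r ^ k) D.y, show D.y * (D.a i * D.r ^ k) * D.y⁻¹ =
      (D.y * D.a i * D.y⁻¹) * (D.y * D.r ^ k * D.y⁻¹) by group, D.y_a, e, ← mul_assoc]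
    exact (hv.fixed 0 _ (mul_mem (D.S_le (D.a_mem _).1) (D.X.pow_mem D.r_mem k))
      (D.even_of_mem_Ar (D.a_mem _) (D.a_ne _) k) w (D.W0_le 0 hw)).symm
  have h0 := hv.val_ar k hk
  fin_cases i
  · exact h0
  · exact (step 0).trans h0
  · exact (step 1).trans ((step 0).trans h0)

/-- The values on the fixed points of a subgroup below a core. -/
theorem vals_fixedSub {ζ : ℂ} {n γ : ℤ} {m : Fin 5 → ℤ}
    (hv : LocalValues D ζ ρ.character n γ m) (Q : Subgroup G)
    (hQ : D.X ≤ Subgroup.normalizer (Q : Set G)) (i : Fin 3) (hQi : Q ≤ D.θ i) :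
    D.xData.Vals (fixedSub D ρ Q hQ).toRepresentation ζ γ m := by
  have key : ∀ g : ↥D.X, Even (orderOf (g : G)) →
      (fixedSub D ρ Q hQ).toRepresentation.character g = ρ.character g := fun g hg => by
    rw [fixedSub_char, Finset.sum_congr rfl fun (u : ↥Q) _ => hv.fixed i _ g.2 hg (u : G) (hQi u.2),
      Finset.sum_const, nsmul_eq_mul, Finset.card_univ, Nat.card_eq_fintype_card, ← mul_assoc,
      inv_mul_cancel₀ (Nat.cast_ne_zero.2 Fintype.card_ne_zero), one_mul]
  refine ⟨fun z hz h1 => ?_, fun s hs hsA => ?_, fun z hz h1 k hk => ?_⟩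
  · have h1' : (z : G) ≠ 1 := fun h => h1 (Subtype.ext h)
    rw [key z (D.even_of_mem_S (zInv_le _ hz) h1')]
    obtain ⟨i, hi⟩ := D.a_cover _ hz h1'
    rw [show (z : G) = D.a i from hi]; exact hv.val_a i
  · have h1' : (s : G) ≠ 1 := fun h => hsA (by
      show (s : G) ∈ zInv D.S
      rw [h]; exact one_mem _)
    rw [key s (D.even_of_mem_S hs h1')]
    exact hv.val_x _ hs hsA
  · have h1' : (z : G) ≠ 1 := fun h => h1 (Subtype.ext h)
    have hcoe : ((z * D.xData.r ^ k : ↥D.X) : G) = (z : G) * D.r ^ k := rfl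
    rw [key _ (by rw [hcoe]; exact D.even_of_mem_Ar hz h1' k), hcoe]
    obtain ⟨i, hi⟩ := D.a_cover _ hz h1'
    rw [show (z : G) = D.a i from hi]
    exact D.val_conj ζ (fun g h => ρ.char_conj g h) hv i hk

/-- The eigenspace dimensions on the fixed points are the averages. -/
theorem rSE_fixedSub (Q : Subgroup G) (hQ : D.X ≤ Subgroup.normalizer (Q : Set G)) (hW : D.W0 ≤ Q)
    {ζ : ℂ} (hζ : ζ ^ 5 = 1) (j : Fin 5) :
    (D.xData.rSE (fixedSub D ρ Q hQ).toRepresentation ζ j ⊤ : ℂ) = avg D ζ ρ.character Q j := by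
  have hW' : ∀ w ∈ D.xData.W0, (fixedSub D ρ Q hQ).toRepresentation w = 1 := fun w hw =>
    LinearMap.ext fun v => Subtype.ext ((mem_fixedSub D ρ).1 v.2 _ (hW hw))
  rw [Mod.XData.rSE, ← Mod.trace_idem (D.xData.PSE_idem hW' hζ j), D.xData.trace_PSE]
  unfold avg
  rw [mul_inv, mul_assoc, Finset.mul_sum]
  simp only [Finset.mul_sum]
  refine Finset.sum_congr rfl fun k _ => ?_
  refine Fintype.sum_equiv (Subgroup.subgroupOfEquivOfLe D.S_le).toEquiv _ _ fun s => ?_
  rw [Representation.char_mul_comm, fixedSub_char, Finset.mul_sum]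
  simp only [Finset.mul_sum]
  refine Finset.sum_congr rfl fun u _ => ?_
  have hcoe : ((D.xData.r ^ k.val * (s : ↥D.X) : ↥D.X) : G) =
      D.r ^ k.val * (((Subgroup.subgroupOfEquivOfLe D.S_le).toEquiv s : ↥D.S) : G) := rfl
  rw [hcoe]
  norm_num
  ring

end Local

/-- The bound. -/
theorem local_bounds (hfix : ∀ v, (∀ g, ρ g v = v) → v = 0) {ζ : ℂ} (hζ : IsPrimitiveRoot ζ 5)
    {n γ : ℤ} {m : Fin 5 → ℤ} (hv : LocalValues D ζ ρ.character n γ m) :
    ∃ k l : Fin 5 → ℤ, (∀ j, kC D ζ ρ.character j = k j) ∧ (∀ j, lC D ζ ρ.character j = l j) ∧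
      LocalBounds n γ m k l := by
  -- the fixed points of `W₀`
  let W : Subrepresentation (ρ.comp D.X.subtype) := fixedSub D ρ D.W0 D.X_norm_W0
  let τ := W.toRepresentation
  have hWτ : ∀ w ∈ D.xData.W0, τ w = 1 := fun w hw =>
    LinearMap.ext fun v => Subtype.ext ((mem_fixedSub D ρ).1 v.2 _ hw)
  let F : Fin 3 → Subrepresentation (ρ.comp D.X.subtype) := fun i =>
    fixedSub D ρ (D.θ i) (D.X_norm_θ i)
  let U : Fin 3 → Subrepresentation τ := fun i =>
    ⟨(F i).toSubmodule.comap W.toSubmodule.subtype,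
      fun g v hv' => (F i).apply_mem_toSubmodule g hv'⟩
  have hFW : ∀ i, (F i).toSubmodule ≤ W.toSubmodule := fun i => fixedSub_mono D ρ (D.W0_le i)
  let e : ∀ i, Representation.Equiv (U i).toRepresentation (F i).toRepresentation := fun i =>
    Representation.Equiv.mk (Submodule.comapSubtypeEquivOfLe (hFW i)) fun g => LinearMap.ext fun v => rfl
  have hchar : ∀ i, (U i).toRepresentation.character = (F i).toRepresentation.character :=
    fun i => Representation.char_iso (e i)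
  have hU1 : ∀ i, ∀ w ∈ D.xData.W0, (U i).toRepresentation w = 1 := fun i w hw =>
    LinearMap.ext fun v => Subtype.ext (Subtype.ext ((mem_fixedSub D ρ).1 v.1.2 _ hw))
  have hF1 : ∀ i, ∀ w ∈ D.xData.W0, (F i).toRepresentation w = 1 := fun i w hw =>
    LinearMap.ext fun v => Subtype.ext ((mem_fixedSub D ρ).1 v.2 _ (D.W0_le i hw))
  have hWv : D.xData.Vals τ ζ γ m := D.vals_fixedSub ρ hv _ _ 0 (D.W0_le 0)
  have hUv : ∀ i, D.xData.Vals (U i).toRepresentation ζ γ m := fun i => by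
    obtain ⟨a, b, c⟩ := D.vals_fixedSub ρ hv (D.θ i) (D.X_norm_θ i) i le_rfl
    exact ⟨fun z h1 h2 => by rw [hchar]; exact a z h1 h2,
      fun z h1 h2 => by rw [hchar]; exact b z h1 h2,
      fun z h1 h2 k hk => by rw [hchar]; exact c z h1 h2 k hk⟩
  -- linear constituents
  let lW : Fin 5 → ℕ := fun j => D.xData.rSE τ ζ j ⊤
  let lU : Fin 3 → Fin 5 → ℕ := fun i j => D.xData.rSE τ ζ j (U i).toSubmodule
  have hlW : ∀ j, (lW j : ℂ) = avg D ζ ρ.character D.W0 j := fun j =>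
    D.rSE_fixedSub ρ _ _ le_rfl hζ.pow_eq_one j
  have hlU : ∀ i j, (lU i j : ℂ) = avg D ζ ρ.character (D.θ i) j := fun i j => by
    rw [← D.rSE_fixedSub ρ (D.θ i) (D.X_norm_θ i) (D.W0_le i) hζ.pow_eq_one j]
    show (D.xData.rSE τ ζ j (U i).toSubmodule : ℂ) = _
    rw [← D.xData.rSE_sub (U i) ζ j]
    show _ = ((D.xData.rSE (F i).toRepresentation ζ j ⊤ : ℕ) : ℂ)
    simp only [Mod.XData.rSE, ← Mod.trace_idem (D.xData.PSE_idem (hU1 i) hζ.pow_eq_one j),
      ← Mod.trace_idem (D.xData.PSE_idem (hF1 i) hζ.pow_eq_one j), D.xData.trace_PSE, hchar]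
  have hlU0 : ∀ i j, lU i j = lU 0 j := fun i j => by
    have h : (lU i j : ℂ) = (lU 0 j : ℂ) := by
      rw [hlU, hlU]
      have s0 := D.avg_succ ζ ρ.character (fun g h => ρ.char_conj g h) 0 j
      have s1 := D.avg_succ ζ ρ.character (fun g h => ρ.char_conj g h) 1 j
      fin_cases i
      · rfl
      · exact s0
      · exact s1.trans s0
    exact_mod_cast h
  obtain ⟨hnW, -, hgW⟩ := D.xData.piece hWτ hζ hWv
  have hpU := fun i => D.xData.piece (hU1 i) hζ (hUv i)
  simp only [D.xData.rSE_sub] at hpU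
  have hgU : ∀ i j, D.xData.gFour (U i).toRepresentation ζ j ⊤ =
      D.xData.gFour τ ζ j (U i).toSubmodule := fun i j => by
    simp only [Mod.XData.gFour, D.xData.rA_sub, D.xData.rAE_sub]
  simp only [hgU] at hpU
  change ∀ i, (finrank ℂ (U i).toSubmodule : ℤ) =
      64 * (∑ j, (lU i j : ℤ)) - 3 * (5 * γ - 4 * ∑ j, m j) - 60 * γ ∧
    γ ≤ ∑ j, (lU i j : ℤ) ∧ ∀ j, D.xData.gFour τ ζ j (U i).toSubmodule =
      4 * (m j + ((∑ i_1, (lU i i_1 : ℤ)) - γ) - (lU i j : ℤ)) at hpU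
  simp only [hlU0] at hpU
  change (finrank ℂ W.toSubmodule : ℤ) =
      64 * (∑ j, (lW j : ℤ)) - 3 * (5 * γ - 4 * ∑ j, m j) - 60 * γ at hnW
  change ∀ j, D.xData.gFour τ ζ j ⊤ = 4 * (m j + ((∑ i, (lW i : ℤ)) - γ) - (lW j : ℤ)) at hgW
  -- the three fixed point spaces meet in zero
  have hzero : ∀ v, (∀ i, v ∈ (F i).toSubmodule) → v = 0 := fun v hvi => by
    refine hfix v fun g => ?_
    let St : Subgroup G :=
      { carrier := {g | ρ g v = v}
        one_mem' := by simp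
        mul_mem' := fun {a b} (ha : ρ a v = v) (hb : ρ b v = v) => by
          show ρ (a * b) v = v
          rw [map_mul, Module.End.mul_apply, hb, ha]
        inv_mem' := fun {a} (ha : ρ a v = v) => by
          show ρ a⁻¹ v = v
          conv_lhs => rw [← ha]
          rw [← Module.End.mul_apply, ← map_mul, inv_mul_cancel, map_one]
          rfl }
    have h : ⨆ i, D.θ i ≤ St := iSup_le fun i q hq => (mem_fixedSub D ρ).1 (hvi i) q hq
    rw [D.θ_gen] at h
    exact h (Subgroup.mem_top g)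
  have hmeet : U 0 ⊓ U 1 ⊓ U 2 = ⊥ := by
    refine Subrepresentation.toSubmodule_injective ((Submodule.eq_bot_iff _).2 fun v hvv => ?_)
    obtain ⟨⟨h0, h1⟩, h2⟩ := hvv
    refine Subtype.ext (hzero v.1 fun i => ?_)
    fin_cases i
    exacts [h0, h1, h2]
  have hll : ∀ j, 3 * lU 0 j ≤ 2 * lW j := fun j => by
    have h : lU 0 j + lU 1 j + lU 2 j ≤ 2 * lW j :=
      D.xData.rSE_three hWτ hζ j (U 0) (U 1) (U 2) hmeet
    have := hlU0 1 j
    have := hlU0 2 j
    omega
  have hmono : ∀ j, lU 0 j ≤ lW j := fun j => D.xData.rSE_mono j _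
  have hg3 := D.xData.gFour_three hWτ hζ 0 (U 0) (U 1) (U 2) hmeet
  rw [(hpU 0).2.2 0, (hpU 1).2.2 0, (hpU 2).2.2 0, Mod.XData.toSub_top, hgW 0] at hg3
  have hpos : ∀ j, 0 ≤ m j + ((∑ i, (lU 0 i : ℤ)) - γ) - (lU 0 j : ℤ) := fun j => by
    have h := D.xData.gFour_nonneg hWτ hζ j (U 0)
    rw [(hpU 0).2.2 j] at h
    omega
  -- the whole space
  have hV : ∃ T : ℤ, n = 64 * T - 3 * (5 * γ - 4 * ∑ j, m j) - 60 * γ := by
    let P : Module.End ℂ V := Mod.avgHom (ρ.comp D.S.subtype)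
    refine ⟨finrank ℂ ↥((⊤ : Submodule ℂ V).map P), ?_⟩
    have h := Mod.trace_idem (Mod.avgHom_idem (ρ.comp D.S.subtype))
    have hsum : ∑ s : ↥D.S, ρ.character s =
        (n : ℂ) + 3 * ((5 * γ - 4 * ∑ j, m j : ℤ) : ℂ) + 60 * γ := by
      obtain ⟨α, hα⟩ : ∃ α : ℤ, α = 5 * γ - 4 * ∑ j, m j := ⟨_, rfl⟩
      rw [← hα]
      have e : ∀ s : ↥D.S, ρ.character (s : G) =
          (γ : ℂ) + (if (s : G) ∈ zInv D.S then ((α : ℂ) - γ) else 0) +
            (if (s : G) = 1 then ((n : ℂ) - α) else 0) := fun s => by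
        by_cases h1 : (s : G) = 1
        · rw [h1, hv.deg, if_pos (one_mem _), if_pos rfl]; ring
        · by_cases hs : (s : G) ∈ zInv D.S
          · obtain ⟨i, hi⟩ := D.a_cover _ hs h1
            rw [if_pos hs, if_neg h1, hi, hv.val_a i, ← hα]; ring
          · rw [hv.val_x _ s.2 hs, if_neg hs, if_neg h1]; ring
      have h4 : (Finset.univ.filter fun s : ↥D.S => (s : G) ∈ zInv D.S).card = 4 := by
        rw [← Fintype.card_subtype, ← Nat.card_eq_fintype_card, ← D.card_zInv]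
        exact Nat.card_congr ⟨fun s => ⟨s.1, s.2⟩, fun z => ⟨⟨z, z.2.1⟩, z.2⟩, fun _ => rfl,
          fun _ => rfl⟩
      have h1 : (Finset.univ.filter fun s : ↥D.S => (s : G) = 1).card = 1 :=
        Finset.card_eq_one.2 ⟨1, by ext s; simp⟩
      rw [Finset.sum_congr rfl fun s _ => e s]
      simp only [Finset.sum_add_distrib, Finset.sum_const, Finset.sum_ite, h4, h1,
        Finset.card_univ, ← Nat.card_eq_fintype_card, D.herm.card, nsmul_eq_mul]
      push_cast
      ring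
    have h' : LinearMap.trace ℂ V P = (64 : ℂ)⁻¹ * ∑ s : ↥D.S, ρ.character s := by
      simp only [P, Mod.avgHom, map_smul, map_sum, smul_eq_mul, MonoidHom.comp_apply,
        Subgroup.coe_subtype, Representation.character, ← Nat.card_eq_fintype_card, D.herm.card]
      norm_num
    rw [h', hsum] at h
    have h2 : (n : ℂ) =
        ((64 * (finrank ℂ ↥((⊤ : Submodule ℂ V).map P) : ℤ) -
          3 * (5 * γ - 4 * ∑ j, m j) - 60 * γ : ℤ) : ℂ) := by
      push_cast at h ⊢
      rw [← h]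
      ring
    exact_mod_cast h2
  obtain ⟨T, hT⟩ := hV
  have hnV : (finrank ℂ V : ℤ) = n := by
    have h := hv.deg
    rw [Representation.char_one] at h
    exact_mod_cast h
  have hle : (finrank ℂ W.toSubmodule : ℤ) ≤ n := by
    rw [← hnV]
    exact_mod_cast Submodule.finrank_le _
  refine ⟨fun j => (lW j : ℤ) - lU 0 j, fun j => lU 0 j, fun j => ?_, fun j => ?_, ?_⟩
  · rw [kC, ← hlW, ← hlU]; push_cast; rfl
  · rw [lC, ← hlU]; push_cast; rfl
  refine ⟨fun j => ?_, fun j => ?_, fun j => ?_, (hpU 0).2.1, hpos, ?_, ?_, ?_, ?_⟩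
  · have := hmono j; show 0 ≤ (lW j : ℤ) - lU 0 j; omega
  · show 0 ≤ (lU 0 j : ℤ); omega
  · have := hll j; show (lU 0 j : ℤ) ≤ 2 * ((lW j : ℤ) - lU 0 j); omega
  · simp only [Finset.sum_sub_distrib]
    omega
  · intro hlive
    by_contra hK
    have hK' : ∑ j, (lW j : ℤ) = ∑ j, (lU 0 j : ℤ) := by
      have h : 0 ≤ ∑ j, ((lW j : ℤ) - lU 0 j) :=
        Finset.sum_nonneg fun j _ => by have := hmono j; omega
      simp only [Finset.sum_sub_distrib] at h hK
      omega
    -- then the cores fix everything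
    have hall : ∀ i, (U i).toSubmodule = ⊤ := fun i => Submodule.eq_top_of_finrank_eq (by
      have h1 := (hpU i).1
      rw [← hK'] at h1
      have h2 : (finrank ℂ (U i).toSubmodule : ℤ) = finrank ℂ W.toSubmodule := h1.trans hnW.symm
      exact_mod_cast h2)
    have hW0 : ∀ v : W.toSubmodule, v = 0 := fun v => Subtype.ext (hzero v.1 fun i => by
      have h : v ∈ (U i).toSubmodule := by rw [hall i]; trivial
      exact h)
    have hτ : ∀ g, τ.character g = 0 := fun g => by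
      have h : τ g = 0 := LinearMap.ext fun v => (hW0 _).trans (hW0 _).symm
      rw [Representation.character, h, map_zero]
    have hA : ((5 * γ - 4 * ∑ j, m j : ℤ) : ℂ) = 0 := by
      rw [← hWv.at_A D.xData.a D.xData.a_mem D.xData.a_ne, hτ]
    have hA' : 5 * γ - 4 * ∑ j, m j = 0 := by exact_mod_cast hA
    have hn0 : (finrank ℂ W.toSubmodule : ℤ) = 0 := by
      have h := τ.char_one
      rw [hτ] at h
      exact_mod_cast h.symm
    have hγ : γ = 0 := by
      obtain ⟨s, hs⟩ : ∃ s : ↥D.S, (s : G) ∉ zInv D.S := by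
        by_contra hh
        push Not at hh
        have h := Nat.card_le_card_of_injective (fun s : ↥D.S => (⟨s, hh s⟩ : ↥(zInv D.S)))
          fun s t e => Subtype.ext (Subtype.mk.inj e)
        rw [D.herm.card, D.card_zInv] at h
        norm_num at h
      have h := hWv.at_S ⟨s, D.S_le s.2⟩ s.2 hs
      rw [hτ] at h
      exact_mod_cast h.symm
    have hm : ∀ j, m j = 0 := fun j => by
      have h := Mod.XData.sum_inv_mul_root hζ m j
      rw [Finset.sum_eq_zero] at h
      · have h' : (m j : ℂ) = 0 := by linear_combination (-(1 / 5) : ℂ) * h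
        exact_mod_cast h'
      intro i _
      by_cases hi : i = 0
      · subst hi
        have h0 : ∑ l, (m l : ℂ) = 0 := by
          have h1 : ∑ l, m l = 0 := by omega
          exact_mod_cast h1
        simp [h0]
      · rw [← hWv.at_Ar D.xData.a D.xData.a_mem D.xData.a_ne i.val (Mod.XData.five_not_dvd hi),
          hτ, mul_zero]
    rcases hlive with ⟨j, hj⟩ | hj
    · exact hj (hm j)
    · exact hj hγ
  · simp only [Finset.sum_sub_distrib, Finset.sum_add_distrib, Finset.sum_const, Finset.card_univ,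
      Fintype.card_fin, nsmul_eq_mul]
    push_cast
    omega
  · exact ⟨T - γ, by rw [hT]; ring⟩

/-- The module layer. -/
theorem localBoundsHold : LocalBoundsHold D :=
  fun _ ρ hfix _ hζ _ _ _ hv => local_bounds D ρ hfix hζ hv

end CfsgLib.UFour73
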