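import Cfsg.Agent.Lib.TwoNil.Unitary
import Cfsg.Agent.Lib.Involutions.StronglyEmbedded
import Cfsg.Agent.Lib.Transfer.NormalComplement

/-!
# Sylow 2-subgroups of type `PSU₃(4)`: strong embedding and the branch of order three

A proper subgroup containing `N(S)` and the centralisers of the involutions of `Z(S)` is strongly
embedded; the normaliser of the join of the cores is such a subgroup unless the cores generate `G`.
-/

set_option autoImplicit false
set_option linter.style.haveILetI false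

namespace CfsgLib.UFour73

open Subgroup
open CfsgLib.InvCharSixtyFour (HermLike)
open CfsgLib.PiHom (zInv)

universe u

variable {G : Type u} [Group G] [Finite G]

/-- An involution is conjugate, inside any subgroup containing the Sylow subgroup, into its centre. -/
theorem exists_conj_zInv (S : Sylow 2 G) (h : HermLike ↥(S : Subgroup G) 4) {H : Subgroup G}
    (hSH : (S : Subgroup G) ≤ H) {t : G} (ht : t ∈ H) (ht2 : orderOf t = 2) :
    ∃ m ∈ H, m * t * m⁻¹ ∈ zInv (S : Subgroup G) := by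
  haveI : Fact (Nat.Prime 2) := ⟨Nat.prime_two⟩
  have hp : IsPGroup 2 ↥(zpowers (⟨t, ht⟩ : H)) :=
    IsPGroup.of_card (n := 1) (by rw [Nat.card_zpowers, Subgroup.orderOf_mk, ht2, pow_one])
  obtain ⟨P, hP⟩ := hp.exists_le_sylow
  obtain ⟨m, hm⟩ := MulAction.exists_smul_eq H P (S.subtype hSH)
  refine ⟨m, m.2, ?_⟩
  have h1 : m * ⟨t, ht⟩ * m⁻¹ ∈ ((S.subtype hSH : Sylow 2 H) : Subgroup H) := by
    rw [← hm, Sylow.coe_subgroup_smul]
    exact ⟨_, hP (mem_zpowers _), rfl⟩
  have h2 : (m : G) * t * (m : G)⁻¹ ∈ (S : Subgroup G) := h1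
  have hsq : (m : G) * t * (m : G)⁻¹ * ((m : G) * t * (m : G)⁻¹) = 1 := by
    have : t * t = 1 := by rw [← pow_two, ← ht2, pow_orderOf_eq_one]
    rw [show (m : G) * t * (m : G)⁻¹ * ((m : G) * t * (m : G)⁻¹) = m * (t * t) * (m : G)⁻¹ by group,
      this, mul_one, mul_inv_cancel]
  exact (PiHom.Crit.mem_center_iff S h ⟨_, h2⟩).1 (h.sq_one _ (Subtype.ext hsq))

/-- A proper subgroup containing `N(S)` and all `C(t)`, `t ∈ Z(S)#`, is strongly embedded. -/
theorem isStronglyEmbedded_of (S : Sylow 2 G)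
    (h : HermLike ↥(S : Subgroup G) 4) {H : Subgroup G} (hne : H ≠ ⊤)
    (hN : normalizer ((S : Subgroup G) : Set G) ≤ H)
    (hC : ∀ t ∈ zInv (S : Subgroup G), t ≠ 1 → centralizer ({t} : Set G) ≤ H) :
    Cfsg.IsStronglyEmbedded H := by
  haveI : Fact (Nat.Prime 2) := ⟨Nat.prime_two⟩
  have hSH : (S : Subgroup G) ≤ H := le_normalizer.trans hN
  have heven : Even (Nat.card H) := by
    have h1 : 2 ∣ Nat.card ↥(S : Subgroup G) := h.card ▸ by norm_num
    exact even_iff_two_dvd.2 (h1.trans (card_dvd_of_le hSH))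
  refine Involutions.isStronglyEmbedded_iff.2 ⟨hne, heven, ?_⟩
  intro g hg t htH ht htg
  obtain ⟨m, hm, hu⟩ := exists_conj_zInv S h hSH htH ht
  obtain ⟨n, hn, hv⟩ := exists_conj_zInv S h hSH htg (by
    rw [show g⁻¹ * t * g = g⁻¹ * t * g⁻¹⁻¹ by group, Involutions.orderOf_conj_eq, ht])
  set v := n * (g⁻¹ * t * g) * n⁻¹ with hv'
  set u := m * t * m⁻¹ with hu'
  set k := m * g * n⁻¹ with hk
  have hkv : k * v * k⁻¹ = u := by rw [hk, hv', hu']; group
  obtain ⟨b, hb, hbe⟩ := S.conj_eq_normalizer_conj_of_mem_centralizer v k⁻¹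
    (mem_centralizer_iff.2 fun s hs => hv.2.2 s hs)
    (mem_centralizer_iff.2 fun s hs => by rw [inv_inv, hkv]; exact hu.2.2 s hs)
  rw [inv_inv, hkv] at hbe
  have hv1 : v ≠ 1 := by
    intro e
    have : t = 1 := by
      have h1 : n * (g⁻¹ * t * g) * n⁻¹ = 1 := e
      have h2 : t = g * n⁻¹ * 1 * (g * n⁻¹)⁻¹ := by rw [← h1]; group
      rw [h2]; group
    rw [this, orderOf_one] at ht
    exact absurd ht (by norm_num)
  have hc : b * k ∈ centralizer ({v} : Set G) := by
    rw [mem_centralizer_singleton_iff]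
    have h1 : k * v = u * k := by rw [← hkv]; group
    calc b * k * v = b * (k * v) := by group
      _ = b * (b⁻¹ * v * b * k) := by rw [h1, hbe]
      _ = v * (b * k) := by group
  have hkH : k ∈ H := by
    have := H.mul_mem (H.inv_mem (hN hb)) (hC v hv hv1 hc)
    rwa [inv_mul_cancel_left] at this
  refine hg ?_
  have := H.mul_mem (H.mul_mem (H.inv_mem hm) hkH) hn
  rwa [hk, show m⁻¹ * (m * g * n⁻¹) * n = g by group] at this

/-- In a non-abelian simple group `N(S)` is proper. -/
theorem normalizer_sylow_ne_top [IsSimpleGroup G] (hna : ¬ IsMulCommutative G)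
    (S : Sylow 2 G) (h : HermLike ↥(S : Subgroup G) 4) :
    normalizer ((S : Subgroup G) : Set G) ≠ ⊤ := by
  haveI : Fact (Nat.Prime 2) := ⟨Nat.prime_two⟩
  intro e
  haveI : (S : Subgroup G).Normal := normalizer_eq_top_iff.1 e
  rcases (inferInstance : (S : Subgroup G).Normal).eq_bot_or_eq_top with hb | ht
  · have hc := h.card
    rw [hb, card_bot] at hc
    norm_num at hc
  · -- a simple 2-group is abelian
    have hp : IsPGroup 2 G := by
      intro g
      obtain ⟨k, hk⟩ := S.2 ⟨g, ht ▸ mem_top g⟩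
      exact ⟨k, congrArg Subtype.val hk⟩
    haveI : Group.IsNilpotent G := hp.isNilpotent
    haveI : Group.IsSolvable G := inferInstance
    exact hna ⟨⟨fun a b => IsSimpleGroup.comm_iff_isSolvable.2 inferInstance a b⟩⟩

/-- With cores `θ i` normalised as in a local configuration, either there is a strongly embedded
subgroup or the cores generate the group. -/
theorem exists_embedded_or_iSup_eq_top [IsSimpleGroup G] (hna : ¬ IsMulCommutative G)
    (S : Sylow 2 G) (h : HermLike ↥(S : Subgroup G) 4) {ι : Type*}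
    (a : ι → G) (θ : ι → Subgroup G)
    (hcover : ∀ t ∈ zInv (S : Subgroup G), t ≠ 1 → ∃ i, t = a i)
    (hN : normalizer ((S : Subgroup G) : Set G) ≤ normalizer ((⨆ i, θ i : Subgroup G) : Set G))
    (hC : ∀ i, centralizer ({a i} : Set G) ≤ θ i ⊔ normalizer ((S : Subgroup G) : Set G)) :
    (∃ H : Subgroup G, Cfsg.IsStronglyEmbedded H) ∨ ⨆ i, θ i = ⊤ := by
  by_cases hbot : ⨆ i, θ i = ⊥
  · refine Or.inl ⟨_, isStronglyEmbedded_of S h (normalizer_sylow_ne_top hna S h) le_rfl
      fun t ht ht1 => ?_⟩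
    obtain ⟨i, rfl⟩ := hcover t ht ht1
    refine (hC i).trans (sup_le ?_ le_rfl)
    rw [le_bot_iff.1 ((le_iSup θ i).trans hbot.le)]
    exact bot_le
  by_cases htop : normalizer ((⨆ i, θ i : Subgroup G) : Set G) = ⊤
  · haveI : (⨆ i, θ i : Subgroup G).Normal := normalizer_eq_top_iff.1 htop
    exact Or.inr ((inferInstance : (⨆ i, θ i : Subgroup G).Normal).eq_bot_or_eq_top.resolve_left hbot)
  refine Or.inl ⟨_, isStronglyEmbedded_of S h htop hN fun t ht ht1 => ?_⟩
  obtain ⟨i, rfl⟩ := hcover t ht ht1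
  exact (hC i).trans (sup_le ((le_iSup θ i).trans le_normalizer) hN)

/-- The branch of order three: the centralisers of `Z(S)#` are not all 2-nilpotent. -/
theorem false_of_nilpotent [IsSimpleGroup G] (hna : ¬ IsMulCommutative G) (S : Sylow 2 G)
    (h : HermLike ↥(S : Subgroup G) 4)
    (hnil : ∀ a ∈ zInv (S : Subgroup G), a ≠ 1 → ∃ O : Subgroup G,
      O ≤ centralizer ({a} : Set G) ∧ Odd (Nat.card O) ∧
      centralizer ({a} : Set G) ≤ normalizer (O : Set G) ∧
      centralizer ({a} : Set G) ≤ O ⊔ (S : Subgroup G)) : False := by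
  haveI : Fact (Nat.Prime 2) := ⟨Nat.prime_two⟩
  refine (⟨inferInstance, hna, fun t ht => ?_⟩ : TwoNil.Hyp G).no_hermLike S h
  obtain ⟨m, -, hm⟩ := exists_conj_zInv S h (H := ⊤) le_top (mem_top t) ht
  set a := m * t * m⁻¹ with ha
  have ha1 : a ≠ 1 := fun e => by
    have : t = 1 := by rw [show t = m⁻¹ * a * m by rw [ha]; group, e]; group
    rw [this, orderOf_one] at ht
    exact absurd ht (by norm_num)
  obtain ⟨O, hO1, hO2, hO3, hO4⟩ := hnil a hm ha1
  have hmap : (centralizer ({t} : Set G)).map (MulAut.conj m).toMonoidHom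
      = centralizer ({a} : Set G) := by
    ext x
    rw [mem_map, mem_centralizer_singleton_iff]
    constructor
    · rintro ⟨y, hy, rfl⟩
      rw [mem_centralizer_singleton_iff] at hy
      simp only [MulEquiv.coe_toMonoidHom, MulAut.conj_apply, ha]
      rw [show m * y * m⁻¹ * (m * t * m⁻¹) = m * (y * t) * m⁻¹ by group, hy]
      group
    · intro hx
      refine ⟨m⁻¹ * x * m, mem_centralizer_singleton_iff.2 ?_, by simp; group⟩
      rw [ha] at hx
      calc m⁻¹ * x * m * t = m⁻¹ * (x * (m * t * m⁻¹)) * m := by group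
        _ = m⁻¹ * (m * t * m⁻¹ * x) * m := by rw [hx]
        _ = t * (m⁻¹ * x * m) := by group
  set C := centralizer ({a} : Set G)
  have hSC : (S : Subgroup G) ≤ C := PiHom.le_centralizer_of_mem_zInv hm
  have hnC : Cfsg.HasNormalPComplement 2 C := by
    haveI hn : (O.subgroupOf C).Normal := normal_subgroupOf_of_le_normalizer hO3
    refine ⟨S.subtype hSC, O.subgroupOf C, hn, isComplement'_of_disjoint_and_mul_eq_univ ?_ ?_⟩
    · rw [disjoint_iff, eq_bot_iff]
      rintro x ⟨hxO, hxS⟩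
      have h1 : (x : G) ∈ O ⊓ (S : Subgroup G) := ⟨mem_subgroupOf.1 hxO, mem_subgroupOf.1 hxS⟩
      rw [PiHom.inf_eq_bot_of_odd S.isPGroup' hO2, mem_bot] at h1
      exact mem_bot.2 (Subtype.ext h1)
    · rw [← Subgroup.normal_mul, ← Subgroup.coe_top, SetLike.coe_set_eq, eq_top_iff]
      intro x _
      rw [Sylow.coe_subtype, ← subgroupOf_sup hO1 hSC]
      exact mem_subgroupOf.2 (hO4 x.2)
  exact CfsgLib.Transfer.hasNormalPComplement_of_mulEquiv
    (((centralizer ({t} : Set G)).equivMapOfInjective _ (MulAut.conj m).injective).trans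
      (MulEquiv.subgroupCongr hmap)).symm hnC

end CfsgLib.UFour73
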