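import Cfsg.Agent.Lib.InvChar.HermNoSymThree
import Cfsg.Agent.Lib.PiHom.Count

/-!
# Local data at a Sylow 2-subgroup of type `PSU₃(4)` with an automorphism of order fifteen

Interface between group theory (the structure `Local`), character theory (`LocalValues`) and the
combinatorics of `UFour73.Arith`. See `coord/notes/S3176_P64_helper73.md`.
-/

set_option autoImplicit false

namespace CfsgLib.UFour73

open CfsgLib.InvCharSixtyFour (HermLike)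
open CfsgLib.PiHom (zInv)

universe u

/-- The local configuration: `X = S W₀⟨r⟩` lies in `C(A)`, the three cores `θ i` are cycled by
`y`. -/
structure Local (G : Type u) [Group G] where
  /-- Sylow 2-subgroup -/
  S : Subgroup G
  /-- the odd core of `C(S)` -/
  W0 : Subgroup G
  /-- `C(a) ∩ N(S)` -/
  X : Subgroup G
  /-- element of order five modulo `W0` -/
  r : G
  /-- cycles the three involutions -/
  y : G
  /-- the involutions of the centre of `S` -/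
  a : Fin 3 → G
  /-- their cores -/
  θ : Fin 3 → Subgroup G
  herm : HermLike ↥S 4
  X_eq : X = S ⊔ W0 ⊔ Subgroup.zpowers r
  W0_odd : Odd (Nat.card W0)
  θ_odd : ∀ i, Odd (Nat.card (θ i))
  W0_le : ∀ i, W0 ≤ θ i
  X_norm_W0 : X ≤ Subgroup.normalizer (W0 : Set G)
  X_norm_θ : ∀ i, X ≤ Subgroup.normalizer (θ i : Set G)
  W0_comm : ∀ w ∈ W0, ∀ s ∈ S, w * s = s * w
  r_norm : r ∈ Subgroup.normalizer (S : Set G)
  r_pow : r ^ 5 ∈ W0
  r_not_mem : r ∉ S ⊔ W0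
  r_fix : ∀ z ∈ zInv S, r * z = z * r
  r_free : ∀ s ∈ S, r * s * r⁻¹ * s⁻¹ ∈ zInv S → s ∈ zInv S
  a_mem : ∀ i, a i ∈ zInv S
  a_ne : ∀ i, a i ≠ 1
  a_cover : ∀ z ∈ zInv S, z ≠ 1 → ∃ i, z = a i
  a_inj : Function.Injective a
  y_norm : y ∈ Subgroup.normalizer (S : Set G)
  y_W0 : y ∈ Subgroup.normalizer (W0 : Set G)
  y_r : y * r * y⁻¹ * r⁻¹ ∈ W0
  y_a : ∀ i, y * a i * y⁻¹ = a (i + 1)
  y_θ : ∀ i, (θ i).map (MulAut.conj y).toMonoidHom = θ (i + 1)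
  θ_gen : ⨆ i, θ i = ⊤

variable {G : Type u} [Group G] [Fintype G]

/-- What is used of a character: constancy on the cosets of the cores at 2-singular elements of
`X`, and the values on `X`. -/
structure LocalValues (D : Local G) (ζ : ℂ) (χ : G → ℂ) (n γ : ℤ) (m : Fin 5 → ℤ) : Prop where
  fixed : ∀ i, ∀ g ∈ D.X, Even (orderOf g) → ∀ u ∈ D.θ i, χ (g * u) = χ g
  deg : χ 1 = n
  val_a : ∀ i, χ (D.a i) = ((5 * γ - 4 * ∑ j, m j : ℤ) : ℂ)
  val_x : ∀ s ∈ D.S, s ∉ zInv D.S → χ s = γ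
  val_ar : ∀ k : ℕ, ¬ 5 ∣ k → χ (D.a 0 * D.r ^ k) = ∑ j, (m j : ℂ) * ζ ^ (j.val * k)

open scoped Classical in
/-- Average of `χ` against the character `j` of `⟨r⟩` over `S W`. -/
noncomputable def avg (D : Local G) (ζ : ℂ) (χ : G → ℂ) (W : Subgroup G) (j : Fin 5) : ℂ :=
  (5 * 64 * (Nat.card W : ℂ))⁻¹ *
    ∑ i : Fin 5, ∑ s : ↥D.S, ∑ w : ↥W, (ζ ^ (i.val * j.val))⁻¹ * χ (D.r ^ i.val * s * w)

/-- The linear constituents of the part fixed by the core. -/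
noncomputable def lC (D : Local G) (ζ : ℂ) (χ : G → ℂ) (j : Fin 5) : ℂ := avg D ζ χ (D.θ 0) j

/-- The linear constituents of the part moved by the core and fixed by `W0`. -/
noncomputable def kC (D : Local G) (ζ : ℂ) (χ : G → ℂ) (j : Fin 5) : ℂ :=
  avg D ζ χ D.W0 j - avg D ζ χ (D.θ 0) j

/-- The conclusion of the module argument for one character, in the shape of `Arith.Data`. -/
def LocalBounds (n γ : ℤ) (m k l : Fin 5 → ℤ) : Prop :=
  (∀ i, 0 ≤ k i) ∧ (∀ i, 0 ≤ l i) ∧ (∀ i, l i ≤ 2 * k i) ∧ (γ ≤ ∑ j, l j) ∧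
  (∀ i, 0 ≤ m i + ((∑ j, l j) - γ) - l i) ∧
  (m 0 + ((∑ j, l j) - γ) - l 0 ≤ 2 * ((∑ j, k j) - k 0)) ∧
  (((∃ i, m i ≠ 0) ∨ γ ≠ 0) → 1 ≤ ∑ j, k j) ∧
  ((∑ j, l j) + 15 * ((∑ j, l j) - γ) +
    12 * (∑ j, (m j + ((∑ i, l i) - γ) - l j)) + 64 * (∑ j, k j) ≤ n) ∧
  ((64 : ℤ) ∣ n - 4 * γ + 3 * (5 * γ - 4 * ∑ j, m j))

end CfsgLib.UFour73
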