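import Mathlib
import Cfsg.Agent.Lib.UThreeSylow.FourClosed
import Cfsg.Agent.Lib.UFour73.Embedded
import Cfsg.Agent.Lib.UFour73.LocalDefs

/-!
# Sylow 2-subgroups of type `PSU₃(4)`: the group `C(a) ∩ N(S)` and its action on the roots of `a`

Modulo `S W₀`, with `W₀` the elements of odd order centralising `S`, the group `C(a) ∩ N(S)` acts
without fixed point on the twenty square roots of `a` in `S`, so it has order one or five there.
-/

set_option autoImplicit false
set_option linter.style.haveILetI false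
set_option linter.unusedSectionVars false

namespace CfsgLib.UFour73.Reduce

open Subgroup CfsgLib.UThreeSylow CfsgLib.InvChar.InvolutionCores
open CfsgLib.PiHom (zInv)

universe u

variable {G : Type u} [Group G] [Finite G] {S : Sylow 2 G}

/-- The elements of odd order centralising `S`. -/
noncomputable def wSub (S : Sylow 2 G) (a : G) : Subgroup G :=
  centralizer ((S : Subgroup G) : Set G) ⊓ cc a

/-- The group `C(a) ∩ N(S)`. -/
noncomputable def xSub (S : Sylow 2 G) (a : G) : Subgroup G :=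
  normalizer ((S : Subgroup G) : Set G) ⊓ centralizer ({a} : Set G)

/-- The square roots of `a` in `S`. -/
def Roots (S : Sylow 2 G) (a : G) : Type u := {x : G // x ∈ (S : Subgroup G) ∧ x * x = a}

instance (S : Sylow 2 G) (a : G) : Finite (Roots S a) :=
  inferInstanceAs (Finite {x : G // x ∈ (S : Subgroup G) ∧ x * x = a})

variable (h : UT ↥(S : Subgroup G) 4) {a : G} (ha : a ∈ zS S) (ha1 : a ≠ 1)
include h

theorem mem_zInv_iff {z : G} : z ∈ zInv (S : Subgroup G) ↔ z ∈ zS S :=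
  ⟨fun hz => mem_zS.2 ⟨hz.1, hz.2.2⟩, fun hz => ⟨zS_le hz, zS_sq h hz, (mem_zS.1 hz).2⟩⟩

theorem notMem_zS_of_sq {x : G} (hxa : x * x = a) (hb : a ≠ 1) : x ∉ zS S :=
  fun hx => hb (hxa ▸ zS_sq h hx)

include ha ha1

theorem mem_wSub {w : G} :
    w ∈ wSub S a ↔ Odd (orderOf w) ∧ ∀ s ∈ (S : Subgroup G), w * s = s * w := by
  constructor
  · rintro ⟨hw, hwc⟩
    exact ⟨odd_orderOf_cc hwc, fun s hs => (mem_centralizer_iff.1 hw s hs).symm⟩
  · rintro ⟨ho, hc⟩
    exact ⟨mem_centralizer_iff.2 fun s hs => (hc s hs).symm, mem_cc_of_commute h ha ha1 ho hc⟩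

theorem wSub_eq {b : G} (hb : b ∈ zS S) (hb1 : b ≠ 1) : wSub S a = wSub S b :=
  Subgroup.ext fun _ => (mem_wSub h ha ha1).trans (mem_wSub h hb hb1).symm

omit ha ha1 in
theorem wSub_le_normalizer : wSub S a ≤ normalizer ((S : Subgroup G) : Set G) := fun w hw =>
  mem_normalizer_iff.2 fun x => ⟨fun hx => by
    rwa [← mem_centralizer_iff.1 hw.1 x hx, mul_inv_cancel_right], fun hx => by
    have h1 := mem_centralizer_iff.1 hw.1 _ hx
    rw [inv_mul_cancel_right] at h1
    rw [mul_left_cancel h1]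
    exact hx⟩

theorem mem_sup_wSub {g : G} (hg : g ∈ (S : Subgroup G) ⊔ wSub S a) :
    ∃ s ∈ (S : Subgroup G), ∃ w ∈ wSub S a, g = s * w := by
  rw [← SetLike.mem_coe, coe_mul_of_right_le_normalizer_left _ _ (wSub_le_normalizer h)] at hg
  obtain ⟨s, hs, w, hw, e⟩ := hg
  exact ⟨s, hs, w, hw, e.symm⟩

theorem mem_wSub_of_odd {g : G} (hg : g ∈ (S : Subgroup G) ⊔ wSub S a) (ho : Odd (orderOf g)) :
    g ∈ wSub S a := by
  obtain ⟨s, hs, w, hw, rfl⟩ := mem_sup_wSub h ha ha1 hg
  obtain ⟨k, hk⟩ := IsPGroup.iff_orderOf.1 S.2 ⟨s, hs⟩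
  rw [orderOf_mk] at hk
  refine mem_of_odd_pow_of_two_pow ho (a := k) (by rw [pow_orderOf_eq_one]; exact one_mem _) ?_
  rw [(show Commute s w from mem_centralizer_iff.1 hw.1 s hs).mul_pow, ← hk, pow_orderOf_eq_one,
    one_mul]
  exact pow_mem hw _

omit ha1 in
theorem sylow_le_xSub : (S : Subgroup G) ≤ xSub S a :=
  le_inf le_normalizer (le_centralizer_of_mem_zS ha)

omit ha1 in
theorem wSub_le_xSub : wSub S a ≤ xSub S a :=
  le_inf (wSub_le_normalizer h) fun _ hw => mem_centralizer_singleton_iff.2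
    (mem_centralizer_iff.1 hw.1 a (zS_le ha)).symm

omit ha1 in
theorem sup_le_xSub : (S : Subgroup G) ⊔ wSub S a ≤ xSub S a :=
  sup_le (sylow_le_xSub h ha) (wSub_le_xSub h ha)

theorem fix_of_mem_xSub {g : G} (hg : g ∈ xSub S a) {e : G} (he : e ∈ zS S) : g * e * g⁻¹ = e :=
  fix_zS h hg.1 ha ha1 (mul_inv_eq_of_eq_mul (mem_centralizer_singleton_iff.1 hg.2)) he

theorem xSub_eq {b : G} (hb : b ∈ zS S) (hb1 : b ≠ 1) : xSub S a = xSub S b := by
  ext g
  constructor
  · intro hg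
    exact ⟨hg.1, mem_centralizer_singleton_iff.2 (eq_mul_of_mul_inv_eq (fix_of_mem_xSub h ha ha1 hg hb))⟩
  · intro hg
    exact ⟨hg.1, mem_centralizer_singleton_iff.2 (eq_mul_of_mul_inv_eq (fix_of_mem_xSub h hb hb1 hg ha))⟩

theorem conj_mem_wSub {n w : G} (hn : n ∈ normalizer ((S : Subgroup G) : Set G)) (hw : w ∈ wSub S a) :
    n * w * n⁻¹ ∈ wSub S a := by
  obtain ⟨ho, hc⟩ := (mem_wSub h ha ha1).1 hw
  refine (mem_wSub h ha ha1).2 ⟨by rw [Involutions.orderOf_conj_eq]; exact ho, fun s hs => ?_⟩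
  have hs' : n⁻¹ * s * n ∈ (S : Subgroup G) := by
    have := (mem_normalizer_iff.1 (inv_mem hn) s).1 hs
    rwa [inv_inv] at this
  calc n * w * n⁻¹ * s = n * (w * (n⁻¹ * s * n)) * n⁻¹ := by group
    _ = n * (n⁻¹ * s * n * w) * n⁻¹ := by rw [hc _ hs']
    _ = s * (n * w * n⁻¹) := by group

theorem normalizer_le_normalizer_wSub :
    normalizer ((S : Subgroup G) : Set G) ≤ normalizer (wSub S a : Set G) := fun n hn =>
  mem_normalizer_iff.2 fun w => ⟨conj_mem_wSub h ha ha1 hn, fun hw => by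
    have := conj_mem_wSub h ha ha1 (inv_mem hn) hw
    rwa [inv_inv, show n⁻¹ * (n * w * n⁻¹) * n = w by group] at this⟩

theorem conj_mem_sup {n g : G} (hn : n ∈ normalizer ((S : Subgroup G) : Set G))
    (hg : g ∈ (S : Subgroup G) ⊔ wSub S a) : n * g * n⁻¹ ∈ (S : Subgroup G) ⊔ wSub S a := by
  obtain ⟨s, hs, w, hw, rfl⟩ := mem_sup_wSub h ha ha1 hg
  rw [show n * (s * w) * n⁻¹ = n * s * n⁻¹ * (n * w * n⁻¹) by group]
  exact mul_mem_sup ((mem_normalizer_iff.1 hn s).1 hs) (conj_mem_wSub h ha ha1 hn hw)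

theorem normal_sup : (((S : Subgroup G) ⊔ wSub S a).subgroupOf (xSub S a)).Normal :=
  ⟨fun _ hg n => conj_mem_sup h ha ha1 n.2.1 hg⟩

omit ha1 in
theorem odd_relIndex : Odd (((S : Subgroup G) ⊔ wSub S a).relIndex (xSub S a)) := by
  have : Fact (Nat.Prime 2) := ⟨Nat.prime_two⟩
  rw [← Nat.not_even_iff_odd, even_iff_two_dvd]
  intro hd
  refine (S.subtype (sylow_le_xSub h ha)).not_dvd_index (hd.trans ?_)
  exact Dvd.intro_left _ (relIndex_mul_relIndex (S : Subgroup G) _ _ le_sup_left (sup_le_xSub h ha))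

/-- An element of odd order of `C(a) ∩ N(S)` fixing a noncentral coset centralises `S`. -/
theorem commute_of_fix_coset {g x : G} (hg : g ∈ xSub S a) (ho : Odd (orderOf g))
    (hx : x ∈ (S : Subgroup G)) (hxc : x ∉ zS S) (hfix : x⁻¹ * (g * x * g⁻¹) ∈ zS S)
    {s : G} (hs : s ∈ (S : Subgroup G)) : g * s = s * g := by
  set φ : MulAut ↥(S : Subgroup G) := normalizerMonoidHom (S : Subgroup G) ⟨g, hg.1⟩ with hφdef
  have hφ : ∀ v : ↥(S : Subgroup G), (φ v : G) = g * v * g⁻¹ := fun v => rfl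
  have hφk : φ ^ orderOf g = 1 := by
    have e : (⟨g, hg.1⟩ : ↥(normalizer ((S : Subgroup G) : Set G))) ^ orderOf g = 1 :=
      Subtype.ext (pow_orderOf_eq_one g)
    rw [hφdef, ← map_pow, e, map_one]
  have hφ1 : φ = 1 := by
    refine fix_all h φ ho hφk (fun z hz => Subtype.ext ?_) (v := ⟨x, hx⟩)
      (fun hc => hxc (mem_center_iff_zS.1 hc)) ?_
    · rw [hφ]; exact fix_of_mem_xSub h ha ha1 hg (mem_center_iff_zS.1 hz)
    · rw [mem_center_iff_zS]; exact hfix
  have h1 := hφ ⟨s, hs⟩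
  rw [hφ1, MulAut.one_apply] at h1
  exact eq_mul_of_mul_inv_eq h1.symm

/-- An element of `C(a) ∩ N(S)` fixing a noncentral element lies in `S W₀`. -/
theorem mem_sup_of_fix {g x : G} (hg : g ∈ xSub S a) (hx : x ∈ (S : Subgroup G)) (hxc : x ∉ zS S)
    (hgx : g * x * g⁻¹ = x) : g ∈ (S : Subgroup G) ⊔ wSub S a := by
  have : Fact (Nat.Prime 2) := ⟨Nat.prime_two⟩
  obtain ⟨k, hk⟩ := exists_odd_part g
  refine mem_of_odd_pow_of_two_pow (k := ((S : Subgroup G).subgroupOf (xSub S a)).index) (a := k)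
    ?_ ?_ ?_
  · rw [← Nat.not_even_iff_odd, even_iff_two_dvd]
    exact (S.subtype (sylow_le_xSub h ha)).not_dvd_index
  · haveI : ((S : Subgroup G).subgroupOf (xSub S a)).Normal :=
      normal_subgroupOf_of_le_normalizer inf_le_left
    exact mem_sup_left (pow_index_mem ((S : Subgroup G).subgroupOf (xSub S a)) (⟨g, hg⟩ : xSub S a))
  · refine mem_sup_right ((mem_wSub h ha ha1).2 ⟨hk, fun s hs => ?_⟩)
    refine commute_of_fix_coset h ha ha1 (pow_mem hg _) hk hx hxc ?_ hs
    have hc : Commute g x := eq_mul_of_mul_inv_eq hgx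
    rw [(hc.pow_left _).eq, mul_inv_cancel_right, inv_mul_cancel]
    exact one_mem _

omit ha1 in
theorem card_roots (hf : ∀ b ∈ zS S, b ≠ 1 →
      ∃ n ∈ normalizer ((S : Subgroup G) : Set G), n * a * n⁻¹ = b) (ha1 : a ≠ 1) :
    Nat.card (Roots S a) = 20 := by
  classical
  let _ := Fintype.ofFinite G
  let f : ↥(S : Subgroup G) → ↥(zS S) := fun x => ⟨(x : G) * x, sq_mem_zS h x.2⟩
  have hfib : ∀ b : ↥(zS S), Nat.card {x : ↥(S : Subgroup G) // f x = b} = Nat.card (Roots S (b : G)) :=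
    fun b => Nat.card_congr
      { toFun := fun x => ⟨(x.1 : G), x.1.2, congrArg Subtype.val x.2⟩
        invFun := fun x => ⟨⟨x.1, x.2.1⟩, Subtype.ext x.2.2⟩
        left_inv := fun _ => rfl
        right_inv := fun _ => rfl }
  have hone : Nat.card (Roots S (1 : G)) = 4 := by
    refine Eq.trans (Nat.card_congr ?_) (card_sq_one h)
    exact
      { toFun := fun x => ⟨⟨x.1, x.2.1⟩, Subtype.ext x.2.2⟩
        invFun := fun x => ⟨(x.1 : G), x.1.2, congrArg Subtype.val x.2⟩
        left_inv := fun _ => rfl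
        right_inv := fun _ => rfl }
  have heq : ∀ b ∈ zS S, b ≠ 1 → Nat.card (Roots S b) = Nat.card (Roots S a) := by
    intro b hb hb1
    obtain ⟨n, hn, hnab⟩ := hf b hb hb1
    refine (Nat.card_congr (Equiv.subtypeEquiv (MulAut.conj n).toEquiv fun x => ?_)).symm
    constructor
    · rintro ⟨hx, hx2⟩
      refine ⟨(mem_normalizer_iff.1 hn x).1 hx, ?_⟩
      show n * x * n⁻¹ * (n * x * n⁻¹) = b
      rw [← hnab, ← hx2]; group
    · rintro ⟨hx, hx2⟩
      refine ⟨(mem_normalizer_iff.1 hn x).2 hx, (MulAut.conj n).injective ?_⟩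
      rw [map_mul]
      exact hx2.trans hnab.symm
  have h1 := Nat.card_congr (Equiv.sigmaFiberEquiv f)
  rw [Nat.card_sigma, h.card, Finset.sum_congr rfl fun b _ => hfib b,
    ← Finset.add_sum_erase _ _ (Finset.mem_univ (1 : ↥(zS S))), OneMemClass.coe_one, hone,
    Finset.sum_congr rfl fun (b : ↥(zS S)) hb => heq b b.2 fun e => (Finset.mem_erase.1 hb).1 (Subtype.ext e),
    Finset.sum_const, Finset.card_erase_of_mem (Finset.mem_univ _), Finset.card_univ,
    ← Nat.card_eq_fintype_card, card_zS h] at h1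
  simp only [smul_eq_mul] at h1
  omega

/-- The action by conjugation on the roots. -/
noncomputable abbrev rootsAction : MulAction ↥(xSub S a) (Roots S a) where
  smul g x := ⟨(g : G) * x.1 * (g : G)⁻¹, (mem_normalizer_iff.1 g.2.1 x.1).1 x.2.1, by
    calc (g : G) * x.1 * (g : G)⁻¹ * ((g : G) * x.1 * (g : G)⁻¹)
        = (g : G) * (x.1 * x.1) * (g : G)⁻¹ := by group
      _ = a := by rw [x.2.2]; exact fix_of_mem_xSub h ha ha1 g.2 ha⟩
  one_smul x := Subtype.ext (by show ((1 : xSub S a) : G) * x.1 * _ = x.1; simp)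
  mul_smul g g' x := Subtype.ext (by
    show ((g * g' : xSub S a) : G) * x.1 * ((g * g' : xSub S a) : G)⁻¹ =
      (g : G) * ((g' : G) * x.1 * (g' : G)⁻¹) * (g : G)⁻¹
    rw [coe_mul]; group)

theorem stabilizer_le (x : Roots S a) :
    letI := rootsAction h ha ha1
    MulAction.stabilizer ↥(xSub S a) x ≤ ((S : Subgroup G) ⊔ wSub S a).subgroupOf (xSub S a) := by
  intro g hg
  exact mem_sup_of_fix h ha ha1 g.2 x.2.1 (notMem_zS_of_sq h x.2.2 ha1)
    (congrArg Subtype.val hg)

/-- The order of `C(a) ∩ N(S)` modulo `S W₀` is one or five. -/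
theorem relIndex_eq (hf : ∀ b ∈ zS S, b ≠ 1 →
      ∃ n ∈ normalizer ((S : Subgroup G) : Set G), n * a * n⁻¹ = b) :
    ((S : Subgroup G) ⊔ wSub S a).relIndex (xSub S a) = 1 ∨
      ((S : Subgroup G) ⊔ wSub S a).relIndex (xSub S a) = 5 := by
  classical
  let _ := Fintype.ofFinite G
  letI := rootsAction h ha ha1
  have hsum : ((S : Subgroup G) ⊔ wSub S a).relIndex (xSub S a) ∣ Nat.card (Roots S a) := by
    let _ := Fintype.ofFinite (MulAction.orbitRel.Quotient ↥(xSub S a) (Roots S a))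
    rw [Nat.card_congr (MulAction.selfEquivSigmaOrbitsQuotientStabilizer ↥(xSub S a) (Roots S a)),
      Nat.card_sigma]
    exact Finset.dvd_sum fun ω _ => by
      rw [← index_eq_card]
      exact index_dvd_of_le (stabilizer_le h ha ha1 _)
  rw [card_roots h ha hf ha1] at hsum
  have ho := odd_relIndex h ha
  generalize ((S : Subgroup G) ⊔ wSub S a).relIndex (xSub S a) = m at hsum ho ⊢
  have hm : m ∈ Nat.divisors 20 := Nat.mem_divisors.2 ⟨hsum, by norm_num⟩
  rw [show Nat.divisors 20 = {1, 2, 4, 5, 10, 20} by decide] at hm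
  simp only [Finset.mem_insert, Finset.mem_singleton] at hm
  rcases hm with rfl | rfl | rfl | rfl | rfl | rfl
  all_goals first
    | exact Or.inl rfl | exact Or.inr rfl | exact absurd ho (by decide)

omit ha1 in
theorem relIndex_centralizer {x : G} (hx : x ∈ (S : Subgroup G)) (hxc : x ∉ zS S) :
    (centralizer ({x} : Set G)).relIndex (S : Subgroup G) = 4 := by
  have h1 := ((centralizer ({x} : Set G)).subgroupOf (S : Subgroup G)).card_mul_index
  have h2 : Nat.card ((centralizer ({x} : Set G)).subgroupOf (S : Subgroup G)) = 16 := by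
    refine Eq.trans ?_ (card_commute h (x₀ := ⟨x, hx⟩) fun hc => hxc (mem_center_iff_zS.1 hc))
    refine Nat.card_congr (Equiv.subtypeEquivRight fun u => ?_)
    rw [mem_subgroupOf, mem_centralizer_singleton_iff]
    exact ⟨fun e => Subtype.ext e.symm, fun e => (congrArg Subtype.val e.eq).symm⟩
  rw [h2, h.card, ← relIndex] at h1
  omega

/-- In the case of order five `C(a) ∩ N(S)` is transitive on the roots. -/
theorem conj_of_sq_eq (hf : ∀ b ∈ zS S, b ≠ 1 →
      ∃ n ∈ normalizer ((S : Subgroup G) : Set G), n * a * n⁻¹ = b)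
    (h5 : ((S : Subgroup G) ⊔ wSub S a).relIndex (xSub S a) = 5) {x y : G}
    (hx : x ∈ (S : Subgroup G)) (hx2 : x * x = a) (hy : y ∈ (S : Subgroup G)) (hy2 : y * y = a) :
    ∃ g ∈ xSub S a, g * x * g⁻¹ = y := by
  classical
  letI := rootsAction h ha ha1
  set x' : Roots S a := ⟨x, hx, hx2⟩
  set C := centralizer ({x} : Set G)
  have hxc := notMem_zS_of_sq h hx2 ha1
  have hst : MulAction.stabilizer ↥(xSub S a) x' = C.subgroupOf (xSub S a) := by
    ext g
    rw [MulAction.mem_stabilizer_iff, mem_subgroupOf, mem_centralizer_singleton_iff]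
    constructor
    · exact fun e => eq_mul_of_mul_inv_eq (congrArg Subtype.val e :)
    · exact fun e => Subtype.ext (mul_inv_eq_of_eq_mul e)
  set L := C ⊓ xSub S a
  set K := (S : Subgroup G) ⊔ wSub S a
  have hLK : L ≤ K := fun g hg => mem_sup_of_fix h ha ha1 hg.2 hx hxc
    (mul_inv_eq_of_eq_mul (mem_centralizer_singleton_iff.1 hg.1))
  have h4 : 4 ≤ L.relIndex K := by
    refine le_trans (le_of_eq ?_) (relIndex_le_of_le_right (le_sup_left : (S : Subgroup G) ≤ K)
      (show (L.subgroupOf K).index ≠ 0 from index_ne_zero_of_finite))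
    rw [← relIndex_centralizer h ha hx hxc, ← inf_relIndex_right L, ← inf_relIndex_right C,
      inf_assoc, inf_eq_right.2 (sylow_le_xSub h ha)]
  have hidx : 20 ≤ (MulAction.stabilizer ↥(xSub S a) x').index := by
    rw [hst, ← relIndex, ← inf_relIndex_right, ← relIndex_mul_relIndex L K _ hLK (sup_le_xSub h ha),
      show K.relIndex (xSub S a) = 5 from h5]
    omega
  rw [MulAction.index_stabilizer] at hidx
  have huniv : MulAction.orbit ↥(xSub S a) x' = Set.univ := by
    refine Set.eq_of_subset_of_ncard_le (Set.subset_univ _) ?_ (Set.toFinite _)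
    rw [Set.ncard_univ, card_roots h ha hf ha1]
    exact hidx
  obtain ⟨g, hg⟩ := huniv ▸ Set.mem_univ (⟨y, hy, hy2⟩ : Roots S a)
  exact ⟨g, g.2, congrArg Subtype.val hg⟩

end CfsgLib.UFour73.Reduce
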