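import Mathlib
import Cfsg.Agent.Lib.UFour73.ReduceBase
import Cfsg.Agent.Lib.UFour73.Setting

/-!
# Sylow 2-subgroups of type `PSU₃(4)`: the local configuration

A simple group either has a strongly embedded subgroup or satisfies `Setting`.
-/

set_option autoImplicit false
set_option linter.style.haveILetI false
set_option linter.unusedSectionVars false

namespace CfsgLib.UFour73

open Subgroup CfsgLib.UThreeSylow CfsgLib.InvChar.InvolutionCores Reduce
open CfsgLib.InvCharSixtyFour (HermLike)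
open CfsgLib.PiHom (zInv)

universe u

variable {G : Type u} [Group G] [Finite G]

namespace Reduce

/-- In a non-abelian simple group no nontrivial element is central. -/
theorem notMem_center [IsSimpleGroup G] (hna : ¬ IsMulCommutative G) {a : G} (ha1 : a ≠ 1) :
    a ∉ center G := fun hc => by
  rcases (inferInstance : (center G).Normal).eq_bot_or_eq_top with h | h
  · exact ha1 (mem_bot.1 (h ▸ hc))
  · exact hna ⟨⟨fun x y => mem_center_iff.1 (h ▸ mem_top y : y ∈ center G) x⟩⟩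

/-- In a non-abelian simple group with a nontrivial Sylow 2-subgroup the core is trivial. -/
theorem oddCore_eq_bot [IsSimpleGroup G] {S : Sylow 2 G} (h : UT ↥(S : Subgroup G) 4) :
    Cfsg.oddCore G = ⊥ := by
  have hn : (Cfsg.oddCore G).Normal := Cfsg.pPrimeCore_normal 2 _
  refine hn.eq_bot_or_eq_top.resolve_right fun e => ?_
  have hd : Nat.card ↥(S : Subgroup G) ∣ Nat.card G := card_subgroup_dvd_card _
  have ho : Odd (Nat.card (Cfsg.oddCore G)) :=
    Nat.coprime_two_right.1 CfsgLib.PCore.pPrimeCore_coprime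
  rw [e, card_top] at ho
  rw [h.card] at hd
  exact ho.not_two_dvd_nat ((by norm_num : 2 ∣ 4 ^ 3).trans hd)

/-- An element of `N(S)` cycling the three involutions of `Z(S)`. -/
theorem exists_cycle {S : Sylow 2 G} (h : UT ↥(S : Subgroup G) 4) {a : G} (ha : a ∈ zS S)
    (ha1 : a ≠ 1)
    (hf : ∀ b ∈ zS S, b ≠ 1 → ∃ n ∈ normalizer ((S : Subgroup G) : Set G), n * a * n⁻¹ = b) :
    ∃ y ∈ normalizer ((S : Subgroup G) : Set G), ∃ b ∈ zS S, ∃ c ∈ zS S, b ≠ 1 ∧ c ≠ 1 ∧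
      a ≠ b ∧ a ≠ c ∧ b ≠ c ∧ y * a * y⁻¹ = b ∧ y * b * y⁻¹ = c ∧ y * c * y⁻¹ = a := by
  have : Fact (Nat.Prime 2) := ⟨Nat.prime_two⟩
  obtain ⟨b₀, hb₀, hb₀1, hb₀a⟩ := exists_other h (a := a)
  obtain ⟨n, hn, hna⟩ := hf b₀ hb₀ hb₀1
  obtain ⟨k, hk⟩ := exists_odd_part n
  set y := n ^ 2 ^ k
  have hy : y ∈ normalizer ((S : Subgroup G) : Set G) := pow_mem hn _
  have hzn := normalizer_le_normalizer_zS hy
  have hb : y * a * y⁻¹ ∈ zS S := (mem_normalizer_iff.1 hzn a).1 ha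
  have hc : y * (y * a * y⁻¹) * y⁻¹ ∈ zS S := (mem_normalizer_iff.1 hzn _).1 hb
  have hd : y * (y * (y * a * y⁻¹) * y⁻¹) * y⁻¹ ∈ zS S := (mem_normalizer_iff.1 hzn _).1 hc
  have hb1 : y * a * y⁻¹ ≠ 1 := fun e => ha1 (conj_eq_one_iff.1 e)
  have hc1 : y * (y * a * y⁻¹) * y⁻¹ ≠ 1 := fun e => hb1 (conj_eq_one_iff.1 e)
  have hab : y * a * y⁻¹ ≠ a := fun e => by
    refine hb₀a ?_
    rw [← hna]
    refine mul_inv_eq_of_eq_mul (mem_centralizer_singleton_iff.1 (mem_of_odd_pow_of_two_pow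
      (H := centralizer ({a} : Set G))
      (k := ((S : Subgroup G).subgroupOf (normalizer ((S : Subgroup G) : Set G))).index) (a := k)
      ?_ ?_ ?_))
    · rw [← Nat.not_even_iff_odd, even_iff_two_dvd]
      exact (S.subtype le_normalizer).not_dvd_index
    · exact le_centralizer_of_mem_zS ha (pow_index_mem
        ((S : Subgroup G).subgroupOf (normalizer ((S : Subgroup G) : Set G)))
        (⟨n, hn⟩ : ↥(normalizer ((S : Subgroup G) : Set G))))
    · exact mem_centralizer_singleton_iff.2 (eq_mul_of_mul_inv_eq e)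
  have hbc : y * (y * a * y⁻¹) * y⁻¹ ≠ y * a * y⁻¹ := fun e =>
    hab ((MulAut.conj y).injective e)
  have hac : y * (y * a * y⁻¹) * y⁻¹ ≠ a := fun e => by
    refine hab (mul_inv_eq_of_eq_mul (mem_centralizer_singleton_iff.1 (mem_of_odd_pow_of_two_pow
      (H := centralizer ({a} : Set G)) (k := orderOf y) (a := 1) hk
      (by rw [pow_orderOf_eq_one]; exact one_mem _) ?_)))
    refine mem_centralizer_singleton_iff.2 (eq_mul_of_mul_inv_eq ?_)
    rw [pow_one, pow_two, show y * y * a * (y * y)⁻¹ = y * (y * a * y⁻¹) * y⁻¹ by group]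
    exact e
  refine ⟨y, hy, _, hb, _, hc, hb1, hc1, Ne.symm hab, Ne.symm hac, Ne.symm hbc, rfl, rfl, ?_⟩
  rcases zS_cases h ha hb ha1 hb1 (Ne.symm hab) hd with e | e | e | e
  · exact absurd (conj_eq_one_iff.1 e) hc1
  · exact e
  · exact absurd ((MulAut.conj y).injective e) hac
  · exfalso
    rcases zS_cases h ha hb ha1 hb1 (Ne.symm hab) hc with e' | e' | e' | e'
    · exact hc1 e'
    · exact hac e'
    · exact hbc e'
    · exact hab (fix_zS h hy hc hc1 (e.trans e'.symm) ha)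

/-- Conjugation maps cores to cores. -/
theorem map_cc (n b : G) : (cc b).map (MulAut.conj n).toMonoidHom = cc (n * b * n⁻¹) := by
  refine le_antisymm ?_ fun x hx => ?_
  · rintro _ ⟨x, hx, rfl⟩
    exact cc_conj n hx
  · refine ⟨n⁻¹ * x * n, ?_, ?_⟩
    · have h1 := cc_conj n⁻¹ hx
      rwa [inv_inv, show n⁻¹ * (n * b * n⁻¹) * n = b by group] at h1
    · show n * (n⁻¹ * x * n) * n⁻¹ = x
      group

end Reduce

/-- A simple group with Sylow 2-subgroups of type `PSU₃(4)` has a strongly embedded subgroup or the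
local configuration of `Setting`. -/
theorem setting_or_embedded [IsSimpleGroup G] (hna : ¬ IsMulCommutative G) (S : Sylow 2 G)
    (hh : HermLike ↥(S : Subgroup G) 4) :
    (∃ H : Subgroup G, Cfsg.IsStronglyEmbedded H) ∨ Nonempty (Setting G) := by
  classical
  have : Fact (Nat.Prime 2) := ⟨Nat.prime_two⟩
  have h := ut_of_hermLike_four hh
  have hO := Reduce.oddCore_eq_bot h
  obtain ⟨a, ha, ha1, -⟩ := exists_other h (a := (1 : G))
  have hfus : ∀ c ∈ zS S, c ≠ 1 → ∀ b ∈ zS S, b ≠ 1 →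
      ∃ n ∈ normalizer ((S : Subgroup G) : Set G), n * c * n⁻¹ = b := fun c hc hc1 b hb hb1 =>
    fused_of_not_central h hO hc hb (notMem_center hna hc1) hb1
  set K := (S : Subgroup G) ⊔ wSub S a
  set X := xSub S a
  have hKX : K ≤ X := sup_le_xSub h ha
  rcases relIndex_eq h ha ha1 (hfus a ha ha1) with h1 | h5
  · -- the branch of order three
    exfalso
    have hXK : X ≤ K := relIndex_eq_one.1 h1
    refine false_of_nilpotent hna S hh fun b hb hb1 => ?_
    have hbS : b ∈ zS S := (Reduce.mem_zInv_iff h).1 hb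
    refine ⟨cc b, cc_le b, odd_card_cc b, fun g hg => ?_, fun g hg => ?_⟩
    · have hg' := mem_centralizer_singleton_iff.1 hg
      refine mem_normalizer_iff.2 fun x => ⟨fun hx => conj_mem_cc hg' hx, fun hx => ?_⟩
      have := conj_mem_cc (show Commute g⁻¹ b from (show Commute g b from hg').inv_left) hx
      rwa [inv_inv, show g⁻¹ * (g * x * g⁻¹) * g = x by group] at this
    · obtain ⟨k, hk, n, hn, hnc, rfl⟩ := centralizer_decomp h hbS hb1 hg
      have hnX : n ∈ X := (xSub_eq h ha ha1 hbS hb1).symm.le ⟨hn, hnc⟩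
      obtain ⟨s, hs, w, hw, rfl⟩ := mem_sup_wSub h ha ha1 (hXK hnX)
      refine mul_mem (mem_sup_left hk) (mul_mem (mem_sup_right hs) (mem_sup_left ?_))
      exact (wSub_eq h ha ha1 hbS hb1 ▸ hw : w ∈ wSub S b).2
  obtain ⟨y₀, hy₀, b, hb, c, hc, hb1, hc1, hab, hac, hbc, hya, hyb, hyc⟩ :=
    exists_cycle h ha ha1 (hfus a ha ha1)
  -- the element of order five
  obtain ⟨g₀, hg₀X, hg₀K⟩ : ∃ g ∈ X, g ∉ K := by
    by_contra hcon
    push Not at hcon
    rw [show K.relIndex X = 1 from relIndex_eq_one.2 hcon] at h5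
    omega
  have hnorm : (K.subgroupOf X).Normal := normal_sup h ha ha1
  have hcardQ : Nat.card (↥X ⧸ K.subgroupOf X) = 5 := h5
  have hpowK : ∀ g ∈ X, g ^ 5 ∈ K := fun g hg => by
    have h2 := pow_index_mem (K.subgroupOf X) (⟨g, hg⟩ : X)
    rw [show (K.subgroupOf X).index = 5 from h5] at h2
    exact h2
  obtain ⟨e₀, hodd⟩ := exists_odd_part g₀
  set r := g₀ ^ 2 ^ e₀
  have hrX : r ∈ X := pow_mem hg₀X _
  have hrK : r ∉ K := fun hr =>
    hg₀K (mem_of_odd_pow_of_two_pow (k := 5) (by decide) (hpowK _ hg₀X) hr)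
  have hrodd : Odd (orderOf r) := hodd
  have hr5 : r ^ 5 ∈ wSub S a :=
    mem_wSub_of_odd h ha ha1 (hpowK r hrX) (hrodd.of_dvd_nat (orderOf_pow_dvd 5))
  have hrfix : ∀ z ∈ zS S, r * z = z * r := fun z hz =>
    eq_mul_of_mul_inv_eq (fix_of_mem_xSub h ha ha1 hrX hz)
  have hrfree : ∀ s ∈ (S : Subgroup G), r * s * r⁻¹ * s⁻¹ ∈ zS S → s ∈ zS S := by
    intro s hs hcom
    by_contra hsc
    refine hrK (mem_sup_right ((mem_wSub h ha ha1).2 ⟨hrodd, fun t ht => ?_⟩))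
    refine commute_of_fix_coset h ha ha1 hrX hrodd hs hsc ?_ ht
    rw [show s⁻¹ * (r * s * r⁻¹) = s⁻¹ * (r * s * r⁻¹ * s⁻¹) * s by group, mul_assoc,
      (show Commute (r * s * r⁻¹ * s⁻¹) s from ((mem_zS.1 hcom).2 s hs).symm).eq, inv_mul_cancel_left]
    exact hcom
  -- `y₀` centralises `r` modulo `S W₀`
  set Q := ↥X ⧸ K.subgroupOf X
  set q : ↥X →* Q := QuotientGroup.mk' (K.subgroupOf X)
  have hXn : ∀ g ∈ X, y₀ * g * y₀⁻¹ ∈ X := by
    intro g hg
    have hyN : y₀ * g * y₀⁻¹ ∈ normalizer ((S : Subgroup G) : Set G) :=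
      mul_mem (mul_mem hy₀ hg.1) (inv_mem hy₀)
    refine ⟨hyN, ?_⟩
    have h1 : y₀ * g * y₀⁻¹ ∈ centralizer ({b} : Set G) := by
      refine mem_centralizer_singleton_iff.2 (eq_mul_of_mul_inv_eq ?_)
      rw [← hya, show y₀ * g * y₀⁻¹ * (y₀ * a * y₀⁻¹) * (y₀ * g * y₀⁻¹)⁻¹ =
        y₀ * (g * a * g⁻¹) * y₀⁻¹ by group, fix_of_mem_xSub h ha ha1 hg ha]
    exact ((xSub_eq h ha ha1 hb hb1).symm.le ⟨hyN, h1⟩).2
  have hqK : ∀ g : ↥X, q g = 1 ↔ (g : G) ∈ K := fun g =>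
    (QuotientGroup.eq_one_iff g).trans mem_subgroupOf
  have hqr : q ⟨r, hrX⟩ ≠ 1 := fun e => hrK ((hqK _).1 e)
  have : Fact (Nat.Prime 5) := ⟨by norm_num⟩
  have hgenQ : ∀ g : ↥X, ∃ i : ℤ, q ⟨r, hrX⟩ ^ i = q g := fun g =>
    mem_zpowers_iff.1 (mem_zpowers_of_prime_card hcardQ hqr)
  obtain ⟨i, hi⟩ := hgenQ ⟨y₀ * r * y₀⁻¹, hXn r hrX⟩
  have hstep : ∀ (g : ↥X) (j : ℤ), q g = q ⟨r, hrX⟩ ^ j →
      q ⟨y₀ * g * y₀⁻¹, hXn g g.2⟩ = q ⟨r, hrX⟩ ^ (i * j) := by
    intro g j hg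
    let cy : ↥X →* ↥X := MonoidHom.mk' (fun g => ⟨y₀ * g * y₀⁻¹, hXn g g.2⟩) fun u v =>
      Subtype.ext (by show y₀ * (u * v : G) * y₀⁻¹ = y₀ * u * y₀⁻¹ * (y₀ * v * y₀⁻¹); group)
    have hk : ((⟨r, hrX⟩ : X) ^ j)⁻¹ * g ∈ K.subgroupOf X := by
      rw [← QuotientGroup.eq, ← QuotientGroup.mk'_apply, ← QuotientGroup.mk'_apply, map_zpow]
      exact hg.symm
    have h2 : q (cy (((⟨r, hrX⟩ : X) ^ j)⁻¹ * g)) = 1 :=
      (hqK _).2 (conj_mem_sup h ha ha1 hy₀ hk)
    rw [map_mul, map_mul, map_inv, map_inv, inv_mul_eq_one, map_zpow, map_zpow,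
      show q (cy ⟨r, hrX⟩) = q ⟨r, hrX⟩ ^ i from hi.symm, ← zpow_mul] at h2
    exact h2.symm
  have hcyc : q ⟨r, hrX⟩ ^ (i * (i * i)) = q ⟨r, hrX⟩ ^ (1 : ℤ) := by
    rw [← hstep _ _ (hstep _ _ hi.symm), zpow_one]
    have hy3 : y₀ * y₀ * y₀ ∈ X := by
      refine ⟨mul_mem (mul_mem hy₀ hy₀) hy₀, mem_centralizer_singleton_iff.2 (eq_mul_of_mul_inv_eq ?_)⟩
      rw [show y₀ * y₀ * y₀ * a * (y₀ * y₀ * y₀)⁻¹ = y₀ * (y₀ * (y₀ * a * y₀⁻¹) * y₀⁻¹) * y₀⁻¹ by group,
        hya, hyb, hyc]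
    obtain ⟨j, hj⟩ := hgenQ ⟨_, hy3⟩
    refine Eq.trans (congrArg q (Subtype.ext ?_)) (show q (⟨_, hy3⟩ * ⟨r, hrX⟩ * ⟨_, hy3⟩⁻¹) = q ⟨r, hrX⟩ by
      rw [map_mul, map_mul, map_inv, ← hj]; group)
    show y₀ * (y₀ * (y₀ * r * y₀⁻¹) * y₀⁻¹) * y₀⁻¹ = y₀ * y₀ * y₀ * r * (y₀ * y₀ * y₀)⁻¹
    group
  have hord : orderOf (q ⟨r, hrX⟩) = 5 :=
    orderOf_eq_prime (by rw [← map_pow]; exact (hqK _).2 (hpowK r hrX)) hqr
  rw [zpow_eq_zpow_iff_modEq, hord] at hcyc
  have hi5 : i ≡ 1 [ZMOD 5] := by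
    have hk' : (i % 5) * ((i % 5) * (i % 5)) % 5 = 1 := by
      have h' : i * (i * i) % 5 = 1 := hcyc
      rw [Int.mul_emod, Int.mul_emod i i] at h'
      rw [Int.mul_emod, Int.mul_emod (i % 5) (i % 5), Int.emod_emod]
      exact h'
    have h0 := Int.emod_nonneg i (show (5 : ℤ) ≠ 0 by norm_num)
    have h4 := Int.emod_lt_of_pos i (show (0 : ℤ) < 5 by norm_num)
    show i % 5 = 1
    generalize i % 5 = t at hk' h0 h4
    interval_cases t <;> omega
  have hq1 : q ⟨y₀ * r * y₀⁻¹, hXn r hrX⟩ = q ⟨r, hrX⟩ := by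
    rw [← hi]
    conv_rhs => rw [← zpow_one (q ⟨r, hrX⟩)]
    rw [zpow_eq_zpow_iff_modEq, hord]
    exact hi5
  have hdiff : y₀ * r * y₀⁻¹ * r⁻¹ ∈ K :=
    (hqK (⟨y₀ * r * y₀⁻¹, hXn r hrX⟩ * (⟨r, hrX⟩ : X)⁻¹)).1 (by rw [map_mul, map_inv, hq1, mul_inv_cancel])
  obtain ⟨s, hs, w, hw, hsw⟩ := mem_sup_wSub h ha ha1 hdiff
  -- correct `y₀` by an element of `S`
  set V := ↥(S : Subgroup G) ⧸ center ↥(S : Subgroup G)
  have hVc : ∀ u v : V, u * v = v * u := by
    intro u v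
    induction u using QuotientGroup.induction_on with
    | _ u => induction v using QuotientGroup.induction_on with
      | _ v =>
        have hc := h.cm_mem u v
        rw [← QuotientGroup.eq_one_iff] at hc
        simp only [InvCharSixtyFour.cm, QuotientGroup.mk_mul, QuotientGroup.mk_inv] at hc
        rwa [mul_inv_eq_one, mul_inv_eq_iff_eq_mul] at hc
  set γ : MulAut ↥(S : Subgroup G) := normalizerMonoidHom (S : Subgroup G) ⟨r, hrX.1⟩
  set π : ↥(S : Subgroup G) →* V := QuotientGroup.mk' _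
  let D : ↥(S : Subgroup G) →* V := MonoidHom.mk' (fun u => π u * (π (γ u))⁻¹) fun u v => by
    rw [map_mul, map_mul, map_mul, mul_inv_rev, hVc (π (γ v))⁻¹]
    calc π u * π v * ((π (γ u))⁻¹ * (π (γ v))⁻¹) = π u * (π v * (π (γ u))⁻¹) * (π (γ v))⁻¹ := by group
      _ = π u * (π (γ u))⁻¹ * (π v * (π (γ v))⁻¹) := by rw [hVc (π v)]; group
  have hDker : D.ker = center ↥(S : Subgroup G) := by
    ext u
    show π u * (π (γ u))⁻¹ = 1 ↔ _
    rw [mul_inv_eq_one]
    refine ⟨fun e => mem_center_iff_zS.2 (hrfree _ u.2 ?_), fun hu => ?_⟩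
    · have h2 : π (γ u * u⁻¹) = 1 := by rw [map_mul, map_inv, e, mul_inv_cancel]
      exact mem_center_iff_zS.1 ((QuotientGroup.eq_one_iff _).1 h2)
    · rw [show γ u = u from Subtype.ext (fix_of_mem_xSub h ha ha1 hrX (mem_center_iff_zS.1 hu))]
  have hDsurj : Function.Surjective D := MonoidHom.range_eq_top.1 (eq_top_of_card_eq _ (by
    rw [← index_ker, hDker, index_eq_card]))
  obtain ⟨s', hs'⟩ := hDsurj (π (⟨s, hs⟩ : ↥(S : Subgroup G)))⁻¹
  have hz : ((s' * ⟨s, hs⟩ * (γ s')⁻¹ : ↥(S : Subgroup G)) : G) ∈ zS S := by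
    refine mem_center_iff_zS.1 ((QuotientGroup.eq_one_iff _).1 ?_)
    show π (s' * ⟨s, hs⟩ * (γ s')⁻¹) = 1
    have hs'' : π s' * (π (γ s'))⁻¹ = (π (⟨s, hs⟩ : ↥(S : Subgroup G)))⁻¹ := hs'
    rw [map_mul, map_mul, map_inv, mul_assoc, hVc (π _) (π (γ s'))⁻¹, ← mul_assoc, hs'', inv_mul_cancel]
  have hz' : (s' : G) * s * (r * (s' : G)⁻¹ * r⁻¹) ∈ zS S := by
    rw [show r * (s' : G)⁻¹ * r⁻¹ = (r * (s' : G) * r⁻¹)⁻¹ by group]
    exact hz
  set z := (s' : G) * s * (r * (s' : G)⁻¹ * r⁻¹)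
  set y := (s' : G) * y₀
  have hyn : y ∈ normalizer ((S : Subgroup G) : Set G) := mul_mem (le_normalizer s'.2) hy₀
  have hyr : y * r * y⁻¹ = z * (w * r) := by
    have hcs : Commute w (r * (s' : G)⁻¹ * r⁻¹) :=
      (mem_wSub h ha ha1).1 hw |>.2 _ ((mem_normalizer_iff.1 hrX.1 _).1 (inv_mem s'.2))
    show (s' : G) * y₀ * r * ((s' : G) * y₀)⁻¹ = z * (w * r)
    calc (s' : G) * y₀ * r * ((s' : G) * y₀)⁻¹
        = (s' : G) * (y₀ * r * y₀⁻¹ * r⁻¹) * (r * (s' : G)⁻¹ * r⁻¹) * r := by group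
      _ = (s' : G) * s * (w * (r * (s' : G)⁻¹ * r⁻¹)) * r := by rw [hsw]; group
      _ = (s' : G) * s * ((r * (s' : G)⁻¹ * r⁻¹) * w) * r := by rw [hcs.eq]
      _ = z * (w * r) := by
        show _ = (s' : G) * s * (r * (s' : G)⁻¹ * r⁻¹) * (w * r)
        group
  have hz1 : z = 1 := by
    have hwz : Commute w z := (mem_wSub h ha ha1).1 hw |>.2 z (zS_le hz')
    have hcz : Commute z (w * r) := (hwz.symm).mul_right (hrfix z hz').symm
    have hwr : ∀ j : ℕ, (w * r) ^ j * (r ^ j)⁻¹ ∈ wSub S a := by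
      intro j
      induction j with
      | zero => simp
      | succ j ih =>
        rw [pow_succ, pow_succ, show (w * r) ^ j * (w * r) * (r ^ j * r)⁻¹ =
          (w * r) ^ j * (r ^ j)⁻¹ * (r ^ j * w * (r ^ j)⁻¹) by group]
        exact mul_mem ih (conj_mem_wSub h ha ha1 (pow_mem hrX.1 j) hw)
    have h6 : (w * r) ^ 5 ∈ wSub S a := by
      have := mul_mem (hwr 5) hr5
      rwa [inv_mul_cancel_right] at this
    have h7 : z ^ 5 * (w * r) ^ 5 ∈ wSub S a := by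
      rw [← hcz.mul_pow, ← hyr, conj_pow]
      exact conj_mem_wSub h ha ha1 hyn hr5
    have h8 : z ^ 5 ∈ wSub S a := by
      have := mul_mem h7 (inv_mem h6)
      rwa [mul_inv_cancel_right] at this
    rw [show z ^ 5 = z by
      calc z ^ 5 = z * z * (z * z) * z := by simp only [pow_succ, pow_zero, one_mul, mul_assoc]
        _ = z := by rw [zS_sq h hz', one_mul, one_mul]] at h8
    exact eq_one_of_odd_of_mem (zS_le hz') ((mem_wSub h ha ha1).1 h8).1
  have hyrW : y * r * y⁻¹ * r⁻¹ ∈ wSub S a := by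
    rw [hyr, hz1, one_mul, mul_inv_cancel_right]; exact hw
  have hyfix : ∀ e ∈ zS S, y * e * y⁻¹ = y₀ * e * y₀⁻¹ := fun e he => by
    have he' : y₀ * e * y₀⁻¹ ∈ zS S :=
      (mem_normalizer_iff.1 (normalizer_le_normalizer_zS hy₀) e).1 he
    rw [show y * e * y⁻¹ = (s' : G) * (y₀ * e * y₀⁻¹) * (s' : G)⁻¹ by
        show (s' : G) * y₀ * e * ((s' : G) * y₀)⁻¹ = _
        group,
      (mem_zS.1 he').2 _ s'.2, mul_inv_cancel_right]
  -- the three involutions and their cores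
  let A : Fin 3 → G := ![a, b, c]
  have hA : ∀ i, A i ∈ zS S := fun i => by fin_cases i <;> assumption
  have hA1 : ∀ i, A i ≠ 1 := fun i => by fin_cases i <;> assumption
  have hcover : ∀ z ∈ zS S, z ≠ 1 → ∃ i, z = A i := by
    intro z hz hz1
    rcases zS_cases h ha hb ha1 hb1 hab hz with e | e | e | e
    · exact absurd e hz1
    · exact ⟨0, e⟩
    · exact ⟨1, e⟩
    · refine ⟨2, ?_⟩
      rcases zS_cases h ha hb ha1 hb1 hab hc with e' | e' | e' | e'
      · exact absurd e' hc1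
      · exact absurd e'.symm hac
      · exact absurd e'.symm hbc
      · exact e.trans e'.symm
  have hXA : ∀ i, xSub S (A i) = X := fun i => (xSub_eq h ha ha1 (hA i) (hA1 i)).symm
  have hWA : ∀ i, wSub S (A i) = wSub S a := fun i => (wSub_eq h ha ha1 (hA i) (hA1 i)).symm
  have hdec : ∀ i, ∀ g ∈ centralizer ({A i} : Set G), ∃ u ∈ cc (A i), ∃ x ∈ X, g = u * x := by
    intro i g hg
    obtain ⟨k, hk, n, hn, hnc, e⟩ := centralizer_decomp h (hA i) (hA1 i) hg
    exact ⟨k, hk, n, (hXA i).le ⟨hn, hnc⟩, e⟩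
  have hcnorm : ∀ i, centralizer ({A i} : Set G) ≤ normalizer (cc (A i) : Set G) := fun i g hg => by
    have hg' := mem_centralizer_singleton_iff.1 hg
    refine mem_normalizer_iff.2 fun x => ⟨fun hx => conj_mem_cc hg' hx, fun hx => ?_⟩
    have := conj_mem_cc (show Commute g⁻¹ (A i) from (show Commute g (A i) from hg').inv_left) hx
    rwa [inv_inv, show g⁻¹ * (g * x * g⁻¹) * g = x by group] at this
  have hXC : ∀ i, X ≤ centralizer ({A i} : Set G) := fun i => (hXA i).symm.le.trans inf_le_right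
  have hN : normalizer ((S : Subgroup G) : Set G) ≤
      normalizer ((⨆ i, cc (A i) : Subgroup G) : Set G) := by
    have key : ∀ m ∈ normalizer ((S : Subgroup G) : Set G),
        (⨆ i, cc (A i) : Subgroup G).map (MulAut.conj m).toMonoidHom ≤ ⨆ i, cc (A i) := by
      intro m hm
      rw [Subgroup.map_iSup]
      refine iSup_le fun i => ?_
      obtain ⟨j, hj⟩ := hcover _
        ((mem_normalizer_iff.1 (normalizer_le_normalizer_zS hm) _).1 (hA i))
        (fun e => hA1 i (conj_eq_one_iff.1 e))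
      rw [map_cc, hj]
      exact le_iSup (fun i => cc (A i)) j
    intro n hn
    refine mem_normalizer_iff.2 fun x => ⟨fun hx => key n hn ⟨x, hx, rfl⟩, fun hx => ?_⟩
    have := key n⁻¹ (inv_mem hn) ⟨_, hx, rfl⟩
    simpa [MulAut.conj_apply, mul_assoc] using this
  have hC : ∀ i, centralizer ({A i} : Set G) ≤
      cc (A i) ⊔ normalizer ((S : Subgroup G) : Set G) := fun i g hg => by
    obtain ⟨k, hk, x, hx, rfl⟩ := hdec i g hg
    exact mul_mem (mem_sup_left hk) (mem_sup_right hx.1)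
  rcases exists_embedded_or_iSup_eq_top hna S hh A (fun i => cc (A i))
      (fun t ht ht1 => hcover t ((Reduce.mem_zInv_iff h).1 ht) ht1) hN hC with hSE | hgen
  · exact Or.inl hSE
  · refine Or.inr ⟨{
      S := (S : Subgroup G), W0 := wSub S a, X := X, r := r, y := y, a := A,
      θ := fun i => cc (A i), herm := hh, X_eq := ?_,
      W0_odd := (odd_card_cc a).of_dvd_nat (card_dvd_of_le inf_le_right),
      θ_odd := fun i => odd_card_cc _,
      W0_le := fun i => (hWA i).symm.le.trans inf_le_right,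
      X_norm_W0 := inf_le_left.trans (normalizer_le_normalizer_wSub h ha ha1),
      X_norm_θ := fun i => (hXC i).trans (hcnorm i),
      W0_comm := fun w hw => ((mem_wSub h ha ha1).1 hw).2,
      r_norm := hrX.1, r_pow := hr5, r_not_mem := hrK,
      r_fix := fun z hz => hrfix z ((Reduce.mem_zInv_iff h).1 hz),
      r_free := fun s hs hcom => (Reduce.mem_zInv_iff h).2
        (hrfree s hs ((Reduce.mem_zInv_iff h).1 hcom)),
      a_mem := fun i => (Reduce.mem_zInv_iff h).2 (hA i), a_ne := hA1,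
      a_cover := fun z hz hz1 => hcover z ((Reduce.mem_zInv_iff h).1 hz) hz1,
      a_inj := ?_, y_norm := hyn, y_W0 := normalizer_le_normalizer_wSub h ha ha1 hyn,
      y_r := hyrW, y_a := ?_, y_θ := ?_, θ_gen := hgen,
      simple := inferInstance, nonab := hna, sylow := ⟨S, rfl⟩,
      cent := ?_, cent_norm := hcnorm, θ_inf := ?_, four_conj := ?_ }⟩
    · refine le_antisymm ?_ (sup_le hKX (zpowers_le.2 hrX))
      intro g hg
      obtain ⟨j, hj⟩ := hgenQ ⟨g, hg⟩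
      have h2 : ((r ^ j)⁻¹ * g) ∈ K := (hqK (((⟨r, hrX⟩ : X) ^ j)⁻¹ * ⟨g, hg⟩)).1 (by
        rw [map_mul, map_inv, map_zpow, hj, inv_mul_cancel])
      rw [show g = r ^ j * ((r ^ j)⁻¹ * g) by group]
      exact mul_mem (mem_sup_right (zpow_mem (mem_zpowers r) j)) (mem_sup_left h2)
    · intro i j e
      fin_cases i <;> fin_cases j <;> first
        | rfl | exact absurd e hab | exact absurd e hac | exact absurd e hbc
        | exact absurd e.symm hab | exact absurd e.symm hac | exact absurd e.symm hbc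
    · intro i
      rw [hyfix _ (hA i)]
      fin_cases i <;> assumption
    · intro i
      rw [map_cc, hyfix _ (hA i)]
      fin_cases i
      · exact congrArg cc hya
      · exact congrArg cc hyb
      · exact congrArg cc hyc
    · intro i g
      refine ⟨hdec i g, ?_⟩
      rintro ⟨u, hu, x, hx, rfl⟩
      exact mul_mem (cc_le _ hu) (hXC i hx)
    · intro i
      refine le_antisymm ?_ (le_inf ((hWA i).symm.le.trans inf_le_right) (wSub_le_xSub h ha))
      rintro g ⟨hg, hgX⟩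
      exact (mem_wSub h ha ha1).2
        ⟨odd_orderOf_cc hg, fun s hs => commute_of_cc_normalizer h (hA i) hg hgX.1 hs⟩
    · intro u hu huc v hv hvc
      have hnc : ∀ t ∈ (S : Subgroup G), t ∉ zInv (S : Subgroup G) → t * t ≠ 1 := fun t ht htc e =>
        htc ((Reduce.mem_zInv_iff h).2 (mem_zS_of_sq h ht e))
      obtain ⟨n₁, hn₁, hn₁u⟩ := hfus _ (sq_mem_zS h hu) (hnc u hu huc) a ha ha1
      obtain ⟨n₂, hn₂, hn₂v⟩ := hfus _ (sq_mem_zS h hv) (hnc v hv hvc) a ha ha1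
      obtain ⟨g, -, hguv⟩ := conj_of_sq_eq h ha ha1 (hfus a ha ha1) h5
        ((mem_normalizer_iff.1 hn₁ u).1 hu)
        (by rw [show n₁ * u * n₁⁻¹ * (n₁ * u * n₁⁻¹) = n₁ * (u * u) * n₁⁻¹ by group, hn₁u])
        ((mem_normalizer_iff.1 hn₂ v).1 hv)
        (by rw [show n₂ * v * n₂⁻¹ * (n₂ * v * n₂⁻¹) = n₂ * (v * v) * n₂⁻¹ by group, hn₂v])
      refine isConj_iff.2 ⟨n₂⁻¹ * g * n₁, ?_⟩
      calc n₂⁻¹ * g * n₁ * u * (n₂⁻¹ * g * n₁)⁻¹ = n₂⁻¹ * (g * (n₁ * u * n₁⁻¹) * g⁻¹) * n₂ := by group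
        _ = v := by rw [hguv]; group

end CfsgLib.UFour73
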