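import Cfsg.Agent.Lib.UFour73.ArithSupp

/-!
# The case in which the four characters are rational
-/

set_option autoImplicit false

namespace CfsgLib.UFour73.Arith

open Finset

/-- The numerical table for `g₁ = 2, 3`. -/
theorem tableI {g a b c : ℤ} (hg : g = 2 ∨ g = 3) (hs : a + b + c = 3 - g)
    (hn : g * g + (4 - g) * (4 - g) + a * a + b * b + c * c ≤ 15) :
    bnd 4 (5 * g - 20) + sb a b c + sb b a c + sb c a b < 1 := by
  have := mul_self_nonneg a; have := mul_self_nonneg b; have := mul_self_nonneg c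
  obtain rfl : c = 3 - g - a - b := by omega
  have ha : -2 ≤ a ∧ a ≤ 2 := by rcases hg with rfl | rfl <;> constructor <;> nlinarith
  have hb : -2 ≤ b ∧ b ≤ 2 := by rcases hg with rfl | rfl <;> constructor <;> nlinarith
  obtain ⟨ha1, ha2⟩ := ha
  obtain ⟨hb1, hb2⟩ := hb
  rcases hg with rfl | rfl <;> interval_cases a <;> interval_cases b <;>
    first
    | (exfalso; omega)
    | norm_num [sb, singleK, bnd]

/-- The numerical table for `g₁ = 1`. -/
theorem tableI1 {a b c : ℤ} (hs : a + b + c = 2) (hn : a * a + b * b + c * c ≤ 5) :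
    sb a b c + sb b a c + sb c a b +
      ((176 + 14 * (14 - (a * a + b * b + c * c)) - 288 : ℤ) : ℚ) / 75 < 1 := by
  have := mul_self_nonneg a; have := mul_self_nonneg b; have := mul_self_nonneg c
  obtain rfl : c = 2 - a - b := by omega
  have ha : -2 ≤ a ∧ a ≤ 2 := by constructor <;> nlinarith
  have hb : -2 ≤ b ∧ b ≤ 2 := by constructor <;> nlinarith
  obtain ⟨ha1, ha2⟩ := ha
  obtain ⟨hb1, hb2⟩ := hb
  interval_cases a <;> interval_cases b <;>
    first
    | (exfalso; omega)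
    | norm_num [sb, singleK, bnd]

/-- The pointwise certificate. -/
theorem pointI {y g : ℤ} (hy : -4 ≤ y ∧ y ≤ 4) (hg : -3 ≤ g ∧ g ≤ 3) :
    0 ≤ 11 * (y * y) + 14 * (g * g) - 24 * (y * g) ∧
      75 * y * (5 * g - 4 * y) ^ 2 ≤ (4 * (11 * (y * y) + 14 * (g * g) - 24 * (y * g))) *
        max (64 + (5 * g - 4 * y)) (64 - 3 * (5 * g - 4 * y)) := by
  obtain ⟨hy1, hy2⟩ := hy
  obtain ⟨hg1, hg2⟩ := hg
  interval_cases y <;> interval_cases g <;> norm_num

theorem range_three {x : ℤ} (h : x * x ≤ 14) : -3 ≤ x ∧ x ≤ 3 := by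
  constructor <;> nlinarith

theorem range_g {g : ℤ} (h : g * g + (4 - g) * (4 - g) ≤ 15) : 1 ≤ g ∧ g ≤ 3 := by
  constructor <;> nlinarith

namespace Data

variable {ι : Type*} [Fintype ι] [DecidableEq ι] (D : Data ι)

set_option maxHeartbeats 1600000 in
-- long case with many abbreviations
theorem caseI {B : ι} (hB : B ∈ D.supp) (hσB : D.σ B = B) (hmB : ∀ i, D.m i B = D.m 0 B)
    (hsingle : ∀ x ∈ D.supp, x ≠ B → D.IsSingle x) : False := by
  obtain ⟨a, b, c, hab, hac, hbc, hT⟩ := Finset.card_eq_three.1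
    (show (D.supp.erase B).card = 3 by rw [Finset.card_erase_of_mem hB, D.card_supp])
  have hmem : ∀ {x}, x ∈ D.supp.erase B → x ∈ D.supp ∧ x ≠ B := fun h =>
    ⟨(Finset.mem_erase.1 h).2, (Finset.mem_erase.1 h).1⟩
  have hσT : ∀ x ∈ D.supp.erase B, D.σ x ∈ D.supp.erase B := fun x hx => by
    refine Finset.mem_erase.2 ⟨fun e => (hmem hx).2 ?_, D.sigma_mem_supp (hmem hx).1⟩
    exact D.σ.injective (e.trans hσB.symm)
  obtain ⟨haS, haB⟩ := hmem (hT ▸ (by simp : a ∈ ({a, b, c} : Finset ι)))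
  obtain ⟨hbS, hbB⟩ := hmem (hT ▸ (by simp : b ∈ ({a, b, c} : Finset ι)))
  obtain ⟨hcS, hcB⟩ := hmem (hT ▸ (by simp : c ∈ ({a, b, c} : Finset ι)))
  have hYa := D.single_Y (hsingle a haS haB)
  have hYb := D.single_Y (hsingle b hbS hbB)
  have hYc := D.single_Y (hsingle c hcS hcB)
  have hYB : D.Y B = 4 * D.m 0 B := by rw [Y, hmB 1, hmB 2, hmB 3, hmB 4]; ring
  have sumsupp : ∀ {M : Type} [AddCommGroup M] (f : ι → M),
      ∑ x ∈ D.supp, f x = f B + (f a + (f b + f c)) := fun f => by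
    rw [← Finset.add_sum_erase D.supp f hB, hT, Finset.sum_insert (by simp [hab, hac]),
      Finset.sum_insert (by simp [hbc]), Finset.sum_singleton]
  have split : ∀ {M : Type} [AddCommGroup M] (f : ι → M),
      ∑ x, f x = f D.one + (f B + (f a + (f b + f c))) + ∑ x ∈ D.others, f x := fun f => by
    rw [D.sum_split, sumsupp]
  have hgsum := D.sum_supp_g
  rw [sumsupp] at hgsum
  have hY2 := D.sum_Y_sq
  rw [split, D.Y_one, hYa, hYb, hYc, hYB] at hY2
  have hYg := D.sum_Y_gamma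
  rw [split, D.Y_one, hYa, hYb, hYc, hYB] at hYg
  have hg2 := D.gamma_sq
  rw [split, D.γ_one, D.supp_gamma_sq hB, D.supp_gamma_sq haS, D.supp_gamma_sq hbS,
    D.supp_gamma_sq hcS] at hg2
  have eB2 : 4 * D.m 0 B * (4 * D.m 0 B) = 16 := by
    linear_combination 16 * D.supp_m0_sq hB
  have eBg : 4 * D.m 0 B * D.γ B = 4 * (D.m 0 B * D.γ B) := by ring
  rw [eB2] at hY2
  rw [eBg] at hYg
  obtain ⟨g, hg⟩ : ∃ g, g = D.m 0 B * D.γ B := ⟨_, rfl⟩
  rw [← hg] at hYg hg2 hgsum
  have hcs := Finset.sum_mul_sq_le_sq_mul_sq D.others D.Y D.γ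
  simp only [sq] at hcs
  rw [show ∑ x ∈ D.others, D.Y x * D.Y x = 16 by omega,
    show ∑ x ∈ D.others, D.Y x * D.γ x = 16 - 4 * g by omega,
    show ∑ x ∈ D.others, D.γ x * D.γ x = 15 - (g * g +
      (D.m 0 a * D.γ a * (D.m 0 a * D.γ a) + (D.m 0 b * D.γ b * (D.m 0 b * D.γ b) +
        D.m 0 c * D.γ c * (D.m 0 c * D.γ c)))) by omega] at hcs
  have hnorm : g * g + (4 - g) * (4 - g) + D.m 0 a * D.γ a * (D.m 0 a * D.γ a) +
      D.m 0 b * D.γ b * (D.m 0 b * D.γ b) + D.m 0 c * D.γ c * (D.m 0 c * D.γ c) ≤ 15 := by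
    nlinarith
  have hga := mul_self_nonneg (D.m 0 a * D.γ a)
  have hgb := mul_self_nonneg (D.m 0 b * D.γ b)
  have hgc := mul_self_nonneg (D.m 0 c * D.γ c)
  have hgr : 1 ≤ g ∧ g ≤ 3 := range_g (by omega)
  have sa := D.single_bound hσT hT haS hYa
  have sbb := D.single_bound hσT (show D.supp.erase B = {b, a, c} by rw [hT, Finset.insert_comm])
    hbS hYb
  have sc := D.single_bound hσT
    (show D.supp.erase B = {c, a, b} by rw [hT]; ext; simp [or_comm, or_left_comm]) hcS hYc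
  have hrec := D.rec_term 0
  rw [split, D.m_one, if_pos rfl, D.term_one] at hrec
  have hz : ∑ x ∈ D.others, (D.m 0 x : ℚ) * D.term x = 0 :=
    Finset.sum_eq_zero fun x hx => by rw [(D.mem_others.1 hx).2]; simp
  rw [hz] at hrec
  push_cast at hrec
  have hLneg := D.L_neg
  have hαB : D.m 0 B * D.α B = 5 * g - 20 := by
    rw [D.alpha_eq, hYB, hg]
    linear_combination (-20 : ℤ) * D.supp_m0_sq hB
  by_cases hg1 : g = 1
  · -- the refined equation
    have hγB : D.γ B = D.m 0 B := by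
      linear_combination (-(D.γ B)) * D.supp_m0_sq hB + D.m 0 B * (hg.symm.trans hg1)
    rw [hg1] at hnorm hg2 hYg hgsum
    have hT1 := tableI1 (a := D.m 0 a * D.γ a) (b := D.m 0 b * D.γ b) (c := D.m 0 c * D.γ c)
      (by omega) (by omega)
    have hrecY := D.rec_term_Y
    rw [split, D.Y_one, hYa, hYb, hYc, hYB] at hrecY
    push_cast at hrecY
    have hodd : ¬ 2 ∣ D.n B * D.m 0 B := by
      have hd := D.dvd_n (D.mem_supp.1 hB).1 (D.supp_live hB)
      rw [D.alpha_eq, hYB, hγB] at hd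
      rcases D.supp_m0 hB with e | e <;> rw [e] at hd ⊢ <;> omega
    have hent : ∀ i, i ≠ 0 → ∀ x ∈ D.others, -1 ≤ D.m i x ∧ D.m i x ≤ 1 := fun i hi x hx => by
      have h1 := D.gram i i
      rw [split, D.m_one, if_neg hi, hmB i, D.supp_m0_sq hB, hsingle a haS haB i hi,
        hsingle b hbS hbB i hi, hsingle c hcS hcB i hi] at h1
      simp only [if_true] at h1
      have h2 := D.deg i
      rw [split, D.m_one, if_neg hi, hmB i, hsingle a haS haB i hi,
        hsingle b hbS hbB i hi, hsingle c hcS hcB i hi] at h2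
      exact D.entry_le hx (by omega) (c := -(D.n B * D.m 0 B)) (by omega) (by omega)
    have hpt : ∀ x ∈ D.others, (D.Y x : ℚ) / 4 * D.term x ≤
        ((11 * (D.Y x * D.Y x) + 14 * (D.γ x * D.γ x) - 24 * (D.Y x * D.γ x) : ℤ) : ℚ) / 75 :=
      fun x hx => by
      have h1 := hent 1 (by decide) x hx
      have h2 := hent 2 (by decide) x hx
      have h3 := hent 3 (by decide) x hx
      have h4 := hent 4 (by decide) x hx
      have h5 : D.γ x * D.γ x ≤ 14 := by
        refine le_trans (Finset.single_le_sum (f := fun z => D.γ z * D.γ z)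
          (fun _ _ => mul_self_nonneg _) hx) ?_
        omega
      have h6 : -3 ≤ D.γ x ∧ D.γ x ≤ 3 := range_three h5
      obtain ⟨hq, hp⟩ := pointI (y := D.Y x) (g := D.γ x)
        (by simp only [Y]; omega) h6
      have hα : D.α x = 5 * D.γ x - 4 * D.Y x := by
        rw [D.alpha_eq, (D.mem_others.1 hx).2, zero_add]
      rw [← hα] at hp
      have h7 := D.weight_bound hx (w := 75 * D.Y x)
        (Q := 4 * (11 * (D.Y x * D.Y x) + 14 * (D.γ x * D.γ x) - 24 * (D.Y x * D.γ x)))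
        (N := max (64 + D.α x) (64 - 3 * D.α x))
        (by omega) (by omega) (fun _ => le_rfl) hp
      push_cast at h7 ⊢
      linarith
    have hsum := Finset.sum_le_sum hpt
    rw [← Finset.sum_div, ← Int.cast_sum, Finset.sum_sub_distrib, Finset.sum_add_distrib,
      ← Finset.mul_sum, ← Finset.mul_sum, ← Finset.mul_sum] at hsum
    rw [show ∑ x ∈ D.others, D.Y x * D.Y x = 16 by omega,
      show ∑ x ∈ D.others, D.Y x * D.γ x = 12 by omega,
      show ∑ x ∈ D.others, D.γ x * D.γ x = 14 - (D.m 0 a * D.γ a * (D.m 0 a * D.γ a) +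
        D.m 0 b * D.γ b * (D.m 0 b * D.γ b) + D.m 0 c * D.γ c * (D.m 0 c * D.γ c)) by
          omega] at hsum
    have hL : ∑ x ∈ D.others, (D.Y x : ℚ) / 4 * D.term x =
        (∑ x ∈ D.others, (D.Y x : ℚ) * D.term x) / 4 := by
      rw [Finset.sum_div]
      exact Finset.sum_congr rfl fun x _ => by ring
    rw [hL] at hsum
    push_cast at hsum hT1
    linarith
  · have hT2 := tableI (g := g) (a := D.m 0 a * D.γ a) (b := D.m 0 b * D.γ b)
      (c := D.m 0 c * D.γ c) (by omega) (by omega) hnorm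
    have hne : D.γ B ≠ D.m 0 B := fun e => hg1 (by rw [hg, e]; exact D.supp_m0_sq hB)
    have hbB' := D.supp_bound hB hαB (K := 4) (by norm_num)
      (D.four_le_k (D.mem_supp.1 hB).1 (D.supp_live hB) (Or.inl hσB) hne)
    linarith

end Data

end CfsgLib.UFour73.Arith
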