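import Cfsg.Agent.Lib.UFour73.ArithSupp

/-!
# The case of a conjugate pair and two rational characters
-/

set_option autoImplicit false

namespace CfsgLib.UFour73.Arith

open Finset

/-- The possible values. -/
theorem tableII {g a b : ℤ} (hs : 2 * g + a + b = 3)
    (hn : (16 - 4 * g) * (16 - 4 * g) ≤ 24 * (15 - (2 * (g * g) + (a * a + b * b)))) :
    (g = 2 ∧ ((a = 0 ∧ b = -1) ∨ (a = -1 ∧ b = 0))) ∨
    (g = 1 ∧ ((a = 0 ∧ b = 1) ∨ (a = 1 ∧ b = 0))) ∨
    (g = 1 ∧ ((a = -1 ∧ b = 2) ∨ (a = 2 ∧ b = -1))) := by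
  have := mul_self_nonneg a; have := mul_self_nonneg b; have := mul_self_nonneg (16 - 4 * g)
  obtain rfl : b = 3 - 2 * g - a := by omega
  have hg : -2 ≤ g ∧ g ≤ 2 := by constructor <;> nlinarith
  have ha : -3 ≤ a ∧ a ≤ 3 := by constructor <;> nlinarith
  obtain ⟨hg1, hg2⟩ := hg
  obtain ⟨ha1, ha2⟩ := ha
  interval_cases g <;> interval_cases a <;> omega

/-- The pointwise certificate. -/
theorem pointII {y g : ℤ} (hy : -4 ≤ y ∧ y ≤ 4) (hg : -2 ≤ g ∧ g ≤ 2)
    (hodd : g * g ≤ 1 ∨ 2 ∣ y) (hcs : (12 - y * g) * (12 - y * g) ≤ (24 - y * y) * (8 - g * g)) :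
    0 ≤ 16 * (y * y) + 34 * (g * g) - 49 * (y * g) ∧
      200 * (y - 2 * g) * (5 * g - 4 * y) ^ 2 ≤
        (6 * (16 * (y * y) + 34 * (g * g) - 49 * (y * g))) *
          max (64 + (5 * g - 4 * y)) (64 - 3 * (5 * g - 4 * y)) := by
  obtain ⟨hy1, hy2⟩ := hy
  obtain ⟨hg1, hg2⟩ := hg
  interval_cases y <;> interval_cases g <;>
    first
    | (exfalso; omega)
    | norm_num

theorem range_two {x : ℤ} (h : x * x ≤ 8) : -2 ≤ x ∧ x ≤ 2 := by
  constructor <;> nlinarith

theorem div_mono_neg {n N : ℤ} {c : ℚ} (hc : 0 ≤ c) (hN : 0 < N) (h : N ≤ n) :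
    c / (n : ℚ) ≤ c / (N : ℚ) :=
  div_le_div_of_nonneg_left hc (by exact_mod_cast hN) (by exact_mod_cast h)

namespace Data

variable {ι : Type*} [Fintype ι] [DecidableEq ι] (D : Data ι)

/-- A pair and two singles. -/
structure Pairs (P P' a b : ι) : Prop where
  hP : P ∈ D.supp
  hP' : P' ∈ D.supp
  ha : a ∈ D.supp
  hb : b ∈ D.supp
  neq : P ≠ P' ∧ P ≠ a ∧ P ≠ b ∧ P' ≠ a ∧ P' ≠ b ∧ a ≠ b
  σP : D.σ P = P'
  σP' : D.σ P' = P
  mP : D.m 1 P = D.m 0 P ∧ D.m 2 P = 0 ∧ D.m 3 P = 0 ∧ D.m 4 P = D.m 0 P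
  mP' : D.m 1 P' = 0 ∧ D.m 2 P' = D.m 0 P' ∧ D.m 3 P' = D.m 0 P' ∧ D.m 4 P' = 0
  sngA : D.IsSingle a
  sngB : D.IsSingle b

variable {D} in
theorem Pairs.swap {P P' a b : ι} (h : D.Pairs P P' a b) : D.Pairs P P' b a :=
  ⟨h.hP, h.hP', h.hb, h.ha, ⟨h.neq.1, h.neq.2.2.1, h.neq.2.1, h.neq.2.2.2.2.1, h.neq.2.2.2.1,
    h.neq.2.2.2.2.2.symm⟩, h.σP, h.σP', h.mP, h.mP', h.sngB, h.sngA⟩

variable {D} {P P' a b : ι} (h : D.Pairs P P' a b)
include h

theorem Pairs.supp_eq : D.supp = {P, P', a, b} := by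
  obtain ⟨h1, h2, h3, h4, h5, h6⟩ := h.neq
  refine (Finset.eq_of_subset_of_card_le (fun x hx => ?_) ?_).symm
  · simp only [Finset.mem_insert, Finset.mem_singleton] at hx
    rcases hx with rfl | rfl | rfl | rfl
    exacts [h.hP, h.hP', h.ha, h.hb]
  · rw [D.card_supp, Finset.card_insert_of_notMem (by simp [h1, h2, h3]),
      Finset.card_insert_of_notMem (by simp [h4, h5]),
      Finset.card_insert_of_notMem (by simp [h6]), Finset.card_singleton]

theorem Pairs.split {M : Type*} [AddCommGroup M] (f : ι → M) :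
    ∑ x, f x = f D.one + (f P + (f P' + (f a + f b))) + ∑ x ∈ D.others, f x := by
  obtain ⟨h1, h2, h3, h4, h5, h6⟩ := h.neq
  rw [D.sum_split, h.supp_eq, Finset.sum_insert (by simp [h1, h2, h3]),
    Finset.sum_insert (by simp [h4, h5]), Finset.sum_insert (by simp [h6]), Finset.sum_singleton]

theorem Pairs.same : D.m 0 P' = D.m 0 P ∧ D.γ P' = D.γ P ∧ D.n P' = D.n P ∧
    D.Y P = 2 * D.m 0 P ∧ D.Y P' = 2 * D.m 0 P ∧ D.term P' = D.term P := by
  have e0 : D.m 0 P' = D.m 0 P := by rw [← h.σP, D.sigma_m0]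
  have e1 : D.γ P' = D.γ P := by rw [← h.σP, D.σ_γ]
  have e2 : D.n P' = D.n P := by rw [← h.σP, D.σ_n]
  obtain ⟨a1, a2, a3, a4⟩ := h.mP
  obtain ⟨b1, b2, b3, b4⟩ := h.mP'
  have e3 : D.Y P = 2 * D.m 0 P := by rw [Y, a1, a2, a3, a4]; ring
  have e4 : D.Y P' = 2 * D.m 0 P := by rw [Y, b1, b2, b3, b4, e0]; ring
  refine ⟨e0, e1, e2, e3, e4, ?_⟩
  rw [term, term, D.alpha_eq, D.alpha_eq, e0, e1, e2, e3, e4]

theorem Pairs.alphaP : D.m 0 P * D.α P = 5 * (D.m 0 P * D.γ P) - 12 := by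
  rw [D.alpha_eq, h.same.2.2.2.1]
  linear_combination (-12 : ℤ) * D.supp_m0_sq h.hP

theorem Pairs.stable : ∀ x ∈ ({a, b, b} : Finset ι), D.σ x ∈ ({a, b, b} : Finset ι) := by
  obtain ⟨h1, h2, h3, h4, h5, h6⟩ := h.neq
  intro x hx
  simp only [Finset.mem_insert, Finset.mem_singleton, or_self] at hx ⊢
  have hxs : x ∈ D.supp := by rcases hx with rfl | rfl; exacts [h.ha, h.hb]
  have hm := D.sigma_mem_supp hxs
  simp only [h.supp_eq, Finset.mem_insert, Finset.mem_singleton] at hm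
  rcases hm with e | e | e | e
  · rw [← h.σP'] at e
    have := D.σ.injective e
    rcases hx with rfl | rfl
    exacts [absurd this h4.symm, absurd this h5.symm]
  · rw [← h.σP] at e
    have := D.σ.injective e
    rcases hx with rfl | rfl
    exacts [absurd this h2.symm, absurd this h3.symm]
  · exact Or.inl e
  · exact Or.inr e

theorem Pairs.bound : -sb (D.m 0 a * D.γ a) (D.m 0 b * D.γ b) (D.m 0 b * D.γ b) ≤
    (D.m 0 a : ℚ) * D.term a :=
  D.single_bound h.stable rfl h.ha (D.single_Y h.sngA)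

theorem Pairs.fixed : D.m 0 a * D.γ a ≠ D.m 0 b * D.γ b → D.σ a = a := fun hne => by
  have hm := h.stable a (by simp)
  simp only [Finset.mem_insert, Finset.mem_singleton, or_self] at hm
  rcases hm with e | e
  · exact e
  · exact absurd (by rw [← e, D.sigma_m0, D.σ_γ]) hne

theorem Pairs.recEq : 1 + (2 * ((D.m 0 P : ℚ) * D.term P) +
    ((D.m 0 a : ℚ) * D.term a + (D.m 0 b : ℚ) * D.term b)) = D.L := by
  have hrec := D.rec_term 0
  rw [h.split, D.m_one, if_pos rfl, D.term_one, h.same.1, h.same.2.2.2.2.2] at hrec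
  have hz : ∑ x ∈ D.others, (D.m 0 x : ℚ) * D.term x = 0 :=
    Finset.sum_eq_zero fun x hx => by rw [(D.mem_others.1 hx).2]; simp
  rw [hz] at hrec
  push_cast at hrec
  linarith

theorem Pairs.moments :
    2 * (D.m 0 P * D.γ P) + D.m 0 a * D.γ a + D.m 0 b * D.γ b = 3 ∧
    ∑ x ∈ D.others, D.Y x * D.Y x = 24 ∧
    ∑ x ∈ D.others, D.Y x * D.γ x = 16 - 4 * (D.m 0 P * D.γ P) ∧
    ∑ x ∈ D.others, D.γ x * D.γ x = 15 - (2 * (D.m 0 P * D.γ P * (D.m 0 P * D.γ P)) +
      (D.m 0 a * D.γ a * (D.m 0 a * D.γ a) + D.m 0 b * D.γ b * (D.m 0 b * D.γ b))) := by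
  obtain ⟨e0, e1, e2, e3, e4, e5⟩ := h.same
  obtain ⟨h1, h2, h3, h4, h5, h6⟩ := h.neq
  have hg := D.sum_supp_g
  rw [h.supp_eq, Finset.sum_insert (by simp [h1, h2, h3]), Finset.sum_insert (by simp [h4, h5]),
    Finset.sum_insert (by simp [h6]), Finset.sum_singleton, e0, e1] at hg
  have hY2 := D.sum_Y_sq
  rw [h.split, D.Y_one, e3, e4, D.single_Y h.sngA, D.single_Y h.sngB,
    show 2 * D.m 0 P * (2 * D.m 0 P) = 4 by linear_combination 4 * D.supp_m0_sq h.hP] at hY2
  have hYg := D.sum_Y_gamma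
  rw [h.split, D.Y_one, e3, e4, e1, D.single_Y h.sngA, D.single_Y h.sngB,
    show 2 * D.m 0 P * D.γ P = 2 * (D.m 0 P * D.γ P) by ring] at hYg
  have hg2 := D.gamma_sq
  rw [h.split, D.γ_one, e1, D.supp_gamma_sq h.hP, D.supp_gamma_sq h.ha,
    D.supp_gamma_sq h.hb] at hg2
  exact ⟨by omega, by omega, by omega, by omega⟩

theorem Pairs.caseTwo (hg : D.m 0 P * D.γ P = 2) (ha : D.m 0 a * D.γ a = 0)
    (hb : D.m 0 b * D.γ b = -1) : False := by
  have h1 := h.bound
  have h2 := h.swap.bound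
  rw [ha, hb] at h1 h2
  norm_num [sb, singleK, bnd] at h1 h2
  have hP := h.alphaP
  rw [hg] at hP
  have hne : D.γ P ≠ D.m 0 P := fun e => by
    rw [e, D.supp_m0_sq h.hP] at hg
    omega
  have h3 := D.supp_bound h.hP hP (K := 2) (by norm_num)
    (D.two_le_k (D.mem_supp.1 h.hP).1 (D.supp_live h.hP) (by rw [h.σP, h.σP']) hne)
  norm_num [bnd] at h3
  have := h.recEq
  have := D.L_neg
  linarith

/-- The pair for `g = 1`. -/
theorem Pairs.pair_one (hg : D.m 0 P * D.γ P = 1) :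
    (D.m 0 P = 1) ∨ (D.m 0 P = -1 ∧ D.γ P = -1 ∧ D.α P = 7 ∧ (D.n P = 103 ∨ 167 ≤ D.n P)) := by
  rcases D.supp_m0 h.hP with e | e
  · exact Or.inl e
  · refine Or.inr ⟨e, ?_⟩
    have hα := h.alphaP
    rw [hg, e] at hα
    rw [e] at hg
    have h1 := D.n_bounds (D.mem_supp.1 h.hP).1 (D.supp_live h.hP)
    have h2 := D.one_le_k (D.mem_supp.1 h.hP).1 (D.supp_live h.hP)
    have h3 := D.dvd_n (D.mem_supp.1 h.hP).1 (D.supp_live h.hP)
    omega

theorem Pairs.caseZero (hg : D.m 0 P * D.γ P = 1) (ha : D.m 0 a * D.γ a = 0)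
    (hb : D.m 0 b * D.γ b = 1) : False := by
  have hp : -(49 / 103 : ℚ) ≤ (D.m 0 P : ℚ) * D.term P := by
    rcases h.pair_one hg with e | ⟨e, -, e2, hn⟩
    · rw [e]
      have := D.term_nonneg P
      push_cast
      linarith
    · have ht : D.term P ≤ ((49 : ℤ) : ℚ) / ((103 : ℤ) : ℚ) :=
        D.term_le (by rw [e2]; norm_num) (by omega) (by norm_num)
      rw [e]
      push_cast at ht ⊢
      linarith
  have hb' := h.swap.bound
  rw [ha, hb] at hb'
  norm_num [sb, singleK, bnd] at hb'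
  have hza : -(16 / 500 : ℚ) ≤ (D.m 0 a : ℚ) * D.term a := by
    rcases D.supp_m0 h.ha with e | e
    · rw [e]
      have := D.term_nonneg a
      push_cast
      linarith
    · rw [e] at ha
      have hσ := h.fixed (by rw [e, ha, hb]; norm_num)
      have h1 := (D.mem_supp.1 h.ha).1
      have hl := D.supp_live h.ha
      have hk4 := D.four_le_k h1 hl (Or.inl hσ) (by omega)
      have hsl : ∀ i, D.l a i = D.l a (dbl i) := fun i => by conv_lhs => rw [← hσ, D.σ_l]
      have s1 : D.l a 1 = D.l a 2 := hsl 1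
      have s2 : D.l a 2 = D.l a 4 := hsl 2
      have s4 : D.l a 4 = D.l a 3 := hsl 4
      have hl1 := D.l_nonneg a h1 hl 1
      have hl0 := D.l_nonneg a h1 hl 0
      have hf0 := D.f_nonneg a h1 hl 0
      have hn := D.n_ge a h1 hl
      simp only [Fin.sum_univ_five, h.sngA 1 (by decide), h.sngA 2 (by decide), h.sngA 3 (by decide),
        h.sngA 4 (by decide)] at hf0 hn hk4
      have hα : D.α a = 4 := by
        rw [D.alpha_eq, D.single_Y h.sngA, e, show D.γ a = 0 by omega]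
        norm_num
      have ht : D.term a ≤ ((16 : ℤ) : ℚ) / ((500 : ℤ) : ℚ) :=
        D.term_le (by rw [hα]; norm_num) (by omega) (by norm_num)
      rw [e]
      push_cast at ht ⊢
      linarith
  have := h.recEq
  have := D.L_neg
  linarith

theorem Pairs.degree : 1 + 2 * (D.m 0 P * D.n P) + D.m 0 a * D.n a + D.m 0 b * D.n b = 0 := by
  have hd := D.deg 0
  obtain ⟨e0, -, e2, -⟩ := h.same
  rw [h.split, D.n_one, D.m_one, if_pos rfl, e0, e2] at hd
  have hz : ∑ x ∈ D.others, D.n x * D.m 0 x = 0 :=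
    Finset.sum_eq_zero fun x hx => by rw [(D.mem_others.1 hx).2, mul_zero]
  rw [hz] at hd
  linear_combination hd

/-- Outside the support every multiplicity is at most one when the pair has degree 103. -/
theorem Pairs.entries (hn : D.n P = 103) {i : Fin 5} (hi : i ≠ 0) {x : ι} (hx : x ∈ D.others) :
    -1 ≤ D.m i x ∧ D.m i x ≤ 1 := by
  obtain ⟨e0, -, e2, -⟩ := h.same
  obtain ⟨a1, a2, a3, a4⟩ := h.mP
  obtain ⟨b1, b2, b3, b4⟩ := h.mP'
  have h1 := D.gram i i
  rw [h.split, D.m_one, if_neg hi, h.sngA i hi, h.sngB i hi] at h1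
  have h2 := D.deg i
  rw [h.split, D.m_one, if_neg hi, h.sngA i hi, h.sngB i hi, e2, hn] at h2
  simp only [if_true] at h1
  have hsq := D.supp_m0_sq h.hP
  have key : D.m i P * D.m i P + D.m i P' * D.m i P' = 1 ∧
      (D.m i P + D.m i P' = 1 ∨ D.m i P + D.m i P' = -1) := by
    have hpm := D.supp_m0 h.hP
    fin_cases i
    · exact absurd rfl hi
    all_goals
      simp only [Fin.reduceFinMk, Fin.isValue, a1, a2, a3, a4, b1, b2, b3, b4, e0, hsq, mul_zero,
        add_zero, zero_add, true_and]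
      exact hpm
  exact D.entry_le hx (by omega) (c := -(103 * D.m i P + 103 * D.m i P')) (by omega) (by omega)

theorem Pairs.refined (hg : D.m 0 P * D.γ P = 1) (ha : D.m 0 a * D.γ a = -1)
    (hb : D.m 0 b * D.γ b = 2) (hn : D.n P = 103) (hmP : D.m 0 P = -1) (hma : D.m 0 a = -1)
    (hmb : D.m 0 b = 1) (hNa : 265 ≤ D.n a) (hNb : D.n b = D.n a + 205) : False := by
  obtain ⟨e0, e1, e2, e3, e4, e5⟩ := h.same
  have hγP : D.γ P = -1 := by rw [hmP] at hg; omega
  have hγa : D.γ a = 1 := by rw [hma] at ha; omega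
  have hγb : D.γ b = 2 := by rw [hmb] at hb; omega
  obtain ⟨-, mY, mYg, mg⟩ := h.moments
  rw [hg] at mYg mg
  rw [ha, hb] at mg
  norm_num at mYg mg
  have hent := fun i (hi : i ≠ 0) x (hx : x ∈ D.others) => h.entries hn (i := i) hi (x := x) hx
  have hpt : ∀ x ∈ D.others, ((D.Y x : ℚ) - 2 * D.γ x) * D.term x ≤
      6 * ((16 * (D.Y x * D.Y x) + 34 * (D.γ x * D.γ x) - 49 * (D.Y x * D.γ x) : ℤ) : ℚ) / 200 :=
    fun x hx => by
    have h1 := hent 1 (by decide) x hx
    have h2 := hent 2 (by decide) x hx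
    have h3 := hent 3 (by decide) x hx
    have h4 := hent 4 (by decide) x hx
    have h5 : D.γ x * D.γ x ≤ 8 := by
      refine le_trans (Finset.single_le_sum (f := fun z => D.γ z * D.γ z)
        (fun _ _ => mul_self_nonneg _) hx) ?_
      omega
    have hcs := Finset.sum_mul_sq_le_sq_mul_sq (D.others.erase x) D.Y D.γ
    simp only [sq] at hcs
    rw [Finset.sum_erase_eq_sub hx, Finset.sum_erase_eq_sub hx, Finset.sum_erase_eq_sub hx,
      mY, mYg, mg] at hcs
    have hodd : D.γ x * D.γ x ≤ 1 ∨ 2 ∣ D.Y x := by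
      by_cases hs2 : D.σ (D.σ x) = x
      · obtain ⟨q1, q2⟩ := D.two_periodic_m hs2
        exact Or.inr ⟨D.m 1 x + D.m 2 x, by rw [Y, q1, q2]; ring⟩
      by_cases hs3 : D.σ (D.σ (D.σ x)) = x
      · have e : ∀ i, D.m i x = D.m (dbl (dbl (dbl i))) x := fun i => by
          conv_lhs => rw [← hs3, D.σ_m, D.σ_m, D.σ_m]
        have q1 : D.m 1 x = D.m 3 x := e 1
        have q2 : D.m 3 x = D.m 4 x := e 3
        have q3 : D.m 4 x = D.m 2 x := e 4
        exact Or.inr ⟨2 * D.m 1 x, by rw [Y, ← q3, ← q2, ← q1]; ring⟩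
      have hs1 : D.σ x ≠ x := fun e => hs2 (by rw [e, e])
      have n12 : D.σ x ≠ D.σ (D.σ x) := fun e => hs1 (D.σ.injective e).symm
      have n13 : D.σ x ≠ D.σ (D.σ (D.σ x)) := fun e => hs2 (D.σ.injective e).symm
      have n23 : D.σ (D.σ x) ≠ D.σ (D.σ (D.σ x)) := fun e => n12 (D.σ.injective e)
      left
      have hsub : ({x, D.σ x, D.σ (D.σ x), D.σ (D.σ (D.σ x))} : Finset ι) ⊆ D.others := by
        intro z hz
        simp only [Finset.mem_insert, Finset.mem_singleton] at hz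
        rcases hz with rfl | rfl | rfl | rfl
        exacts [hx, D.sigma_mem_others hx, D.sigma_mem_others (D.sigma_mem_others hx),
          D.sigma_mem_others (D.sigma_mem_others (D.sigma_mem_others hx))]
      have hle := Finset.sum_le_sum_of_subset_of_nonneg (f := fun z => D.γ z * D.γ z) hsub
        fun _ _ _ => mul_self_nonneg _
      rw [Finset.sum_insert (by simp [Ne.symm hs1, Ne.symm hs2, Ne.symm hs3]),
        Finset.sum_insert (by simp [n12, n13]), Finset.sum_insert (by simp [n23]),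
        Finset.sum_singleton, mg] at hle
      simp only [D.σ_γ] at hle
      have hr := range_two h5
      obtain ⟨r1, r2⟩ := hr
      interval_cases D.γ x <;> omega
    obtain ⟨hq, hp⟩ := pointII (y := D.Y x) (g := D.γ x) (by simp only [Y]; omega)
      (range_two h5) hodd hcs
    have hα : D.α x = 5 * D.γ x - 4 * D.Y x := by
      rw [D.alpha_eq, (D.mem_others.1 hx).2, zero_add]
    rw [← hα] at hp
    have h7 := D.weight_bound hx (w := 200 * (D.Y x - 2 * D.γ x))
      (Q := 6 * (16 * (D.Y x * D.Y x) + 34 * (D.γ x * D.γ x) - 49 * (D.Y x * D.γ x)))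
      (N := max (64 + D.α x) (64 - 3 * D.α x))
      (by omega) (by omega) (fun _ => le_rfl) hp
    push_cast at h7 ⊢
    linarith
  have hsum := Finset.sum_le_sum hpt
  rw [← Finset.sum_div, ← Finset.mul_sum, ← Int.cast_sum, Finset.sum_sub_distrib,
    Finset.sum_add_distrib, ← Finset.mul_sum, ← Finset.mul_sum, ← Finset.mul_sum,
    mY, mYg, mg] at hsum
  have hv : ∑ x, ((4 : ℚ) * D.m 0 x - D.Y x + 2 * D.γ x) * D.term x = 0 := by
    simp only [add_mul, sub_mul, mul_assoc, Finset.sum_add_distrib, Finset.sum_sub_distrib,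
      ← Finset.mul_sum, D.rec_term, D.rec_term_Y, D.rec_term_γ]
    ring
  have hR : ∑ x ∈ D.others, ((4 : ℚ) * D.m 0 x - D.Y x + 2 * D.γ x) * D.term x =
      -∑ x ∈ D.others, ((D.Y x : ℚ) - 2 * D.γ x) * D.term x := by
    rw [← Finset.sum_neg_distrib]
    exact Finset.sum_congr rfl fun x hx => by rw [(D.mem_others.1 hx).2]; push_cast; ring
  have hαP : D.α P = 7 := by rw [D.alpha_eq, e3, hmP, hγP]; norm_num
  have hαa : D.α a = 9 := by rw [D.alpha_eq, D.single_Y h.sngA, hma, hγa]; norm_num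
  have hαb : D.α b = 6 := by rw [D.alpha_eq, D.single_Y h.sngB, hmb, hγb]; norm_num
  rw [h.split, hR, e5, D.term_one, D.m_one, if_pos rfl, D.Y_one, D.γ_one, e0, e4, e3, e1, hmP,
    hγP, D.single_Y h.sngA, hma, hγa, D.single_Y h.sngB, hmb, hγb] at hv
  simp only [term, hαP, hαa, hαb, hn] at hv
  push_cast at hv hsum
  simp only [term] at hsum
  have hNa' : (265 : ℚ) ≤ D.n a := by exact_mod_cast hNa
  have hNb' : (D.n b : ℚ) = D.n a + 205 := by exact_mod_cast hNb
  have key : (162 : ℚ) / D.n a ≤ 288 / D.n b := by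
    rw [hNb', div_le_div_iff₀ (by linarith) (by linarith)]
    linarith
  norm_num at hv
  linarith [show (8 : ℚ) * (36 / D.n b) = 288 / D.n b by ring,
    show (2 : ℚ) * (81 / D.n a) = 162 / D.n a by ring]

theorem Pairs.caseNeg (hg : D.m 0 P * D.γ P = 1) (ha : D.m 0 a * D.γ a = -1)
    (hb : D.m 0 b * D.γ b = 2) : False := by
  have ba := h.bound
  have bb := h.swap.bound
  rw [ha, hb] at ba bb
  norm_num [sb, singleK, bnd] at ba bb
  have hrec := h.recEq
  have hL := D.L_neg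
  rcases h.pair_one hg with e | ⟨e, -, e2, hn⟩
  · rw [e] at hrec
    push_cast at hrec
    have := D.term_nonneg P
    linarith
  have hdeg := h.degree
  rw [e] at hdeg hrec
  push_cast at hrec
  have nP := D.n_pos P
  have na := D.n_pos a
  have nb := D.n_pos b
  have hs1 := (D.mem_supp.1 h.ha).1
  have hl1 := D.supp_live h.ha
  have hs2 := (D.mem_supp.1 h.hb).1
  have hl2 := D.supp_live h.hb
  have ta := D.term_nonneg a
  have tb := D.term_nonneg b
  have hσa := h.fixed (by rw [ha, hb]; norm_num)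
  have hσb := h.swap.fixed (by rw [ha, hb]; norm_num)
  have hta : D.α a = 5 * D.γ a - 4 * D.m 0 a := by rw [D.alpha_eq, D.single_Y h.sngA, add_zero]
  have htb : D.α b = 5 * D.γ b - 4 * D.m 0 b := by rw [D.alpha_eq, D.single_Y h.sngB, add_zero]
  rcases hn with hn | hn
  · have hP : D.term P = 49 / 103 := by rw [term, e2, hn]; norm_num
    rw [hn] at hdeg
    rw [hP] at hrec
    rcases D.supp_m0 h.ha with ea | ea <;> rcases D.supp_m0 h.hb with eb | eb <;>
      rw [ea, eb] at hdeg hrec <;> push_cast at hrec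
    · linarith
    · -- the single with value two is negative
      rw [eb] at hb htb
      rw [ea] at ha hta
      have hk := D.four_le_k hs2 hl2 (Or.inl hσb) (by omega)
      have hnb := D.n_bounds hs2 hl2
      have e6 : D.α b = -6 := by omega
      have e9 : D.α a = -9 := by omega
      have hN : 274 ≤ D.n b := by omega
      have hN' : (274 : ℚ) ≤ D.n b := by exact_mod_cast hN
      have hA : (D.n a : ℚ) = D.n b + 205 := by exact_mod_cast (show D.n a = D.n b + 205 by omega)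
      have key : D.term b ≤ D.term a := by
        rw [term, term, e6, e9, hA]
        push_cast
        norm_num
        rw [div_le_div_iff₀ (by linarith) (by linarith)]
        linarith
      linarith
    · -- the single with value minus one is negative
      rw [ea] at ha hta
      have hk := D.four_le_k hs1 hl1 (Or.inl hσa) (by omega)
      have hna := D.n_bounds hs1 hl1
      exact h.refined hg (by rw [ea]; exact ha) hb hn e ea eb (by omega) (by omega)
    · omega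
  · have hP : D.term P ≤ ((49 : ℤ) : ℚ) / ((167 : ℤ) : ℚ) :=
      D.term_le (by rw [e2]; norm_num) hn (by norm_num)
    push_cast at hP
    rcases D.supp_m0 h.ha with ea | ea <;> rcases D.supp_m0 h.hb with eb | eb <;>
      simp only [ea, eb] at hdeg hrec ba bb <;> push_cast at hrec ba bb <;>
        first
        | omega
        | linarith

omit h

theorem caseII {P P' : ι} (hP : P ∈ D.supp) (hP' : P' ∈ D.supp) (hne : P ≠ P')
    (σP : D.σ P = P') (σP' : D.σ P' = P)
    (mP : D.m 1 P = D.m 0 P ∧ D.m 2 P = 0 ∧ D.m 3 P = 0 ∧ D.m 4 P = D.m 0 P)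
    (mP' : D.m 1 P' = 0 ∧ D.m 2 P' = D.m 0 P' ∧ D.m 3 P' = D.m 0 P' ∧ D.m 4 P' = 0)
    (hs : ∀ x ∈ D.supp, x ≠ P → x ≠ P' → D.IsSingle x) : False := by
  obtain ⟨a, b, hab, hT⟩ := Finset.card_eq_two.1
    (show ((D.supp.erase P).erase P').card = 2 by
      rw [Finset.card_erase_of_mem (Finset.mem_erase.2 ⟨hne.symm, hP'⟩),
        Finset.card_erase_of_mem hP, D.card_supp])
  obtain ⟨ha1, ha2, haS⟩ : a ≠ P' ∧ a ≠ P ∧ a ∈ D.supp := by
    have hm : a ∈ (D.supp.erase P).erase P' := by rw [hT]; simp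
    simpa [Finset.mem_erase] using hm
  obtain ⟨hb1, hb2, hbS⟩ : b ≠ P' ∧ b ≠ P ∧ b ∈ D.supp := by
    have hm : b ∈ (D.supp.erase P).erase P' := by rw [hT]; simp
    simpa [Finset.mem_erase] using hm
  have h : D.Pairs P P' a b := ⟨hP, hP', haS, hbS,
    ⟨hne, ha2.symm, hb2.symm, ha1.symm, hb1.symm, hab⟩, σP, σP', mP, mP',
    hs a haS ha2 ha1, hs b hbS hb2 hb1⟩
  obtain ⟨m1, mY, mYg, mg⟩ := h.moments
  have hcs := Finset.sum_mul_sq_le_sq_mul_sq D.others D.Y D.γ
  simp only [sq] at hcs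
  rw [mY, mYg, mg] at hcs
  rcases tableII m1 hcs with ⟨hg, ⟨x, y⟩ | ⟨x, y⟩⟩ | ⟨hg, ⟨x, y⟩ | ⟨x, y⟩⟩ | ⟨hg, ⟨x, y⟩ | ⟨x, y⟩⟩
  · exact h.caseTwo hg x y
  · exact h.swap.caseTwo hg y x
  · exact h.caseZero hg x y
  · exact h.swap.caseZero hg y x
  · exact h.caseNeg hg x y
  · exact h.swap.caseNeg hg y x

end Data

end CfsgLib.UFour73.Arith
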