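import Cfsg.Agent.Lib.UFour73.ArithCaseOne
import Cfsg.Agent.Lib.UFour73.ArithCaseTwo

/-!
# The arithmetical data are contradictory
-/

set_option autoImplicit false

namespace CfsgLib.UFour73.Arith

namespace Data

/-- The main result of the arithmetic: there are no such data. -/
theorem absurd {ι : Type*} [Fintype ι] [DecidableEq ι] (D : Data ι) : False := by
  rcases D.shapes with ⟨B, hB, hσ, hm, hs⟩ | ⟨P, P', hP, hP', hne, σP, σP', mP, mP', hs⟩
  · exact D.caseI hB hσ hm hs
  · exact D.caseII hP hP' hne σP σP' mP mP' hs

end Data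

end CfsgLib.UFour73.Arith
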