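import Mathlib

/-!
# Shapes of the projections on the four characters with non-zero constant multiplicity

Four vectors in `ℤ⁴` cycled by a permutation of the coordinates, with entries summing to one and
satisfying four positivity conditions, are unit vectors.
-/

set_option autoImplicit false

namespace CfsgLib.UFour73.Arith

/-- the test for one vector of coefficients -/
def test (z : ℤ × ℤ × ℤ × ℤ) (v1 v2 v3 v4 : Fin 4 → ℤ) : Bool :=
  let q := fun u => z.1 * v1 u + z.2.1 * v2 u + z.2.2.1 * v3 u + z.2.2.2 * v4 u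
  decide (q 0 * q 0 + q 1 * q 1 + q 2 * q 2 + q 3 * q 3 ≤
    4 * (z.1 * z.1 + z.2.1 * z.2.1 + z.2.2.1 * z.2.2.1 + z.2.2.2 * z.2.2.2) +
      (z.1 + z.2.1 + z.2.2.1 + z.2.2.2) * (z.1 + z.2.1 + z.2.2.1 + z.2.2.2))

/-- all the tests -/
def shapeOK (p : Fin 4 → Fin 4) (a b c d : ℤ) : Bool :=
  let v1 : Fin 4 → ℤ := ![a, b, c, d]
  let v2 : Fin 4 → ℤ := fun u => v1 (p u)
  let v4 : Fin 4 → ℤ := fun u => v2 (p u)
  let v3 : Fin 4 → ℤ := fun u => v4 (p u)
  !(decide (v3 (p 0) = a ∧ v3 (p 1) = b ∧ v3 (p 2) = c ∧ v3 (p 3) = d) &&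
    test (1, -1, 0, 0) v1 v2 v3 v4 && test (1, -1, -1, 1) v1 v2 v3 v4 &&
    test (1, 1, 1, 1) v1 v2 v3 v4 && test (1, 0, 0, -1) v1 v2 v3 v4) ||
    decide (a * a + b * b + c * c + d * d = 1)

/-- the values of the entries -/
def entryRange : List ℤ := [-2, -1, 0, 1, 2]

/-- the permutations -/
def perms4 : List (Fin 4 → Fin 4) :=
  [![0, 1, 2, 3], ![0, 1, 3, 2], ![0, 2, 1, 3], ![0, 2, 3, 1], ![0, 3, 1, 2], ![0, 3, 2, 1],
   ![1, 0, 2, 3], ![1, 0, 3, 2], ![1, 2, 0, 3], ![1, 2, 3, 0], ![1, 3, 0, 2], ![1, 3, 2, 0],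
   ![2, 0, 1, 3], ![2, 0, 3, 1], ![2, 1, 0, 3], ![2, 1, 3, 0], ![2, 3, 0, 1], ![2, 3, 1, 0],
   ![3, 0, 1, 2], ![3, 0, 2, 1], ![3, 1, 0, 2], ![3, 1, 2, 0], ![3, 2, 0, 1], ![3, 2, 1, 0]]

theorem shapeOK_all : perms4.all (fun p => entryRange.all fun a => entryRange.all fun b =>
    entryRange.all fun c => entryRange.all fun d =>
      !decide (a + b + c + d = 1 ∧ a * a + b * b + c * c + d * d ≤ 5) || shapeOK p a b c d) = true := by
  decide +kernel

theorem perm_mem_perms4 : ∀ p : Equiv.Perm (Fin 4), (p : Fin 4 → Fin 4) ∈ perms4 := by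
  decide

theorem mem_entryRange {a : ℤ} (h : a * a ≤ 5) : a ∈ entryRange := by
  have h1 : -2 ≤ a := by nlinarith
  have h2 : a ≤ 2 := by nlinarith
  interval_cases a <;> simp [entryRange]

/-- Unit vectors. -/
theorem unit_shape (π : Equiv.Perm (Fin 4)) (v : Fin 4 → ℤ) (hsum : ∑ u, v u = 1)
    (hnorm : ∑ u, v u * v u ≤ 5) (hper : ∀ u, v (π (π (π (π u)))) = v u)
    (htest : ∀ z : ℤ × ℤ × ℤ × ℤ,
      test z v (fun u => v (π u)) (fun u => v (π (π (π u)))) (fun u => v (π (π u))) = true) :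
    ∃ u, v u = 1 ∧ ∀ w, w ≠ u → v w = 0 := by
  simp only [Fin.sum_univ_four] at hsum hnorm
  have hv : v = ![v 0, v 1, v 2, v 3] := by
    funext u; fin_cases u <;> rfl
  have h := shapeOK_all
  simp only [List.all_eq_true] at h
  have s0 := mul_self_nonneg (v 0); have s1 := mul_self_nonneg (v 1)
  have s2 := mul_self_nonneg (v 2); have s3 := mul_self_nonneg (v 3)
  have h' := h _ (perm_mem_perms4 π) _ (mem_entryRange (a := v 0) (by omega))
    _ (mem_entryRange (a := v 1) (by omega)) _ (mem_entryRange (a := v 2) (by omega))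
    _ (mem_entryRange (a := v 3) (by omega))
  simp only [shapeOK, ← hv, htest, hper, and_self, decide_true, Bool.and_self, Bool.not_true, Bool.false_or, Bool.or_eq_true,
    Bool.not_eq_true', decide_eq_false_iff_not, decide_eq_true_eq] at h'
  have h1 : v 0 * v 0 + v 1 * v 1 + v 2 * v 2 + v 3 * v 3 = 1 := by
    rcases h' with h' | h'
    · exact absurd ⟨hsum, hnorm⟩ h'
    · exact h'
  have h2 : ∑ u, v u * v u = 1 := by simp only [Fin.sum_univ_four]; exact h1
  obtain ⟨u, hu⟩ : ∃ u, v u ≠ 0 := by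
    by_contra hh
    push Not at hh
    simp only [hh, mul_zero, Finset.sum_const_zero] at h2
    exact zero_ne_one h2
  have hu1 : 1 ≤ v u * v u := mul_self_pos.2 hu
  have hz : ∀ w, w ≠ u → v w = 0 := fun w hw => by
    have h3 : v u * v u + v w * v w ≤ ∑ x, v x * v x := by
      rw [← Finset.sum_pair (f := fun x => v x * v x) hw.symm]
      exact Finset.sum_le_sum_of_subset_of_nonneg (Finset.subset_univ _)
        fun x _ _ => mul_self_nonneg _
    have h4 := mul_self_nonneg (v w)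
    exact mul_self_eq_zero.1 (by omega)
  refine ⟨u, ?_, hz⟩
  rw [← Finset.sum_eq_single u (fun w _ hw => hz w hw) (fun h => absurd (Finset.mem_univ u) h),
    Fin.sum_univ_four]
  exact hsum

end CfsgLib.UFour73.Arith
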