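import Cfsg.Agent.Lib.UFour73.ArithTools
import Cfsg.Agent.Lib.UFour73.ArithShape

/-!
# The four characters with non-zero constant multiplicity
-/

set_option autoImplicit false

namespace CfsgLib.UFour73.Arith

open Finset

namespace Data

variable {ι : Type*} [Fintype ι] [DecidableEq ι] (D : Data ι)

/-- the projection on a support character -/
def b (i : Fin 5) (χ : ι) : ℤ := D.m 0 χ * D.m i χ

theorem m_eq_b {χ : ι} (h : χ ∈ D.supp) (i : Fin 5) : D.m i χ = D.m 0 χ * D.b i χ := by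
  rw [b, ← mul_assoc, D.supp_m0_sq h, one_mul]

theorem sum_supp_b {i : Fin 5} (hi : i ≠ 0) : ∑ χ ∈ D.supp, D.b i χ = 1 := by
  have h := D.gram 0 i
  rw [D.sum_split, D.m_one, D.m_one, if_neg hi, if_neg (Ne.symm hi)] at h
  have hz : ∑ χ ∈ D.others, D.m 0 χ * D.m i χ = 0 :=
    Finset.sum_eq_zero fun χ hχ => by rw [(D.mem_others.1 hχ).2, zero_mul]
  rw [hz] at h
  simpa [b] using h

theorem sum_supp_g : ∑ χ ∈ D.supp, D.m 0 χ * D.γ χ = 3 := by
  have h := D.m_gamma 0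
  rw [D.sum_split, D.m_one, D.γ_one] at h
  have hz : ∑ χ ∈ D.others, D.m 0 χ * D.γ χ = 0 :=
    Finset.sum_eq_zero fun χ hχ => by rw [(D.mem_others.1 hχ).2, zero_mul]
  rw [hz] at h
  simp only [if_true, mul_one] at h
  omega

theorem proj_le (z1 z2 z3 z4 : ℤ) :
    ∑ χ ∈ D.supp, (z1 * D.b 1 χ + z2 * D.b 2 χ + z3 * D.b 3 χ + z4 * D.b 4 χ) *
        (z1 * D.b 1 χ + z2 * D.b 2 χ + z3 * D.b 3 χ + z4 * D.b 4 χ) ≤
      4 * (z1 * z1 + z2 * z2 + z3 * z3 + z4 * z4) +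
        (z1 + z2 + z3 + z4) * (z1 + z2 + z3 + z4) := by
  let z : Fin 5 → ℤ := ![0, z1, z2, z3, z4]
  have e : ∀ χ, (z1 * D.m 1 χ + z2 * D.m 2 χ + z3 * D.m 3 χ + z4 * D.m 4 χ) *
      (z1 * D.m 1 χ + z2 * D.m 2 χ + z3 * D.m 3 χ + z4 * D.m 4 χ) =
        ∑ i, ∑ j, z i * z j * (D.m i χ * D.m j χ) := fun χ => by
    simp only [Fin.sum_univ_five, show z 0 = 0 from rfl, show z 1 = z1 from rfl,
      show z 2 = z2 from rfl, show z 3 = z3 from rfl, show z 4 = z4 from rfl]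
    ring
  calc _ = ∑ χ ∈ D.supp, (z1 * D.m 1 χ + z2 * D.m 2 χ + z3 * D.m 3 χ + z4 * D.m 4 χ) *
        (z1 * D.m 1 χ + z2 * D.m 2 χ + z3 * D.m 3 χ + z4 * D.m 4 χ) := by
        refine Finset.sum_congr rfl fun χ hχ => ?_
        simp only [b]
        linear_combination ((z1 * D.m 1 χ + z2 * D.m 2 χ + z3 * D.m 3 χ + z4 * D.m 4 χ) *
          (z1 * D.m 1 χ + z2 * D.m 2 χ + z3 * D.m 3 χ + z4 * D.m 4 χ)) * D.supp_m0_sq hχ
    _ ≤ ∑ χ, (z1 * D.m 1 χ + z2 * D.m 2 χ + z3 * D.m 3 χ + z4 * D.m 4 χ) *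
        (z1 * D.m 1 χ + z2 * D.m 2 χ + z3 * D.m 3 χ + z4 * D.m 4 χ) :=
        Finset.sum_le_sum_of_subset_of_nonneg (Finset.subset_univ _)
          fun _ _ _ => mul_self_nonneg _
    _ = _ := by
        simp only [e]
        rw [Finset.sum_comm, Finset.sum_congr rfl fun i _ => Finset.sum_comm]
        simp only [← Finset.mul_sum, D.gram]
        simp only [Fin.sum_univ_five, show z 0 = 0 from rfl, show z 1 = z1 from rfl,
          show z 2 = z2 from rfl, show z 3 = z3 from rfl, show z 4 = z4 from rfl, if_true,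
          Fin.reduceEq, if_false]
        ring

/-- A single. -/
def IsSingle (χ : ι) : Prop := ∀ i : Fin 5, i ≠ 0 → D.m i χ = 0

theorem single_Y {χ : ι} (h : D.IsSingle χ) : D.Y χ = 0 := by
  simp [Y, h 1 (by decide), h 2 (by decide), h 3 (by decide), h 4 (by decide)]

/-- The two possible shapes. -/
theorem shapes :
    (∃ B, B ∈ D.supp ∧ D.σ B = B ∧ (∀ i, D.m i B = D.m 0 B) ∧
      ∀ x ∈ D.supp, x ≠ B → D.IsSingle x) ∨
    (∃ P P', P ∈ D.supp ∧ P' ∈ D.supp ∧ P ≠ P' ∧ D.σ P = P' ∧ D.σ P' = P ∧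
      (D.m 1 P = D.m 0 P ∧ D.m 2 P = 0 ∧ D.m 3 P = 0 ∧ D.m 4 P = D.m 0 P) ∧
      (D.m 1 P' = 0 ∧ D.m 2 P' = D.m 0 P' ∧ D.m 3 P' = D.m 0 P' ∧ D.m 4 P' = 0) ∧
      ∀ x ∈ D.supp, x ≠ P → x ≠ P' → D.IsSingle x) := by
  have hiff : ∀ x, D.σ x ∈ D.supp ↔ x ∈ D.supp := fun x => by
    refine ⟨fun h => ?_, D.sigma_mem_supp⟩
    rw [D.mem_supp, D.sigma_m0] at h
    rw [D.mem_supp]
    exact ⟨fun e => h.1 (by rw [e, D.σ_one]), h.2⟩
  let τ : Equiv.Perm {x // x ∈ D.supp} := D.σ.subtypePerm hiff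
  let e : {x // x ∈ D.supp} ≃ Fin 4 := Finset.equivFinOfCardEq D.card_supp
  let π : Equiv.Perm (Fin 4) := (e.symm.trans τ).trans e
  let v : Fin 4 → ℤ := fun u => D.b 1 (e.symm u).1
  have hstep : ∀ u, (e.symm (π u)).1 = D.σ (e.symm u).1 := fun u => by
    show (e.symm (e (τ (e.symm u)))).1 = _
    rw [e.symm_apply_apply]
    rfl
  have hb : ∀ i x, D.b i (D.σ x) = D.b (dbl i) x := fun i x => by
    simp only [b, D.sigma_m0, D.σ_m]
  have hv2 : ∀ u, v (π u) = D.b 2 (e.symm u).1 := fun u => by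
    simp only [v, hstep, hb]; rfl
  have hv4 : ∀ u, v (π (π u)) = D.b 4 (e.symm u).1 := fun u => by
    simp only [v, hstep, hb]; rfl
  have hv3 : ∀ u, v (π (π (π u))) = D.b 3 (e.symm u).1 := fun u => by
    simp only [v, hstep, hb]; rfl
  have hv1 : ∀ u, v (π (π (π (π u)))) = v u := fun u => by
    simp only [v, hstep, hb]; rfl
  have hsum : ∀ f : ι → ℤ, ∑ u, f (e.symm u).1 = ∑ x ∈ D.supp, f x := fun f => by
    rw [Equiv.sum_comp e.symm (fun x => f x.1)]
    exact Finset.sum_coe_sort D.supp f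
  obtain ⟨u, hu1, hu0⟩ := unit_shape π v (by rw [hsum (D.b 1)]; exact D.sum_supp_b (by decide))
    (by
      rw [hsum (fun x => D.b 1 x * D.b 1 x)]
      have h := D.proj_le 1 0 0 0
      simp only [one_mul, zero_mul, add_zero, mul_one, mul_zero] at h
      omega)
    hv1
    (fun z => by
      obtain ⟨z1, z2, z3, z4⟩ := z
      have h := D.proj_le z1 z2 z3 z4
      rw [← hsum, Fin.sum_univ_four] at h
      simp only [test, decide_eq_true_eq, hv3]
      simp only [hv4]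
      simp only [hv2]
      exact h)
  obtain ⟨x0, hx0⟩ : ∃ x0, x0 = (e.symm u).1 := ⟨_, rfl⟩
  have hx0s : x0 ∈ D.supp := hx0 ▸ (e.symm u).2
  have hb1 : ∀ x ∈ D.supp, D.b 1 x = if x = x0 then 1 else 0 := fun x hx => by
    obtain ⟨w, hw⟩ : ∃ w, (e.symm w).1 = x := ⟨e ⟨x, hx⟩, by rw [e.symm_apply_apply]⟩
    by_cases hwu : w = u
    · rw [← hw, hwu, if_pos hx0.symm]; exact hu1
    · rw [← hw, if_neg]
      · exact hu0 w hwu
      · rw [hx0]
        exact fun h => hwu (e.symm.injective (Subtype.ext h))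
  have hb2 : ∀ x ∈ D.supp, D.b 2 x = if D.σ x = x0 then 1 else 0 := fun x hx => by
    rw [← hb1 _ (D.sigma_mem_supp hx), hb]; rfl
  have hb4 : ∀ x ∈ D.supp, D.b 4 x = if D.σ (D.σ x) = x0 then 1 else 0 := fun x hx => by
    rw [← hb1 _ (D.sigma_mem_supp (D.sigma_mem_supp hx)), hb, hb]; rfl
  have hb3 : ∀ x ∈ D.supp, D.b 3 x = if D.σ (D.σ (D.σ x)) = x0 then 1 else 0 := fun x hx => by
    rw [← hb1 _ (D.sigma_mem_supp (D.sigma_mem_supp (D.sigma_mem_supp hx))), hb, hb, hb]; rfl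
  have h4 : D.σ (D.σ (D.σ (D.σ x0))) = x0 := by
    by_contra h
    have h' := hb1 _ (D.sigma_mem_supp (D.sigma_mem_supp (D.sigma_mem_supp
      (D.sigma_mem_supp hx0s))))
    rw [if_neg h, hb, hb, hb, hb, show dbl (dbl (dbl (dbl 1))) = 1 from rfl, hb1 _ hx0s,
      if_pos rfl] at h'
    exact one_ne_zero h'
  have inj : ∀ {x y : ι}, D.σ x = D.σ y → x = y := fun h => D.σ.injective h
  by_cases h1 : D.σ x0 = x0
  · refine Or.inl ⟨x0, hx0s, h1, fun i => ?_, fun x hx hne i hi => ?_⟩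
    · fin_cases i
      · rfl
      all_goals
        simp only [Fin.reduceFinMk, Fin.isValue]
        rw [D.m_eq_b hx0s]
        simp [hb1 _ hx0s, hb2 _ hx0s, hb3 _ hx0s, hb4 _ hx0s, h1]
    · have n1 : D.σ x ≠ x0 := fun h => hne (inj (h.trans h1.symm))
      have n2 : D.σ (D.σ x) ≠ x0 := fun h => n1 (inj (h.trans h1.symm))
      have n3 : D.σ (D.σ (D.σ x)) ≠ x0 := fun h => n2 (inj (h.trans h1.symm))
      fin_cases i
      · exact absurd rfl hi
      all_goals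
        simp only [Fin.reduceFinMk, Fin.isValue]
        rw [D.m_eq_b hx]
        simp [hb1 _ hx, hb2 _ hx, hb3 _ hx, hb4 _ hx, n1, n2, n3, hne]
  by_cases h2 : D.σ (D.σ x0) = x0
  · refine Or.inr ⟨x0, D.σ x0, hx0s, D.sigma_mem_supp hx0s, Ne.symm h1, rfl, h2, ?_, ?_, ?_⟩
    · refine ⟨?_, ?_, ?_, ?_⟩ <;> rw [D.m_eq_b hx0s] <;>
        simp [hb1 _ hx0s, hb2 _ hx0s, hb3 _ hx0s, hb4 _ hx0s, h1, h2]
    · have hs := D.sigma_mem_supp hx0s
      refine ⟨?_, ?_, ?_, ?_⟩ <;> rw [D.m_eq_b hs] <;>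
        simp [hb1 _ hs, hb2 _ hs, hb3 _ hs, hb4 _ hs, h1, h2]
    · intro x hx hne hne' i hi
      have n1 : D.σ x ≠ x0 := fun h => hne' (inj (h.trans h2.symm))
      have n2 : D.σ (D.σ x) ≠ x0 := fun h => hne (inj (inj (h.trans h2.symm)))
      have n3 : D.σ (D.σ (D.σ x)) ≠ x0 := fun h => n1 (inj (inj (h.trans h2.symm)))
      fin_cases i
      · exact absurd rfl hi
      all_goals
        simp only [Fin.reduceFinMk, Fin.isValue]
        rw [D.m_eq_b hx]
        simp [hb1 _ hx, hb2 _ hx, hb3 _ hx, hb4 _ hx, n1, n2, n3, hne]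
  · exfalso
    have d13 : D.σ (D.σ (D.σ x0)) ≠ x0 := fun h => h1 (by rw [h] at h4; exact h4)
    have hT : ({x0, D.σ x0, D.σ (D.σ x0), D.σ (D.σ (D.σ x0))} : Finset ι) = D.supp := by
      refine Finset.eq_of_subset_of_card_le (fun x hx => ?_) ?_
      · simp only [Finset.mem_insert, Finset.mem_singleton] at hx
        rcases hx with rfl | rfl | rfl | rfl
        exacts [hx0s, D.sigma_mem_supp hx0s, D.sigma_mem_supp (D.sigma_mem_supp hx0s),
          D.sigma_mem_supp (D.sigma_mem_supp (D.sigma_mem_supp hx0s))]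
      · rw [D.card_supp, Finset.card_insert_of_notMem, Finset.card_insert_of_notMem,
          Finset.card_insert_of_notMem, Finset.card_singleton]
        · simp only [Finset.mem_singleton]
          exact fun h => h1 (inj (inj h)).symm
        · simp only [Finset.mem_insert, Finset.mem_singleton, not_or]
          exact ⟨fun h => h1 (inj h).symm, fun h => h2 (inj h).symm⟩
        · simp only [Finset.mem_insert, Finset.mem_singleton, not_or]
          exact ⟨Ne.symm h1, Ne.symm h2, Ne.symm d13⟩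
    have h := D.sum_supp_g
    rw [← hT, Finset.sum_insert, Finset.sum_insert, Finset.sum_insert,
      Finset.sum_singleton] at h
    · simp only [D.sigma_m0, D.σ_γ] at h
      omega
    · simp only [Finset.mem_singleton]
      exact fun h => h1 (inj (inj h)).symm
    · simp only [Finset.mem_insert, Finset.mem_singleton, not_or]
      exact ⟨fun h => h1 (inj h).symm, fun h => h2 (inj h).symm⟩
    · simp only [Finset.mem_insert, Finset.mem_singleton, not_or]
      exact ⟨Ne.symm h1, Ne.symm h2, Ne.symm d13⟩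

end Data

end CfsgLib.UFour73.Arith
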