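import Cfsg.Agent.Lib.UFour73.ArithBase

/-!
# Bookkeeping for the arithmetic of the principal block data
-/

set_option autoImplicit false

namespace CfsgLib.UFour73.Arith

open Finset

/-- The bound for the negative part of a term: `c` is the signed value at an involution and `K`
a lower bound for the linear constituents. -/
def bnd (K c : ℤ) : ℚ := (c : ℚ) ^ 2 / ((max (64 * K - c) (64 * K + 3 * c) : ℤ) : ℚ)

/-- The bound `K` for a single with value `g` among singles with values `g`, `h`, `k`. -/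
def singleK (g h k : ℤ) : ℤ := if g = 1 then 1 else if g ≠ h ∧ g ≠ k then 4 else 2

/-- The bound for a single. -/
def sb (g h k : ℤ) : ℚ := bnd (singleK g h k) (5 * g - 4)

namespace Data

variable {ι : Type*} [Fintype ι] [DecidableEq ι] (D : Data ι)

/-- sum of the four non-constant multiplicities -/
def Y (χ : ι) : ℤ := D.m 1 χ + D.m 2 χ + D.m 3 χ + D.m 4 χ

/-- The four characters with non-zero constant multiplicity. -/
def supp : Finset ι := (univ.erase D.one).filter fun χ => D.m 0 χ ≠ 0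

/-- The other non-principal characters. -/
def others : Finset ι := (univ.erase D.one).filter fun χ => D.m 0 χ = 0

theorem mem_supp {χ : ι} : χ ∈ D.supp ↔ χ ≠ D.one ∧ D.m 0 χ ≠ 0 := by
  simp [supp]

theorem mem_others {χ : ι} : χ ∈ D.others ↔ χ ≠ D.one ∧ D.m 0 χ = 0 := by
  simp [others]

theorem sum_split {M : Type*} [AddCommGroup M] (f : ι → M) :
    ∑ χ, f χ = f D.one + ∑ χ ∈ D.supp, f χ + ∑ χ ∈ D.others, f χ := by
  rw [← Finset.add_sum_erase univ f (mem_univ D.one), add_assoc]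
  congr 1
  rw [supp, others]
  exact (Finset.sum_filter_not_add_sum_filter _ (fun χ => D.m 0 χ = 0) f).symm

theorem alpha_eq (χ : ι) : D.α χ = 5 * D.γ χ - 4 * (D.m 0 χ + D.Y χ) := by
  simp only [α, Y, Fin.sum_univ_five]; ring

theorem Y_one : D.Y D.one = 0 := by simp [Y, D.m_one]

theorem alpha_one : D.α D.one = 1 := by simp [α, D.γ_one, D.m_one]

theorem term_one : D.term D.one = 1 := by simp [term, D.alpha_one, D.n_one]

theorem sum_Y_sq : ∑ χ, D.Y χ * D.Y χ = 32 := by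
  have e : ∀ χ, D.Y χ * D.Y χ =
      ∑ i ∈ ({1, 2, 3, 4} : Finset (Fin 5)), ∑ j ∈ ({1, 2, 3, 4} : Finset (Fin 5)),
        D.m i χ * D.m j χ := fun χ => by
    simp only [Y, Finset.sum_insert, Finset.mem_insert, Finset.mem_singleton, Fin.reduceEq,
      or_self, not_false_eq_true, Finset.sum_singleton]
    ring
  simp only [e]
  rw [Finset.sum_comm, Finset.sum_congr rfl fun i _ => Finset.sum_comm]
  simp only [D.gram]
  decide

theorem sum_Y_gamma : ∑ χ, D.Y χ * D.γ χ = 16 := by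
  simp only [Y, add_mul, Finset.sum_add_distrib, D.m_gamma]
  norm_num

theorem rec_term (i : Fin 5) : ∑ χ, (D.m i χ : ℚ) * D.term χ = D.L := by
  rw [← D.rec_m i]
  exact Finset.sum_congr rfl fun χ _ => by simp only [term, α, mul_div_assoc]

theorem rec_term_γ : ∑ χ, (D.γ χ : ℚ) * D.term χ = 0 := by
  rw [← D.rec_γ]
  exact Finset.sum_congr rfl fun χ _ => by simp only [term, α, mul_div_assoc]

theorem rec_term_Y : ∑ χ, (D.Y χ : ℚ) * D.term χ = 4 * D.L := by
  simp only [Y, Int.cast_add, add_mul, Finset.sum_add_distrib, D.rec_term]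
  ring

theorem sigma_m0 (χ : ι) : D.m 0 (D.σ χ) = D.m 0 χ := by rw [D.σ_m]; rfl

theorem sigma_Y (χ : ι) : D.Y (D.σ χ) = D.Y χ := by
  simp only [Y, D.σ_m, show dbl 1 = 2 from rfl, show dbl 2 = 4 from rfl, show dbl 3 = 1 from rfl,
    show dbl 4 = 3 from rfl]
  ring

theorem sigma_mem_supp {χ : ι} (h : χ ∈ D.supp) : D.σ χ ∈ D.supp := by
  rw [mem_supp] at h ⊢
  exact ⟨D.sigma_ne_one h.1, by rw [D.sigma_m0]; exact h.2⟩

theorem sigma_mem_others {χ : ι} (h : χ ∈ D.others) : D.σ χ ∈ D.others := by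
  rw [mem_others] at h ⊢
  exact ⟨D.sigma_ne_one h.1, by rw [D.sigma_m0]; exact h.2⟩

theorem sum_supp_sq : ∑ χ ∈ D.supp, D.m 0 χ * D.m 0 χ = 4 := by
  have h := D.gram 0 0
  rw [D.sum_split, D.m_one] at h
  have hz : ∑ χ ∈ D.others, D.m 0 χ * D.m 0 χ = 0 :=
    Finset.sum_eq_zero fun χ hχ => by rw [(D.mem_others.1 hχ).2, mul_zero]
  rw [hz] at h
  simp only [if_true] at h
  omega

theorem sum_supp_deg : ∑ χ ∈ D.supp, D.n χ * D.m 0 χ = -1 := by
  have h := D.deg 0
  rw [D.sum_split, D.n_one, D.m_one] at h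
  have hz : ∑ χ ∈ D.others, D.n χ * D.m 0 χ = 0 :=
    Finset.sum_eq_zero fun χ hχ => by rw [(D.mem_others.1 hχ).2, mul_zero]
  rw [hz] at h
  simp only [if_true, mul_one] at h
  omega

theorem supp_m0 {χ : ι} (h : χ ∈ D.supp) : D.m 0 χ = 1 ∨ D.m 0 χ = -1 := by
  have hle : D.m 0 χ * D.m 0 χ ≤ 4 := by
    rw [← D.sum_supp_sq]
    exact Finset.single_le_sum (f := fun x => D.m 0 x * D.m 0 x) (fun _ _ => mul_self_nonneg _) h
  have h0 := (D.mem_supp.1 h).2
  have h1 : -2 ≤ D.m 0 χ := by nlinarith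
  have h2 : D.m 0 χ ≤ 2 := by nlinarith
  by_contra hc
  push Not at hc
  have h4 : D.m 0 χ * D.m 0 χ = 4 := by
    obtain h | h : D.m 0 χ = 2 ∨ D.m 0 χ = -2 := by omega
    all_goals rw [h]; norm_num
  have hall : ∀ x ∈ D.supp.erase χ, D.m 0 x = 0 := fun x hx => by
    have h5 := Finset.add_sum_erase D.supp (fun x => D.m 0 x * D.m 0 x) h
    simp only [h4, D.sum_supp_sq, add_eq_left] at h5
    exact mul_self_eq_zero.1
      ((Finset.sum_eq_zero_iff_of_nonneg fun _ _ => mul_self_nonneg _).1 h5 x hx)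
  have hd := D.sum_supp_deg
  rw [← Finset.add_sum_erase D.supp _ h,
    Finset.sum_eq_zero fun x hx => by rw [hall x hx, mul_zero], add_zero] at hd
  obtain e | e : D.m 0 χ = 2 ∨ D.m 0 χ = -2 := by omega
  all_goals rw [e] at hd; omega

theorem supp_live {χ : ι} (h : χ ∈ D.supp) : D.Live χ := Or.inl ⟨0, (D.mem_supp.1 h).2⟩

theorem supp_m0_sq {χ : ι} (h : χ ∈ D.supp) : D.m 0 χ * D.m 0 χ = 1 := by
  rcases D.supp_m0 h with e | e <;> simp [e]

theorem card_supp : D.supp.card = 4 := by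
  have h := D.sum_supp_sq
  rw [Finset.sum_congr rfl fun χ hχ => D.supp_m0_sq hχ] at h
  simp only [Finset.sum_const, nsmul_eq_mul, mul_one] at h
  exact_mod_cast h

theorem supp_gamma_sq {χ : ι} (h : χ ∈ D.supp) :
    D.γ χ * D.γ χ = (D.m 0 χ * D.γ χ) * (D.m 0 χ * D.γ χ) := by
  rw [show (D.m 0 χ * D.γ χ) * (D.m 0 χ * D.γ χ) = (D.m 0 χ * D.m 0 χ) * (D.γ χ * D.γ χ) by ring,
    D.supp_m0_sq h, one_mul]

theorem one_le_k {χ : ι} (h1 : χ ≠ D.one) (hl : D.Live χ) : 1 ≤ ∑ j, D.k χ j :=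
  D.k_pos χ h1 hl

/-- Lower bound for the contribution of a character with non-zero constant multiplicity. -/
theorem supp_bound {χ : ι} (h : χ ∈ D.supp) {c K : ℤ} (hc : D.m 0 χ * D.α χ = c) (hK1 : 1 ≤ K)
    (hK : K ≤ ∑ j, D.k χ j) : -bnd K c ≤ (D.m 0 χ : ℚ) * D.term χ := by
  have hpos : 0 < max (64 * K - c) (64 * K + 3 * c) := by
    rcases le_total 0 c with h0 | h0
    · exact lt_max_of_lt_right (by omega)
    · exact lt_max_of_lt_left (by omega)
  have hb : 0 ≤ bnd K c := div_nonneg (sq_nonneg _) (by exact_mod_cast hpos.le)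
  rcases D.supp_m0 h with e | e
  · rw [e, Int.cast_one, one_mul]
    linarith [D.term_nonneg χ]
  · rw [e] at hc ⊢
    obtain ⟨h1, h2⟩ := D.n_bounds (D.mem_supp.1 h).1 (D.supp_live h)
    have hN : max (64 * K - c) (64 * K + 3 * c) ≤ D.n χ := max_le (by omega) (by omega)
    have ht : D.term χ ≤ ((c ^ 2 : ℤ) : ℚ) / ((max (64 * K - c) (64 * K + 3 * c) : ℤ) : ℚ) :=
      D.term_le (le_of_eq (by rw [← hc]; ring)) hN hpos
    rw [Int.cast_pow] at ht
    unfold bnd
    push_cast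
    push_cast at ht
    linarith

theorem singleK_le {T : Finset ι} (hσ : ∀ x ∈ T, D.σ x ∈ T) (hcard : T.card ≤ 3) {χ : ι}
    (hχ : χ ∈ T) (hs : χ ∈ D.supp) (h1 : D.m 0 χ * D.γ χ ≠ 1) :
    2 ≤ ∑ j, D.k χ j ∧
      ((∀ z ∈ T, D.m 0 z * D.γ z = D.m 0 χ * D.γ χ → z = χ) → 4 ≤ ∑ j, D.k χ j) := by
  have hne := (D.mem_supp.1 hs).1
  have hl := D.supp_live hs
  have hg : D.γ χ ≠ D.m 0 χ := fun e => h1 (by rw [e]; exact D.supp_m0_sq hs)
  constructor
  · by_cases h2 : D.σ (D.σ χ) = χ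
    · exact D.two_le_k hne hl h2 hg
    · have h11 : D.σ χ ≠ χ := fun e => h2 (by rw [e, e])
      have h12 : D.σ (D.σ χ) ≠ D.σ χ := fun e => h11 (D.σ.injective e)
      have hT : ({χ, D.σ χ, D.σ (D.σ χ)} : Finset ι) = T := by
        refine Finset.eq_of_subset_of_card_le (fun x hx => ?_) ?_
        · simp only [Finset.mem_insert, Finset.mem_singleton] at hx
          rcases hx with rfl | rfl | rfl
          exacts [hχ, hσ _ hχ, hσ _ (hσ _ hχ)]
        · rw [Finset.card_eq_three.2 ⟨χ, _, _, h11.symm, Ne.symm h2, h12.symm, rfl⟩]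
          exact hcard
      have h3 := hσ _ (hσ _ (hσ _ hχ))
      rw [← hT] at h3
      simp only [Finset.mem_insert, Finset.mem_singleton] at h3
      rcases h3 with e | e | e
      · exact le_trans (by norm_num) (D.four_le_k hne hl (Or.inr e) hg)
      · exact absurd (D.σ.injective e) h2
      · exact absurd (D.σ.injective (D.σ.injective e)) h11
  · exact fun hu => D.four_le_k hne hl
      (Or.inl (hu _ (hσ _ hχ) (by rw [D.sigma_m0, D.σ_γ]))) hg

/-- A single: only the constant multiplicity is non-zero. -/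
theorem single_bound {T : Finset ι} (hσ : ∀ x ∈ T, D.σ x ∈ T) {χ b c : ι}
    (hT : T = {χ, b, c}) (hs : χ ∈ D.supp) (hY : D.Y χ = 0) :
    -sb (D.m 0 χ * D.γ χ) (D.m 0 b * D.γ b) (D.m 0 c * D.γ c) ≤ (D.m 0 χ : ℚ) * D.term χ := by
  have hχ : χ ∈ T := by simp [hT]
  have hc : D.m 0 χ * D.α χ = 5 * (D.m 0 χ * D.γ χ) - 4 := by
    rw [D.alpha_eq, hY]
    linear_combination (-4 : ℤ) * D.supp_m0_sq hs
  unfold sb singleK
  split_ifs with h1 h4
  · exact D.supp_bound hs hc le_rfl (D.one_le_k (D.mem_supp.1 hs).1 (D.supp_live hs))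
  · refine D.supp_bound hs hc (by norm_num)
      ((D.singleK_le hσ (hT ▸ Finset.card_le_three) hχ hs h1).2 fun z hz hzg => ?_)
    simp only [hT, Finset.mem_insert, Finset.mem_singleton] at hz
    rcases hz with rfl | rfl | rfl
    exacts [rfl, absurd hzg.symm h4.1, absurd hzg.symm h4.2]
  · exact D.supp_bound hs hc (by norm_num)
      (D.singleK_le hσ (hT ▸ Finset.card_le_three) hχ hs h1).1

/-- A weighted term outside the support. -/
theorem weight_bound {χ : ι} (h : χ ∈ D.others) {w Q N : ℤ} (hN0 : 0 < N) (hQ : 0 ≤ Q)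
    (hN : D.Live χ → N ≤ max (64 + D.α χ) (64 - 3 * D.α χ))
    (hp : w * D.α χ ^ 2 ≤ Q * N) : (w : ℚ) * D.term χ ≤ (Q : ℚ) := by
  have hQ' : (0 : ℚ) ≤ Q := by exact_mod_cast hQ
  by_cases hl : D.Live χ
  · rcases le_or_gt w 0 with hw | hw
    · have hw' : (w : ℚ) ≤ 0 := by exact_mod_cast hw
      exact le_trans (mul_nonpos_of_nonpos_of_nonneg hw' (D.term_nonneg χ)) hQ'
    · have h1 := (D.mem_others.1 h).1
      obtain ⟨b1, b2⟩ := D.n_bounds h1 hl
      have hk := D.one_le_k h1 hl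
      have hNn : N ≤ D.n χ := (hN hl).trans (max_le (by omega) (by omega))
      have ht : D.term χ ≤ ((D.α χ ^ 2 : ℤ) : ℚ) / (N : ℚ) := D.term_le le_rfl hNn hN0
      have hw' : (0 : ℚ) ≤ w := by exact_mod_cast hw.le
      refine (mul_le_mul_of_nonneg_left ht hw').trans ?_
      rw [← mul_div_assoc, div_le_iff₀ (by exact_mod_cast hN0)]
      exact_mod_cast hp
  · simp only [Live, not_or, not_exists, not_not] at hl
    simp [term, α, hl.1, hl.2, hQ']

/-- A multiplicity outside the support is at most one in absolute value. -/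
theorem entry_le {i : Fin 5} {χ : ι} (hχ : χ ∈ D.others)
    (hsum : ∑ x ∈ D.others, D.m i x * D.m i x ≤ 4) {c : ℤ}
    (hdeg : ∑ x ∈ D.others, D.n x * D.m i x = c) (hc : ¬ 2 ∣ c) :
    -1 ≤ D.m i χ ∧ D.m i χ ≤ 1 := by
  have hle : D.m i χ * D.m i χ ≤ 4 :=
    (Finset.single_le_sum (f := fun x => D.m i x * D.m i x) (fun _ _ => mul_self_nonneg _)
      hχ).trans hsum
  have h1 : -2 ≤ D.m i χ := by nlinarith
  have h2 : D.m i χ ≤ 2 := by nlinarith
  by_contra hn
  have h4 : D.m i χ * D.m i χ = 4 := by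
    obtain e | e : D.m i χ = 2 ∨ D.m i χ = -2 := by omega
    all_goals rw [e]; norm_num
  have hall : ∀ x ∈ D.others.erase χ, D.m i x = 0 := fun x hx => by
    have h5 := Finset.add_sum_erase D.others (fun x => D.m i x * D.m i x) hχ
    simp only [h4] at h5
    have h6 : ∑ x ∈ D.others.erase χ, D.m i x * D.m i x = 0 :=
      le_antisymm (by omega) (Finset.sum_nonneg fun _ _ => mul_self_nonneg _)
    exact mul_self_eq_zero.1
      ((Finset.sum_eq_zero_iff_of_nonneg fun _ _ => mul_self_nonneg _).1 h6 x hx)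
  rw [← Finset.add_sum_erase D.others _ hχ,
    Finset.sum_eq_zero fun x hx => by rw [hall x hx, mul_zero], add_zero] at hdeg
  obtain e | e : D.m i χ = 2 ∨ D.m i χ = -2 := by omega
  all_goals rw [e] at hdeg; omega

end Data

end CfsgLib.UFour73.Arith
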