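import Cfsg.Agent.Lib.UFour73.BlockFixed

/-!
# The columns of the principal block in the section of a central involution

`C(a)` modulo the core is `S : 5` of order 320, with a single block; so the columns at `a r^k`
multiply like the columns of that group at `r^k`.
-/

set_option autoImplicit false
set_option linter.style.haveILetI false
set_option linter.unusedSectionVars false

namespace CfsgLib.UFour73.BlockAux

open Cfsg CfsgLib.Characters CfsgLib.Blocks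
open CfsgLib.PiHom (zInv)
open CfsgLib.InvCharSixtyFour (HermLike)
open scoped ComplexConjugate

universe u

variable {G : Type u} [Group G] [Finite G] (D : Setting G)

/-- the centraliser of the first involution -/
abbrev Ca : Subgroup G := Subgroup.centralizer ({D.a 0} : Set G)

/-- its core -/
abbrev Na : Subgroup ↥(Ca D) := (D.θ 0).subgroupOf (Ca D)

instance normal_Na : (Na D).Normal := Subgroup.normal_subgroupOf_of_le_normalizer (D.cent_norm 0)

theorem X_le_Ca : D.X ≤ Ca D := X_le_cent D (D.a_mem 0)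

theorem odd_Na : Odd (Nat.card ↥(Na D)) := by
  rw [Nat.card_congr (Subgroup.subgroupOfEquivOfLe (θ_le_cent D 0)).toEquiv]
  exact D.θ_odd 0

/-- the class of an element of `X` -/
def bar (x : ↥D.X) : ↥(Ca D) ⧸ Na D :=
  QuotientGroup.mk' (Na D) (Subgroup.inclusion (X_le_Ca D) x)

theorem bar_mul (x y : ↥D.X) : bar D (x * y) = bar D x * bar D y := by
  simp [bar]

theorem bar_one : bar D 1 = 1 := by
  simp [bar]

theorem bar_eq_iff (x y : ↥D.X) : bar D x = bar D y ↔ (x : G)⁻¹ * y ∈ D.W0 := by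
  simp only [bar, QuotientGroup.mk'_apply, QuotientGroup.eq, Subgroup.mem_subgroupOf,
    Subgroup.coe_mul, Subgroup.coe_inv, Subgroup.coe_inclusion]
  refine ⟨fun h => ?_, fun h => D.W0_le 0 h⟩
  rw [← D.θ_inf 0]
  exact ⟨h, D.X.mul_mem (D.X.inv_mem x.2) y.2⟩

/-- the element `r` of `X` -/
def rX : ↥D.X := ⟨D.r, r_mem_X D⟩

/-- an element of `S` in `X` -/
def sX (s : ↥D.S) : ↥D.X := ⟨s, S_le_X D s.2⟩

theorem bar_surj (q : ↥(Ca D) ⧸ Na D) :
    ∃ (s : ↥D.S) (i : ℕ), q = bar D (sX D s * rX D ^ i) := by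
  induction q using QuotientGroup.induction_on with
  | H g =>
    obtain ⟨e, he, x, hx, hg⟩ := (D.cent 0 (g : G)).1 g.2
    obtain ⟨s, hs, w, hw, i, hxe⟩ := decomp D hx
    refine ⟨⟨s, hs⟩, i, ?_⟩
    simp only [bar, QuotientGroup.mk'_apply, QuotientGroup.eq, Subgroup.mem_subgroupOf,
      Subgroup.coe_mul, Subgroup.coe_inv, Subgroup.coe_inclusion, sX, rX, SubmonoidClass.coe_pow]
    rw [hg, hxe]
    have h1 : (D.r ^ i)⁻¹ * w⁻¹ * D.r ^ i ∈ D.W0 := by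
      have h := (Subgroup.mem_normalizer_iff.1 (D.X_norm_W0 (inv_mem (pow_mem (r_mem_X D) i))) w⁻¹).1
        (inv_mem hw)
      rwa [inv_inv] at h
    have h2 : (s * w * D.r ^ i)⁻¹ * e⁻¹ * (s * w * D.r ^ i) ∈ D.θ 0 := by
      have h := (Subgroup.mem_normalizer_iff.1 (D.X_norm_θ 0 (inv_mem (hxe ▸ hx))) e⁻¹).1 (inv_mem he)
      rwa [inv_inv] at h
    have e' : (e * (s * w * D.r ^ i))⁻¹ * (s * D.r ^ i) =
        (s * w * D.r ^ i)⁻¹ * e⁻¹ * (s * w * D.r ^ i) * ((D.r ^ i)⁻¹ * w⁻¹ * D.r ^ i) := by group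
    rw [e']
    exact mul_mem h2 (D.W0_le 0 h1)

theorem eq_of_bar_eq {s s' : ↥D.S} {i j : ℕ}
    (h : bar D (sX D s * rX D ^ i) = bar D (sX D s' * rX D ^ j)) : s = s' ∧ i % 5 = j % 5 := by
  rw [bar_eq_iff] at h
  simp only [Subgroup.coe_mul, sX, rX, SubmonoidClass.coe_pow] at h
  have hW : ∀ w ∈ D.W0, w ∈ D.S ⊔ D.W0 := fun w hw => Subgroup.mem_sup_right hw
  have hS : ∀ w ∈ D.S, w ∈ D.S ⊔ D.W0 := fun w hw => Subgroup.mem_sup_left hw
  set t := ((s : G))⁻¹ * s' with htdef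
  have ht : t ∈ D.S := D.S.mul_mem (D.S.inv_mem s.2) s'.2
  set v := (D.r ^ i)⁻¹ * t * D.r ^ i with hv
  have hvS : v ∈ D.S := by
    have := conj_mem_S D (inv_mem (pow_mem (r_mem_X D) i)) ht
    rwa [inv_inv] at this
  have e : ((s : G) * D.r ^ i)⁻¹ * (s' * D.r ^ j) = v * ((D.r ^ i)⁻¹ * D.r ^ j) := by
    rw [hv, htdef]; group
  rw [e] at h
  have h1 : (D.r ^ i)⁻¹ * D.r ^ j ∈ D.S ⊔ D.W0 :=
    (Subgroup.mul_mem_cancel_left _ (hS v hvS)).1 (hW _ h)
  have h2 : D.r ^ (j + 4 * i) ∈ D.S ⊔ D.W0 := by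
    have e2 : D.r ^ (j + 4 * i) = (D.r ^ i)⁻¹ * D.r ^ j * (D.r ^ 5) ^ i := by
      rw [mul_assoc, ← pow_mul, ← pow_add, show j + 5 * i = i + (j + 4 * i) by omega, pow_add _ i,
        inv_mul_cancel_left]
    rw [e2]
    exact mul_mem h1 (hW _ (pow_mem D.r_pow i))
  have h5 := dvd_of_mem D h2
  have hmod : i % 5 = j % 5 := by omega
  refine ⟨?_, hmod⟩
  have h3 : (D.r ^ i)⁻¹ * D.r ^ j ∈ D.W0 := by
    have h6 := pow_five_mul_mem D (i := j + 4 * i) h5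
    have e2 : (D.r ^ i)⁻¹ * D.r ^ j = D.r ^ (j + 4 * i) * ((D.r ^ 5) ^ i)⁻¹ := by
      rw [eq_mul_inv_iff_mul_eq, mul_assoc, ← pow_mul, ← pow_add,
        show j + 5 * i = i + (j + 4 * i) by omega, pow_add _ i, inv_mul_cancel_left]
    rw [e2]
    exact mul_mem h6 (inv_mem (pow_mem D.r_pow i))
  have hvW : v ∈ D.W0 := (Subgroup.mul_mem_cancel_right _ h3).1 h
  have hv1 : v = 1 := eq_one_of_odd_of_mem D hvS (odd_of_mem D.W0_odd hvW)
  have ht1 : t = 1 := by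
    calc t = D.r ^ i * v * (D.r ^ i)⁻¹ := by rw [hv]; group
      _ = 1 := by rw [hv1]; group
  exact Subtype.ext (inv_mul_eq_one.1 ht1)

theorem bar_pow_eq {i j : ℕ} (h : i % 5 = j % 5) : bar D (rX D ^ i) = bar D (rX D ^ j) := by
  have key : ∀ n, bar D (rX D ^ n) = bar D (rX D ^ (n % 5)) := fun n => by
    refine ((bar_eq_iff D _ _).2 ?_).symm
    simp only [rX, SubmonoidClass.coe_pow]
    conv in (occs := *) D.r ^ n => all_goals rw [← Nat.mod_add_div n 5]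
    rw [pow_add, inv_mul_cancel_left, pow_mul]
    exact pow_mem D.r_pow _
  rw [key i, key j, h]

/-- the element parametrised by `S × Fin 5` -/
def param (p : ↥D.S × Fin 5) : ↥(Ca D) ⧸ Na D := bar D (sX D p.1 * rX D ^ (p.2 : ℕ))

theorem param_bijective : Function.Bijective (param D) := by
  refine ⟨fun p q h => ?_, fun q => ?_⟩
  · obtain ⟨h1, h2⟩ := eq_of_bar_eq D h
    exact Prod.ext h1 (Fin.ext (by have := p.2.2; have := q.2.2; omega))
  · obtain ⟨s, i, rfl⟩ := bar_surj D q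
    refine ⟨(s, ⟨i % 5, Nat.mod_lt _ (by norm_num)⟩), ?_⟩
    simp only [param, bar_mul]
    rw [bar_pow_eq D (i := i % 5) (j := i) (Nat.mod_mod _ _)]

theorem card_quot : Nat.card (↥(Ca D) ⧸ Na D) = 320 := by
  rw [← Nat.card_congr (Equiv.ofBijective _ (param_bijective D)), Nat.card_prod, card_S D,
    Nat.card_fin]

/-- the image of `S` -/
def Qa : Subgroup (↥(Ca D) ⧸ Na D) where
  carrier := Set.range fun s : ↥D.S => bar D (sX D s)
  one_mem' := ⟨1, bar_one D⟩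
  mul_mem' := by
    rintro _ _ ⟨s, rfl⟩ ⟨t, rfl⟩
    exact ⟨s * t, (bar_mul D (sX D s) (sX D t)).symm ▸ rfl⟩
  inv_mem' := by
    rintro _ ⟨s, rfl⟩
    exact ⟨s⁻¹, rfl⟩

theorem mem_Qa {q : ↥(Ca D) ⧸ Na D} : q ∈ Qa D ↔ ∃ s : ↥D.S, bar D (sX D s) = q := Iff.rfl

theorem bar_conj_mem (x : ↥D.X) (s : ↥D.S) :
    ∃ t : ↥D.S, bar D x * bar D (sX D s) * (bar D x)⁻¹ = bar D (sX D t) := by
  refine ⟨⟨(x : G) * s * (x : G)⁻¹, conj_mem_S D x.2 s.2⟩, ?_⟩
  simp only [bar]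
  rw [← map_inv, ← map_mul, ← map_mul]
  rfl

instance normal_Qa : (Qa D).Normal := by
  refine ⟨fun q hq g => ?_⟩
  obtain ⟨s, rfl⟩ := hq
  obtain ⟨t, i, rfl⟩ := bar_surj D g
  obtain ⟨u, hu⟩ := bar_conj_mem D (sX D t * rX D ^ i) s
  exact ⟨u, hu.symm⟩

theorem isPGroup_Qa : IsPGroup 2 ↥(Qa D) := by
  refine (isPGroup_S D).of_surjective
    { toFun := fun s => ⟨bar D (sX D s), s, rfl⟩
      map_one' := Subtype.ext (bar_one D)
      map_mul' := fun s t => Subtype.ext (bar_mul D (sX D s) (sX D t)) } ?_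
  rintro ⟨_, s, rfl⟩
  exact ⟨s, rfl⟩

theorem commute_bar_iff (x y : ↥D.X) :
    bar D x * bar D y = bar D y * bar D x ↔
      (((x : G) * y)⁻¹ * ((y : G) * x) ∈ D.W0) := by
  rw [← bar_mul, ← bar_mul, bar_eq_iff]
  rfl

theorem centralizer_Qa : Subgroup.centralizer (Qa D : Set (↥(Ca D) ⧸ Na D)) ≤ Qa D := by
  intro q hq
  obtain ⟨s, i, rfl⟩ := bar_surj D q
  obtain ⟨t, ht, htA⟩ := exists_not_zInv D
  have h1 := Subgroup.mem_centralizer_iff.1 hq _ (⟨⟨t, ht⟩, rfl⟩ : bar D (sX D ⟨t, ht⟩) ∈ Qa D)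
  rw [commute_bar_iff] at h1
  simp only [Subgroup.coe_mul, sX, rX, SubmonoidClass.coe_pow] at h1
  set x := (s : G) * D.r ^ i with hx
  have hxX : x ∈ D.X := D.X.mul_mem (S_le_X D s.2) (D.X.pow_mem (r_mem_X D) i)
  have h2 : x⁻¹ * t⁻¹ * x * t ∈ D.S := by
    have := conj_mem_S D (inv_mem hxX) (D.S.inv_mem ht)
    rw [inv_inv] at this
    exact D.S.mul_mem this ht
  have h3 : t * x = x * t := by
    rw [show (t * x)⁻¹ * (x * t) = x⁻¹ * t⁻¹ * x * t by group] at h1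
    have h4 := eq_one_of_odd_of_mem D h2 (odd_of_mem D.W0_odd h1)
    calc t * x = t * x * 1 := (mul_one _).symm
      _ = t * x * (x⁻¹ * t⁻¹ * x * t) := by rw [h4]
      _ = x * t := by group
  have hfix : D.r ^ i * t * (D.r ^ i)⁻¹ * t⁻¹ = (s : G)⁻¹ * t * s * t⁻¹ := by
    have : D.r ^ i * t * (D.r ^ i)⁻¹ = (s : G)⁻¹ * (x * t) * (D.r ^ i)⁻¹ := by rw [hx]; group
    rw [this, ← h3, hx]; group
  have hi : 5 ∣ i := dvd_of_fix D ht htA (by
    rw [hfix]
    have := (mem_center_iff D _).1 (D.herm.cm_mem s⁻¹ ⟨t, ht⟩)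
    simpa [InvCharSixtyFour.cm] using this)
  rw [bar_mul, bar_pow_eq D (j := 0) (by omega), pow_zero, show bar D (1 : ↥D.X) = 1 by simp [bar],
    mul_one]
  exact ⟨s, rfl⟩

theorem card_centralizer_pow {k : ℕ} (hk : ¬ 5 ∣ k) :
    Nat.card (Subgroup.centralizer ({bar D (rX D ^ k)} : Set (↥(Ca D) ⧸ Na D))) = 20 := by
  have key : ∀ (s : ↥D.S) (i : ℕ),
      bar D (sX D s * rX D ^ i) * bar D (rX D ^ k) = bar D (rX D ^ k) * bar D (sX D s * rX D ^ i) ↔
        (s : G) ∈ zInv D.S := by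
    intro s i
    rw [commute_bar_iff]
    simp only [Subgroup.coe_mul, sX, rX, SubmonoidClass.coe_pow]
    have hc : D.r ^ i * D.r ^ k = D.r ^ k * D.r ^ i := by rw [← pow_add, ← pow_add, add_comm]
    refine ⟨fun h => ?_, fun h => ?_⟩
    · set v := (s : G)⁻¹ * (D.r ^ k * s * (D.r ^ k)⁻¹) with hv
      have hvS : v ∈ D.S :=
        D.S.mul_mem (D.S.inv_mem s.2) (conj_mem_S D (D.X.pow_mem (r_mem_X D) k) s.2)
      have e : ((s : G) * D.r ^ i * D.r ^ k)⁻¹ * (D.r ^ k * ((s : G) * D.r ^ i)) =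
          (D.r ^ k * D.r ^ i)⁻¹ * v * (D.r ^ k * D.r ^ i) := by
        rw [mul_assoc (s : G), hc, hv]; group
      rw [e] at h
      have hxX : D.r ^ k * D.r ^ i ∈ D.X :=
        D.X.mul_mem (D.X.pow_mem (r_mem_X D) k) (D.X.pow_mem (r_mem_X D) i)
      have hvW : v ∈ D.W0 := by
        have h' := (Subgroup.mem_normalizer_iff.1 (D.X_norm_W0 hxX) _).1 h
        rwa [show D.r ^ k * D.r ^ i * ((D.r ^ k * D.r ^ i)⁻¹ * v * (D.r ^ k * D.r ^ i)) *
          (D.r ^ k * D.r ^ i)⁻¹ = v by group] at h'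
      have hv1 := eq_one_of_odd_of_mem D hvS (odd_of_mem D.W0_odd hvW)
      by_contra hsA
      refine hk (dvd_of_fix D s.2 hsA ?_)
      rw [show D.r ^ k * (s : G) * (D.r ^ k)⁻¹ * (s : G)⁻¹ = (s : G) * v * (s : G)⁻¹ by
        rw [hv]; group, hv1, mul_one, mul_inv_cancel]
      exact one_mem _
    · have hk' := X_comm D (D.X.pow_mem (r_mem_X D) k) h
      have e : D.r ^ k * ((s : G) * D.r ^ i) = (s : G) * D.r ^ i * D.r ^ k := by
        rw [← mul_assoc, hk', mul_assoc, ← hc, mul_assoc]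
      rw [e, inv_mul_cancel]
      exact D.W0.one_mem
  rw [show 20 = Nat.card (↥(zInv D.S) × Fin 5) by rw [Nat.card_prod, card_zInv D, Nat.card_fin]]
  let f : ↥(zInv D.S) × Fin 5 →
      ↥(Subgroup.centralizer ({bar D (rX D ^ k)} : Set (↥(Ca D) ⧸ Na D))) := fun p =>
    ⟨param D (⟨p.1.1, p.1.2.1⟩, p.2),
      Subgroup.mem_centralizer_singleton_iff.2 ((key _ _).2 p.1.2)⟩
  refine (Nat.card_congr (Equiv.ofBijective f ?_)).symm
  refine ⟨fun p q h => ?_, fun q => ?_⟩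
  · have h' := (param_bijective D).1 (congrArg Subtype.val h)
    simp only [Prod.mk.injEq, Subtype.mk.injEq] at h'
    exact Prod.ext (Subtype.ext h'.1) h'.2
  · obtain ⟨⟨s, i⟩, hsi⟩ := (param_bijective D).2 q.1
    have hq := Subgroup.mem_centralizer_singleton_iff.1 q.2
    rw [← hsi] at hq
    exact ⟨(⟨s, (key s i).1 hq⟩, i), Subtype.ext hsi⟩

theorem not_isConj_bar {i j : ℕ} (h : IsConj (bar D (rX D ^ i)) (bar D (rX D ^ j))) :
    i % 5 = j % 5 := by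
  obtain ⟨g, hg⟩ := isConj_iff.1 h
  obtain ⟨s, n, rfl⟩ := bar_surj D g
  rw [mul_inv_eq_iff_eq_mul, ← bar_mul, ← bar_mul] at hg
  set s' : ↥D.S := ⟨D.r ^ j * s * (D.r ^ j)⁻¹, conj_mem_S D (D.X.pow_mem (r_mem_X D) j) s.2⟩
  have e : rX D ^ j * (sX D s * rX D ^ n) = sX D s' * rX D ^ (j + n) := Subtype.ext (by
    simp only [Subgroup.coe_mul, sX, rX, SubmonoidClass.coe_pow, s', pow_add]; group)
  rw [e, mul_assoc, ← pow_add] at hg
  have := (eq_of_bar_eq D hg).2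
  omega

variable [Fintype G] {M : Ideal AlgInt}

open scoped Classical in
/-- The columns of the principal block at the elements `a r^k`. -/
theorem inner_a_pow (hM : IsPModular 2 M) (i j : ℕ) :
    ∑ χ ∈ Finset.univ.filter (· ∈ principalBlock M G),
        conj ((χ : G → ℂ) (D.a 0 * D.r ^ i)) * (χ : G → ℂ) (D.a 0 * D.r ^ j) =
      if i % 5 = j % 5 then (if 5 ∣ i then 320 else 20) else 0 := by
  haveI : Fact (Nat.Prime 2) := ⟨Nat.prime_two⟩
  letI := Fintype.ofFinite ↥(Ca D)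
  have hmem : ∀ n : ℕ, D.r ^ n ∈ Ca D := fun n => X_le_Ca D (D.X.pow_mem (r_mem_X D) n)
  have hodd : ∀ n : ℕ, ¬ 2 ∣ orderOf (⟨D.r ^ n, hmem n⟩ : ↥(Ca D)) := fun n => by
    rw [Subgroup.orderOf_mk]
    exact Nat.two_dvd_ne_zero.2 (Nat.odd_iff.1 ((r_odd D).of_dvd_nat (orderOf_pow_dvd n)))
  have hN : ¬ 2 ∣ Nat.card ↥(Na D) := Nat.two_dvd_ne_zero.2 (Nat.odd_iff.1 (odd_Na D))
  rw [principal_section_inner hM (two_pow_a D 0) (y := ⟨_, hmem i⟩) (y' := ⟨_, hmem j⟩) (hodd i) (hodd j),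
    principal_inner_of_quotient hM (Na D) hN (Qa D) (isPGroup_Qa D) (centralizer_Qa D)]
  have ebar : ∀ n : ℕ, ((⟨D.r ^ n, hmem n⟩ : ↥(Ca D)) : ↥(Ca D) ⧸ Na D) = bar D (rX D ^ n) :=
    fun n => congrArg (QuotientGroup.mk' (Na D)) (Subtype.ext (by simp [rX]))
  rw [ebar i, ebar j]
  split_ifs with hc hm h5 hm' h5'
  · have h1 : bar D (rX D ^ j) = 1 := by
      rw [bar_pow_eq D (j := 0) (by omega)]; simp [bar]
    rw [h1, show Subgroup.centralizer ({1} : Set (↥(Ca D) ⧸ Na D)) = ⊤ from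
      eq_top_iff.2 fun g _ => Subgroup.mem_centralizer_singleton_iff.2 (by simp),
      Subgroup.card_top, card_quot D]
    norm_num
  · rw [card_centralizer_pow D (k := j) (by omega)]
    norm_num
  · exact absurd (not_isConj_bar D hc).symm hm
  · exact absurd (bar_pow_eq D hm' ▸ IsConj.refl _) hc
  · exact absurd (bar_pow_eq D hm' ▸ IsConj.refl _) hc
  · rfl

end CfsgLib.UFour73.BlockAux
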