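import Cfsg.Agent.Lib.UFour73.BlockTwist
import Cfsg.Agent.Lib.UFour73.BlockColumns
import Cfsg.Agent.Lib.PiHom.UnitaryChars
import Cfsg.Agent.Lib.BlockCover.Regular

/-!
# The principal 2-block of a `Setting`: everything except the class equations
-/

set_option autoImplicit false
set_option linter.style.haveILetI false
set_option linter.unusedSectionVars false

namespace CfsgLib.UFour73

open Cfsg CfsgLib.Characters CfsgLib.Blocks
open CfsgLib.PiHom (zInv)
open scoped ComplexConjugate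

universe u

open scoped Classical in
/-- The principal block supplies the local values, their inner products and the Galois twist. -/
theorem exists_blockData {G : Type u} [Group G] [Fintype G] (D : Setting G) :
    ∃ (ι : Type u) (_ : Fintype ι) (_ : DecidableEq ι) (ζ : ℂ) (χ : ι → G → ℂ) (one : ι)
      (n γ : ι → ℤ) (m : Fin 5 → ι → ℤ) (σ : Equiv.Perm ι),
      IsPrimitiveRoot ζ 5 ∧ Function.Injective χ ∧ (∀ i, Cfsg.IsIrrCharacter G (χ i)) ∧
      (∀ i, i ≠ one → χ i ≠ fun _ => 1) ∧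
      (∀ i, LocalValues D.toLocal ζ (χ i) (n i) (γ i) (fun j => m j i)) ∧
      n one = 1 ∧ γ one = 1 ∧ (∀ j, m j one = if j = 0 then 1 else 0) ∧
      (∀ i, i ≠ one → 1 < n i) ∧
      (∀ j l, ∑ i, m j i * m l i = 1 + if j = l then 4 else 0) ∧
      ∑ i, γ i * γ i = 16 ∧ (∀ j, ∑ i, m j i * γ i = 4) ∧ (∀ j, ∑ i, n i * m j i = 0) ∧
      σ one = one ∧ (∀ i, n (σ i) = n i) ∧ (∀ i, γ (σ i) = γ i) ∧
      (∀ i j, m j (σ i) = m (Arith.dbl j) i) ∧
      (∀ i j, kC D.toLocal ζ (χ (σ i)) j = kC D.toLocal ζ (χ i) (Arith.dbl j)) ∧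
      (∀ i j, lC D.toLocal ζ (χ (σ i)) j = lC D.toLocal ζ (χ i) (Arith.dbl j)) := by
  haveI := D.simple
  haveI : Fact (Nat.Prime 2) := ⟨Nat.prime_two⟩
  obtain ⟨M, hM⟩ := BlockCover.exists_isPModular (p := 2) Nat.prime_two
  obtain ⟨ζ, hζ⟩ : ∃ ζ : ℂ, IsPrimitiveRoot ζ 5 := ⟨_, Complex.isPrimitiveRoot_exp 5 (by norm_num)⟩
  obtain ⟨x0, hx0, hx0A⟩ := BlockAux.exists_not_zInv D
  let ι := {χ : IrrCharacter G // χ ∈ principalBlock M G}
  have hsub : ∀ {R : Type} [AddCommMonoid R] (f : IrrCharacter G → R),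
      ∑ i : ι, f i.1 = ∑ χ ∈ Finset.univ.filter (· ∈ principalBlock M G), f χ := fun f =>
    (Finset.sum_subtype _ (fun χ => Finset.mem_filter_univ χ) f).symm
  -- integers
  choose α hα using fun i : ι => BlockAux.exists_int_a D i.1
  choose γ hγ using fun i : ι => BlockAux.exists_int_four D i.1 hx0 hx0A
  let n : ι → ℤ := fun i => (charDegree (i.1 : G → ℂ) : ℤ)
  have hn : ∀ i : ι, (i.1 : G → ℂ) 1 = n i := fun i => by
    rw [LinearTwist.apply_one_eq_charDegree (irr_isCharacter i.1)]; simp [n]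
  have hval4 : ∀ (i : ι), ∀ s ∈ D.S, s ∉ zInv D.S → (i.1 : G → ℂ) s = γ i := fun i s hs hsA =>
    (BlockAux.apply_four D i.1 hs hsA hx0 hx0A).trans (hγ i)
  let b : ι → ℕ → ℂ := fun i k => (i.1 : G → ℂ) (D.a 0 * D.r ^ k)
  have hb0 : ∀ i, b i 0 = α i := fun i => by simp [b, hα]
  have hbmod : ∀ i k, b i k = b i (k % 5) := fun i k => BlockAux.apply_a_pow D hM i.2 k
  choose t ht using fun (i : ι) (j : Fin 5) =>
    BlockAux.exists_int_fourier D hM i.2 hζ (4 * (j : ℕ))
  change ∀ (i : ι) (j : Fin 5),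
    ∑ k : Fin 5, b i k * ζ ^ (4 * (j : ℕ) * (k : ℕ)) = 5 * (t i j : ℂ) at ht
  have h4 : ∀ i : ι, (4 : ℤ) ∣ γ i - α i := fun i => BlockAux.four_dvd D i.1 (hα i) (hval4 i)
  let m : Fin 5 → ι → ℤ := fun j i => t i j + (γ i - α i) / 4
  have hm : ∀ j i, 4 * m j i = 4 * t i j + γ i - α i := fun j i => by
    have := h4 i; simp only [m]; omega
  have hpow : ∀ k, ζ ^ (k % 5) = ζ ^ k := fun k => by
    conv_rhs => rw [← Nat.mod_add_div k 5, pow_add, pow_mul, hζ.pow_eq_one, one_pow, mul_one]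
  -- inversion
  have hinv : ∀ i (k : ℕ), ∑ j : Fin 5, (t i j : ℂ) * ζ ^ ((j : ℕ) * k) = b i k := by
    intro i k
    apply mul_left_cancel₀ (show (5 : ℂ) ≠ 0 by norm_num)
    rw [Finset.mul_sum]
    simp only [← mul_assoc, ← ht, Finset.sum_mul]
    rw [Finset.sum_comm]
    have : ∀ l : Fin 5, ∑ j : Fin 5, b i l * ζ ^ (4 * (j : ℕ) * (l : ℕ)) * ζ ^ ((j : ℕ) * k) =
        if (l : ℕ) = k % 5 then 5 * b i l else 0 := fun l => by
      simp only [mul_assoc (b i _), ← pow_add, ← Finset.mul_sum]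
      rw [Finset.sum_congr rfl (g := fun j : Fin 5 => ζ ^ ((4 * (l : ℕ) + k) * (j : ℕ)))
        fun j _ => by congr 1; ring, BlockAux.sum_pow_mul hζ]
      have := l.2
      rcases Decidable.em ((l : ℕ) = k % 5) with h | h
      · rw [if_pos h, if_pos (by omega), mul_comm]
      · rw [if_neg h, if_neg (by omega), mul_zero]
    rw [Finset.sum_congr rfl fun l _ => this l,
      Finset.sum_eq_single (⟨k % 5, Nat.mod_lt _ (by norm_num)⟩ : Fin 5), if_pos rfl, ← hbmod]
    · exact fun l _ hl => if_neg fun h => hl (Fin.ext h)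
    · simp
  have hsumt : ∀ i, ∑ j, t i j = α i := fun i => by
    have h := hinv i 0
    simp only [mul_zero, pow_zero, mul_one, hb0] at h
    exact_mod_cast h
  have hsumm : ∀ i, 4 * ∑ j, m j i = 5 * γ i - α i := fun i => by
    rw [Finset.mul_sum, Finset.sum_congr rfl fun j _ => hm j i, Finset.sum_sub_distrib,
      Finset.sum_add_distrib, ← Finset.mul_sum, hsumt]
    simp; ring
  -- local values
  have hvals : ∀ i : ι, LocalValues D.toLocal ζ (i.1 : G → ℂ) (n i) (γ i) (fun j => m j i) := by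
    intro i
    refine ⟨fun l g hg he u hu => BlockAux.fixed_apply D hM i.2 l hg he hu, hn i, fun l => ?_,
      hval4 i, fun k hk => ?_⟩
    · rw [BlockAux.apply_a D i.1 l, hα i]
      congr 1
      have := hsumm i
      omega
    · have hz := BlockAux.sum_pow_mul hζ k
      rw [if_neg hk] at hz
      show b i k = _
      rw [← hinv i k]
      have e : ∀ j : Fin 5, (m j i : ℂ) * ζ ^ ((j : ℕ) * k) =
          (t i j : ℂ) * ζ ^ ((j : ℕ) * k) + (((γ i - α i) / 4 : ℤ) : ℂ) * ζ ^ (k * (j : ℕ)) :=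
        fun j => by simp only [m, Int.cast_add, add_mul, mul_comm (j : ℕ) k]
      rw [Finset.sum_congr rfl fun j _ => e j, Finset.sum_add_distrib, ← Finset.mul_sum, hz,
        mul_zero, add_zero]
  -- columns
  have hcol : ∀ k l : ℕ, ∑ i : ι, conj (b i k) * b i l =
      if k % 5 = l % 5 then (if 5 ∣ k then 320 else 20) else 0 := fun k l =>
    (hsub fun χ => conj ((χ : G → ℂ) (D.a 0 * D.r ^ k)) * (χ : G → ℂ) (D.a 0 * D.r ^ l)).trans
      (BlockAux.inner_a_pow D hM k l)
  have hppa : ∀ k : ℕ, IsPPart 2 (D.a 0 * D.r ^ k) (D.a 0) := fun k =>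
    isPPart_mul ((Commute.pow_left (BlockAux.X_comm D (BlockAux.r_mem_X D) (D.a_mem 0) :
      Commute D.r (D.a 0)) k).symm) (BlockAux.two_pow_a D 0) (Nat.two_dvd_ne_zero.2
        (Nat.odd_iff.1 ((BlockAux.r_odd D).of_dvd_nat (orderOf_pow_dvd k))))
  have hpp : ∀ g : G, (∃ j : ℕ, orderOf g = 2 ^ j) → IsPPart 2 g g := fun g hg => by
    have := Blocks.isPPart_mul (p := 2) (Commute.one_right g) hg (by rw [orderOf_one]; norm_num)
    rwa [mul_one] at this
  have h1pp : IsPPart 2 (1 : G) 1 := hpp 1 ⟨0, by simp⟩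
  have hx0pp : IsPPart 2 x0 x0 := hpp x0 (BlockAux.two_pow_of_mem D hx0)
  have hordne : ∀ g : G, orderOf g ≠ 2 → ¬ IsConj (D.a 0) g := fun g hg h => by
    obtain ⟨c, rfl⟩ := isConj_iff.1 h
    exact hg ((orderOf_injective (MulAut.conj c).toMonoidHom (MulAut.conj c).injective _).trans
      (BlockAux.orderOf_a D 0))
  have hbγ : ∀ k, ∑ i : ι, b i k * (γ i : ℂ) = 0 := fun k => by
    have h := sum_block_eq_zero_of_not_isConj hM (isPBlock_principalBlock M) (hppa k) hx0pp
      (hordne x0 (by rw [BlockAux.orderOf_four D hx0 hx0A]; norm_num))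
    rw [← hsub] at h
    simpa only [irr_apply_inv, hγ, map_intCast] using h
  have hbn : ∀ k, ∑ i : ι, b i k * (n i : ℂ) = 0 := fun k => by
    have h := sum_block_eq_zero_of_not_isConj hM (isPBlock_principalBlock M) (hppa k) h1pp
      (hordne 1 (by rw [orderOf_one]; norm_num))
    rw [← hsub] at h
    simpa only [irr_apply_inv, hn, map_intCast] using h
  have hγn : ∑ i : ι, γ i * n i = 0 := by
    have h := sum_block_eq_zero_of_not_isConj hM (isPBlock_principalBlock M) hx0pp h1pp fun h => by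
      obtain ⟨c, hc⟩ := isConj_iff.1 h
      exact hx0A ((conj_eq_one_iff.1 hc) ▸ one_mem _)
    rw [← hsub] at h
    simp only [irr_apply_inv, hn, hγ, map_intCast] at h
    exact_mod_cast h
  have hγγ : ∑ i : ι, γ i * γ i = 16 := by
    obtain ⟨O, hO⟩ := BlockAux.exists_twoCompl D hx0 hx0A
    have h := hO.principal_norm hM (BlockAux.two_pow_of_mem D hx0)
    simp only [Set.indicator_apply, ← Finset.sum_filter] at h
    rw [← hsub] at h
    simp only [hγ, map_intCast] at h
    exact_mod_cast h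
  have hαγ : ∑ i : ι, α i * γ i = 0 := by
    have h := hbγ 0
    simp only [hb0] at h
    exact_mod_cast h
  have hαn : ∑ i : ι, α i * n i = 0 := by
    have h := hbn 0
    simp only [hb0] at h
    exact_mod_cast h
  have hαα : ∑ i : ι, α i * α i = 320 := by
    have h := hcol 0 0
    simp only [hb0, map_intCast] at h
    norm_num at h
    exact_mod_cast h
  have hzero : ∀ (f : ι → ℤ), (∀ k, ∑ i : ι, b i k * (f i : ℂ) = 0) →
      ∀ j, ∑ i, t i j * f i = 0 := fun f hf j => by
    have h : (5 : ℂ) * ∑ i, (t i j : ℂ) * (f i : ℂ) = 0 := by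
      rw [Finset.mul_sum]
      simp only [← mul_assoc, ← ht, Finset.sum_mul]
      rw [Finset.sum_comm]
      refine Finset.sum_eq_zero fun k _ => ?_
      rw [Finset.sum_congr rfl fun i _ => show b i k * ζ ^ (4 * (j : ℕ) * (k : ℕ)) * (f i : ℂ) =
        ζ ^ (4 * (j : ℕ) * (k : ℕ)) * (b i k * (f i : ℂ)) by ring, ← Finset.mul_sum, hf, mul_zero]
    exact_mod_cast (mul_eq_zero.1 h).resolve_left (by norm_num)
  have hαt : ∀ j, ∑ i, t i j * α i = 64 := fun j => by
    have h : (5 : ℂ) * ∑ i, (t i j : ℂ) * (α i : ℂ) = 320 := by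
      rw [Finset.mul_sum]
      simp only [← mul_assoc, ← ht, Finset.sum_mul]
      rw [Finset.sum_comm, Finset.sum_eq_single (0 : Fin 5)]
      · have hc := hcol 0 0
        simp only [hb0, map_intCast] at hc
        norm_num at hc
        simpa [hb0] using hc
      · intro k _ hk
        rw [Finset.sum_congr rfl fun i _ => show b i k * ζ ^ (4 * (j : ℕ) * (k : ℕ)) * (α i : ℂ) =
          ζ ^ (4 * (j : ℕ) * (k : ℕ)) * (conj (b i 0) * b i k) by rw [hb0, map_intCast]; ring,
          ← Finset.mul_sum, hcol, if_neg, mul_zero]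
        have := k.2
        have : (k : ℕ) ≠ 0 := fun h => hk (Fin.ext h)
        omega
      · simp
    have h' : ((5 * ∑ i, t i j * α i : ℤ) : ℂ) = ((320 : ℤ) : ℂ) := by push_cast; exact h
    have := Int.cast_injective h'
    omega
  have hconj : conj ζ = ζ ^ 4 := by
    have hn1 : ‖ζ‖ = 1 := hζ.norm'_eq_one (by norm_num)
    rw [← Complex.inv_eq_conj hn1]
    exact inv_eq_of_mul_eq_one_right (by rw [← pow_succ', hζ.pow_eq_one])
  have htt : ∀ j l, ∑ i, t i j * t i l = 12 + if j = l then 4 else 0 := fun j l => by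
    have h : ∑ i, conj ((5 : ℂ) * (t i j : ℂ)) * (5 * (t i l : ℂ)) =
        300 + 20 * (if j = l then 5 else 0) := by
      simp only [← ht, map_sum, map_mul, map_pow, hconj, ← pow_mul, Finset.sum_mul_sum]
      rw [Finset.sum_comm]
      have e : ∀ k : Fin 5, ∑ i : ι, ∑ k' : Fin 5, conj (b i k) * ζ ^ (4 * (4 * (j : ℕ) * (k : ℕ))) *
          (b i k' * ζ ^ (4 * (l : ℕ) * (k' : ℕ))) =
            (if (k : ℕ) = 0 then 300 else 0) + 20 * ζ ^ ((16 * (j : ℕ) + 4 * (l : ℕ)) * (k : ℕ)) :=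
        fun k => by
        rw [Finset.sum_comm, Finset.sum_eq_single k]
        · rw [Finset.sum_congr rfl fun i _ => show conj (b i k) * ζ ^ (4 * (4 * (j : ℕ) * (k : ℕ))) *
              (b i k * ζ ^ (4 * (l : ℕ) * (k : ℕ))) =
              ζ ^ ((16 * (j : ℕ) + 4 * (l : ℕ)) * (k : ℕ)) * (conj (b i k) * b i k) by ring,
            ← Finset.mul_sum, hcol, if_pos rfl]
          have := k.2
          by_cases hk : (k : ℕ) = 0
          · rw [if_pos hk, if_pos (by omega), hk, mul_zero, pow_zero]; norm_num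
          · rw [if_neg hk, if_neg (by omega)]; ring
        · intro k' _ hk'
          rw [Finset.sum_congr rfl fun i _ => show conj (b i k) * ζ ^ (4 * (4 * (j : ℕ) * (k : ℕ))) *
              (b i k' * ζ ^ (4 * (l : ℕ) * (k' : ℕ))) =
              ζ ^ (4 * (4 * (j : ℕ) * (k : ℕ))) * ζ ^ (4 * (l : ℕ) * (k' : ℕ)) *
                (conj (b i k) * b i k') by ring, ← Finset.mul_sum, hcol, if_neg, mul_zero]
          have := k.2
          have := k'.2
          exact fun h => hk' (Fin.ext (by omega))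
        · simp
      rw [Finset.sum_congr rfl fun k _ => e k, Finset.sum_add_distrib, ← Finset.mul_sum,
        BlockAux.sum_pow_mul hζ,
        show (∑ x : Fin 5, if (x : ℕ) = 0 then (300 : ℂ) else 0) = 300 by simp]
      congr 2
      have := j.2
      have := l.2
      exact if_congr ⟨fun h => Fin.ext (by omega), fun h => by subst h; omega⟩ rfl rfl
    simp only [map_mul, map_intCast, Complex.conj_ofNat] at h
    have h' : ((25 * ∑ i, t i j * t i l : ℤ) : ℂ) =
        ((300 + 20 * (if j = l then 5 else 0) : ℤ) : ℂ) := by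
      rw [Finset.mul_sum]
      push_cast
      rw [← h]
      exact Finset.sum_congr rfl fun i _ => by ring
    have := Int.cast_injective h'
    split_ifs at this ⊢ <;> omega
  have htγ := hzero γ hbγ
  have htn := hzero n hbn
  -- Galois
  obtain ⟨e, r', hr', hN⟩ :=
    Nat.exists_eq_pow_mul_and_not_dvd (Nat.card_pos (α := G)).ne' 5 (by norm_num)
  obtain ⟨K, hK5, hKr⟩ :=
    Nat.chineseRemainder (Nat.prime_five.coprime_iff_not_dvd.2 hr') 3 1
  have hK5' : K % 5 = 3 := hK5
  have hK : K.Coprime (Nat.card G) := by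
    rw [hN]
    refine Nat.Coprime.mul_right (Nat.Coprime.pow_right _ ?_) ?_
    · exact (Nat.prime_five.coprime_iff_not_dvd.2 (by omega)).symm
    · show Nat.gcd K r' = 1
      rw [hKr.gcd_eq, Nat.gcd_one_left]
  have hKodd : Odd K := Nat.coprime_two_right.1 (hK.coprime_dvd_right (BlockAux.two_dvd_card D))
  let σ : Equiv.Perm ι := Equiv.ofBijective
    (fun i : ι => ⟨BlockAux.powChar hK i.1, BlockAux.powChar_mem hM hK i.2⟩)
    (Finite.injective_iff_bijective.1 fun i i' h =>
      Subtype.ext ((BlockAux.powChar_bijective hK).1 (congrArg Subtype.val h)))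
  have hσ : ∀ (i : ι) (g : G), ((σ i).1 : G → ℂ) g = (i.1 : G → ℂ) (g ^ K) := fun _ _ => rfl
  have hσn : ∀ i, n (σ i) = n i := fun i => by
    have h := hn (σ i)
    rw [hσ, one_pow, hn i] at h
    exact (Int.cast_injective h).symm
  have hσγ : ∀ i, γ (σ i) = γ i := fun i => by
    have h := hγ (σ i)
    rw [hσ, hval4 i (x0 ^ K) (pow_mem hx0 K)] at h
    · exact (Int.cast_injective h).symm
    · intro hz
      obtain ⟨q, rfl⟩ := hKodd
      rw [pow_succ, pow_mul, pow_two] at hz
      exact hx0A ((Subgroup.mul_mem_cancel_left _ (pow_mem (BlockAux.sq_mem D hx0) q)).1 hz)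
  have hbσ : ∀ i k, b (σ i) k = b i (3 * k % 5) := fun i k => by
    show (i.1 : G → ℂ) ((D.a 0 * D.r ^ k) ^ K) = _
    have hc : Commute (D.a 0) (D.r ^ k) := ((Commute.pow_left
      (BlockAux.X_comm D (BlockAux.r_mem_X D) (D.a_mem 0) : Commute D.r (D.a 0)) k)).symm
    have hak : D.a 0 ^ K = D.a 0 := by
      obtain ⟨q, rfl⟩ := hKodd
      rw [pow_succ, pow_mul, pow_two, (D.a_mem 0).2.1, one_pow, one_mul]
    rw [hc.mul_pow, hak, ← pow_mul]
    show b i (k * K) = _
    rw [hbmod, Nat.mul_mod, hK5', mul_comm 3 k, Nat.mul_mod k 3]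
  have hσα : ∀ i, α (σ i) = α i := fun i => by
    have h := hb0 (σ i)
    rw [hbσ, mul_zero, Nat.zero_mod, hb0] at h
    exact (Int.cast_injective h).symm
  have hσt : ∀ i j, t (σ i) j = t i (Arith.dbl j) := fun i j => by
    have h : (5 : ℂ) * (t (σ i) j : ℂ) = 5 * (t i (Arith.dbl j) : ℂ) := by
      rw [← ht, ← ht]
      refine Fintype.sum_bijective (fun k : Fin 5 => 3 * k) (by decide) _ _ fun k => ?_
      rw [hbσ, ← hpow (4 * (j : ℕ) * (k : ℕ)), ← hpow (4 * ((Arith.dbl j : Fin 5) : ℕ) * _),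
        Fin.val_mul, Arith.dbl, Fin.val_mul]
      show b i (3 * (k : ℕ) % 5) * _ = b i (3 * (k : ℕ) % 5) *
        ζ ^ (4 * (2 * (j : ℕ) % 5) * (3 * (k : ℕ) % 5) % 5)
      congr 2
      exact (by decide : ∀ j k : Fin 5, 4 * (j : ℕ) * (k : ℕ) % 5 =
        4 * (2 * (j : ℕ) % 5) * (3 * (k : ℕ) % 5) % 5) j k
    exact Int.cast_injective (mul_left_cancel₀ (by norm_num) h)
  let one : ι := ⟨principalIrr G, principalIrr_mem hM⟩
  have hone : ∀ g : G, (one.1 : G → ℂ) g = 1 := fun _ => rfl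
  have hnone : n one = 1 := by
    have h := hn one
    rw [hone] at h
    exact_mod_cast h.symm
  have hγone : γ one = 1 := by
    have h := hγ one
    rw [hone] at h
    exact_mod_cast h.symm
  have hαone : α one = 1 := by
    have h := hα one
    rw [hone] at h
    exact_mod_cast h.symm
  have hmone : ∀ j, m j one = if j = 0 then 1 else 0 := fun j => by
    have h := ht one j
    simp only [b, hone, one_mul] at h
    rw [BlockAux.sum_pow_mul hζ] at h
    have hiff : 5 ∣ 4 * (j : ℕ) ↔ j = 0 :=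
      ⟨fun h => Fin.ext (by have := j.2; simp; omega), fun h => by subst h; simp⟩
    rw [if_congr hiff rfl rfl] at h
    have h' : t one j = if j = 0 then 1 else 0 := by
      split_ifs at h ⊢
      · exact_mod_cast (mul_eq_left₀ (show (5 : ℂ) ≠ 0 by norm_num)).1 h.symm
      · exact_mod_cast (mul_eq_zero.1 h.symm).resolve_left (by norm_num)
    have := hm j one
    rw [hγone, hαone, h'] at this
    omega
  refine ⟨ι, inferInstance, inferInstance, ζ, fun i => (i.1 : G → ℂ), one, n, γ, m, σ, hζ,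
    fun i i' h => Subtype.ext (Subtype.ext h), fun i => i.1.2,
    fun i hi h => hi (Subtype.ext (Subtype.ext h)), hvals, hnone, hγone, hmone, fun i hi => ?_,
    fun j l => ?_, hγγ, fun j => ?_, fun j => ?_, ?_, hσn, hσγ, fun i j => ?_, fun i j => ?_,
    fun i j => ?_⟩
  · have hne : charDegree (i.1 : G → ℂ) ≠ 1 := fun h =>
      hi (Subtype.ext (PiHom.linear_eq_principal D.nonab _ h))
    have := PrincipalSq.charDegree_pos i.1
    simp only [n]; omega
  · have h16 : 16 * ∑ i, m j i * m l i = 16 * (1 + if j = l then 4 else 0) := by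
      calc 16 * ∑ i, m j i * m l i = ∑ i, (4 * m j i) * (4 * m l i) := by
            rw [Finset.mul_sum]; exact Finset.sum_congr rfl fun i _ => by ring
        _ = 16 * ∑ i, t i j * t i l + 4 * ∑ i, t i j * γ i - 4 * ∑ i, t i j * α i +
            4 * ∑ i, t i l * γ i - 4 * ∑ i, t i l * α i + ∑ i, γ i * γ i -
            2 * ∑ i, α i * γ i + ∑ i, α i * α i := by
            simp only [Finset.mul_sum, ← Finset.sum_sub_distrib, ← Finset.sum_add_distrib]
            exact Finset.sum_congr rfl fun i _ => by rw [hm, hm]; ring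
        _ = _ := by rw [htt, htγ, htγ, hαt, hαt, hγγ, hαγ, hαα]; ring
    omega
  · have : 4 * ∑ i, m j i * γ i = 4 * ∑ i, t i j * γ i + ∑ i, γ i * γ i - ∑ i, α i * γ i := by
      simp only [Finset.mul_sum, ← Finset.sum_add_distrib, ← Finset.sum_sub_distrib]
      exact Finset.sum_congr rfl fun i _ => by rw [← mul_assoc, hm]; ring
    rw [htγ, hγγ, hαγ] at this
    omega
  · have : 4 * ∑ i, n i * m j i =
        4 * ∑ i, t i j * n i + ∑ i, γ i * n i - ∑ i, α i * n i := by
      simp only [Finset.mul_sum, ← Finset.sum_add_distrib, ← Finset.sum_sub_distrib]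
      exact Finset.sum_congr rfl fun i _ => by
        rw [mul_left_comm, hm]; ring
    rw [htn, hγn, hαn] at this
    omega
  · exact Subtype.ext (Subtype.ext (funext fun g => by rw [hσ, hone, hone]))
  · simp only [m, hσt, hσγ, hσα]
  · have hW := BlockAux.avg_twist D hK hK5' hζ (i.1 : G → ℂ) D.W0 le_rfl D.X_norm_W0
      (fun w hw _ => hw) j
    have hθ := BlockAux.avg_twist D hK hK5' hζ (i.1 : G → ℂ) (D.θ 0) (D.W0_le 0) (D.X_norm_θ 0)
      (fun w hw hwX => (D.θ_inf 0).le ⟨hw, hwX⟩) j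
    show avg D.toLocal ζ (fun g => (i.1 : G → ℂ) (g ^ K)) D.W0 j -
      avg D.toLocal ζ (fun g => (i.1 : G → ℂ) (g ^ K)) (D.θ 0) j = _
    rw [hW, hθ]
    rfl
  · exact BlockAux.avg_twist D hK hK5' hζ (i.1 : G → ℂ) (D.θ 0) (D.W0_le 0) (D.X_norm_θ 0)
      (fun w hw hwX => (D.θ_inf 0).le ⟨hw, hwX⟩) j

end CfsgLib.UFour73
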