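import Cfsg.Agent.Lib.Blocks.SectionNorm
import Cfsg.Agent.Lib.Blocks.SingleBlock
import Cfsg.Agent.Lib.Chars17.IrrBasic

/-!
# Two columns of the principal block inside one `p`-section

* `principal_apply_congr`: the principal block is constant on cosets of a normal `p'`-subgroup of
  `C(u)` inside the section of `u`;
* `principal_section_inner`: two columns in a section multiply as in the principal block of `C(u)`;
* `principal_inner_of_quotient`: if a normal `p'`-subgroup has a quotient with a self-centralising
  normal `p`-subgroup, the principal block is the quotient's character table.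
-/

set_option autoImplicit false
set_option linter.style.haveILetI false

namespace CfsgLib.UFour73

open Cfsg CfsgLib.Characters CfsgLib.Blocks
open scoped ComplexConjugate

universe u

variable {G : Type u} [Group G] [Fintype G] {p : ℕ} [Fact p.Prime] {M : Ideal AlgInt}

open scoped Classical in
/-- The principal block only sees `C(u)` modulo its normal `p'`-subgroups on the section of `u`. -/
theorem principal_apply_congr (hM : IsPModular p M) {u : G} (hu : ∃ k : ℕ, orderOf u = p ^ k)
    {N : Subgroup (Subgroup.centralizer ({u} : Set G))} [N.Normal] (hN : ¬ p ∣ Nat.card N)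
    {v w : Subgroup.centralizer ({u} : Set G)} (hv : ¬ p ∣ orderOf v) (hw : ¬ p ∣ orderOf w)
    (hvw : v⁻¹ * w ∈ N) {χ : IrrCharacter G}
    (hχ : χ ∈ principalBlock M G) : (χ : G → ℂ) (u * (w : G)) = (χ : G → ℂ) (u * (v : G)) := by
  letI := Fintype.ofFinite (Subgroup.centralizer ({u} : Set G))
  have key : ∀ y : Subgroup.centralizer ({u} : Set G), ¬ p ∣ orderOf y →
      blockPart (principalBlock M (Subgroup.centralizer ({u} : Set G))) (sectionFun u (χ : G → ℂ)) y =
        (χ : G → ℂ) (u * (y : G)) := fun y hy => by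
    rw [blockPart_principal_section hM hu hy χ, if_pos hχ]
  rw [← key v hv, ← key w hw, blockPart_eq_sum, blockPart_eq_sum]
  refine Finset.sum_congr rfl fun ξ hξ => ?_
  congr 1
  have hk := principalBlock_kernel hM (Finset.mem_filter.1 hξ).2 hN hvw
  obtain ⟨n, ρ, hρ, hχ'⟩ := ξ.2
  have h1 : ρ (v⁻¹ * w) = 1 := by
    rw [← CfsgLib.Chars17.character_eq_one_iff, hχ']; exact hk
  rw [← hχ', show w = v * (v⁻¹ * w) by group, Representation.character, Representation.character,
    map_mul, h1, mul_one]

open scoped Classical in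
/-- Two columns in one section multiply as in the principal block of the centraliser. -/
theorem principal_section_inner (hM : IsPModular p M) {z : G} (hz : ∃ k : ℕ, orderOf z = p ^ k)
    [Fintype (Subgroup.centralizer ({z} : Set G))] {y y' : Subgroup.centralizer ({z} : Set G)}
    (hy : ¬ p ∣ orderOf y) (hy' : ¬ p ∣ orderOf y') :
    ∑ ζ ∈ Finset.univ.filter (· ∈ principalBlock M G),
        conj ((ζ : G → ℂ) (z * (y : G))) * (ζ : G → ℂ) (z * (y' : G)) =
      ∑ χ ∈ Finset.univ.filter (· ∈ principalBlock M (Subgroup.centralizer ({z} : Set G))),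
        conj ((χ : Subgroup.centralizer ({z} : Set G) → ℂ) y) *
          (χ : Subgroup.centralizer ({z} : Set G) → ℂ) y' := by
  have hzy : ∀ c : (Subgroup.centralizer ({z} : Set G)), ¬ p ∣ orderOf c →
      IsPPart p (z * (c : G)) z := fun c hc =>
    isPPart_mul (commute_centralizer c) hz (by rwa [Subgroup.orderOf_coe])
  have heq : ∀ c : (Subgroup.centralizer ({z} : Set G)), ¬ p ∣ orderOf c →
      ∑ ζ : IrrCharacter G, conj ((ζ : G → ℂ) (z * (y : G))) * sectionFun z (ζ : G → ℂ) c =
        ∑ χ : IrrCharacter (Subgroup.centralizer ({z} : Set G)),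
          conj ((χ : (Subgroup.centralizer ({z} : Set G)) → ℂ) y) *
            (χ : (Subgroup.centralizer ({z} : Set G)) → ℂ) c := by
    intro c hc
    have h1 := column_orth (z * (c : G)) (z * (y : G))
    have h2 := column_orth c y
    have hiff : IsConj (z * (c : G)) (z * (y : G)) ↔ IsConj c y := by
      constructor
      · intro h
        obtain ⟨d, hd⟩ := isConj_iff.1 h
        have h3 := IsPPart.conj (hzy c hc) d
        rw [hd] at h3
        have h4 := IsPPart.unique hM.1 h3 (hzy y hy)
        have hdC : d ∈ (Subgroup.centralizer ({z} : Set G)) :=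
          Subgroup.mem_centralizer_singleton_iff.2 (mul_inv_eq_iff_eq_mul.1 h4)
        refine isConj_iff.2 ⟨⟨d, hdC⟩, Subtype.ext (mul_left_cancel (a := z) ?_)⟩
        rw [← hd]
        show z * (d * (c : G) * d⁻¹) = d * (z * (c : G)) * d⁻¹
        rw [← mul_assoc d z, mul_inv_eq_iff_eq_mul.1 h4]
        group
      · intro h
        obtain ⟨d, hd⟩ := isConj_iff.1 h
        refine isConj_iff.2 ⟨(d : G), ?_⟩
        rw [← hd]
        simp only [Subgroup.coe_mul, Subgroup.coe_inv]
        rw [← mul_assoc (d : G) z, ← (commute_centralizer d).eq]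
        group
    have hcard : Nat.card (Subgroup.centralizer ({z * (c : G)} : Set G)) =
        Nat.card (Subgroup.centralizer ({c} : Set (Subgroup.centralizer ({z} : Set G)))) := by
      have hmem : ∀ d ∈ Subgroup.centralizer ({z * (c : G)} : Set G),
          d ∈ (Subgroup.centralizer ({z} : Set G)) ∧ d * c = c * d := by
        intro d hd
        have hd' := Subgroup.mem_centralizer_singleton_iff.1 hd
        have h3 := IsPPart.conj (hzy c hc) d
        rw [mul_inv_eq_iff_eq_mul.2 hd'] at h3
        have h4 := mul_inv_eq_iff_eq_mul.1 (IsPPart.unique hM.1 h3 (hzy c hc))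
        refine ⟨Subgroup.mem_centralizer_singleton_iff.2 h4, mul_left_cancel (a := z) ?_⟩
        rw [← mul_assoc, ← h4, mul_assoc, hd', mul_assoc]
      refine Nat.card_congr
        { toFun := fun d => ⟨⟨d, (hmem d d.2).1⟩,
            Subgroup.mem_centralizer_singleton_iff.2 (Subtype.ext (hmem d d.2).2)⟩
          invFun := fun d => ⟨((d : (Subgroup.centralizer ({z} : Set G))) : G),
            Subgroup.mem_centralizer_singleton_iff.2 ?_⟩
          left_inv := fun d => rfl
          right_inv := fun d => rfl }
      have hd := congrArg Subtype.val (Subgroup.mem_centralizer_singleton_iff.1 d.2)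
      simp only [Subgroup.coe_mul] at hd
      rw [← mul_assoc, ← (commute_centralizer (d : (Subgroup.centralizer ({z} : Set G)))).eq,
        mul_assoc, hd, mul_assoc]
    calc ∑ ζ : IrrCharacter G, conj ((ζ : G → ℂ) (z * (y : G))) * sectionFun z (ζ : G → ℂ) c
        = ∑ ζ : IrrCharacter G, (ζ : G → ℂ) (z * (c : G)) * conj ((ζ : G → ℂ) (z * (y : G))) :=
          Finset.sum_congr rfl fun ζ _ => mul_comm _ _
      _ = ∑ χ : IrrCharacter (Subgroup.centralizer ({z} : Set G)),
            (χ : (Subgroup.centralizer ({z} : Set G)) → ℂ) c *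
              conj ((χ : (Subgroup.centralizer ({z} : Set G)) → ℂ) y) := by
          rw [h1, h2]
          by_cases hcy : IsConj c y
          · rw [if_pos (hiff.2 hcy), if_pos hcy, hcard]
          · rw [if_neg (fun h => hcy (hiff.1 h)), if_neg hcy]
      _ = _ := Finset.sum_congr rfl fun χ _ => mul_comm _ _
  have key := blockPart_congr_regular hM
    (B := (principalBlock M (Subgroup.centralizer ({z} : Set G)))) (isPBlock_principalBlock M) heq hy'
  rw [blockPart_linear, blockPart_linear] at key
  simp only [blockPart_principal_section hM hz hy', blockPart_irr, mul_ite, mul_zero] at key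
  rwa [← Finset.sum_filter, ← Finset.sum_filter] at key

omit [Fintype G] [Fact p.Prime] in
/-- Inflation from a quotient respects blocks. -/
theorem sameBlock_infl (hM : IsPModular p M) (N : Subgroup G) [N.Normal]
    (χ ψ : IrrCharacter (G ⧸ N)) (h : SameBlock M (χ : G ⧸ N → ℂ) (ψ : G ⧸ N → ℂ)) :
    SameBlock M (CfsgLib.Chars17.infl N χ : G → ℂ) (CfsgLib.Chars17.infl N ψ : G → ℂ) := by
  intro g
  set K := (Subgroup.centralizer ({(g : G ⧸ N)} : Set (G ⧸ N))).comap (QuotientGroup.mk' N) with hK
  have hle : Subgroup.centralizer ({g} : Set G) ≤ K := fun d hd => by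
    rw [hK, Subgroup.mem_comap, Subgroup.mem_centralizer_singleton_iff]
    show ((d : G) : G ⧸ N) * (g : G ⧸ N) = (g : G ⧸ N) * d
    rw [← QuotientGroup.mk_mul, ← QuotientGroup.mk_mul, Subgroup.mem_centralizer_singleton_iff.1 hd]
  have hidx : (Subgroup.centralizer ({g} : Set G)).index =
      (Subgroup.centralizer ({g} : Set G)).relIndex K *
        (Subgroup.centralizer ({(g : G ⧸ N)} : Set (G ⧸ N))).index := by
    rw [← Subgroup.index_comap_of_surjective _ (QuotientGroup.mk'_surjective N),
      ← Subgroup.relIndex_mul_index hle]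
  have e : ∀ η : IrrCharacter (G ⧸ N), centralChar (CfsgLib.Chars17.infl N η : G → ℂ) g =
      ((Subgroup.centralizer ({g} : Set G)).relIndex K : ℂ) *
        centralChar (η : G ⧸ N → ℂ) (g : G ⧸ N) := fun η => by
    simp only [centralChar, CfsgLib.Chars17.infl_apply, hidx, Nat.cast_mul, QuotientGroup.mk_one]
    ring
  rw [e, e, ← mul_sub]
  exact MemLocalIdeal.mul_left hM (memLocalRing_of_isIntegral hM
    (map_natCast (algebraMap ℤ ℂ) _ ▸ isIntegral_algebraMap)) (h _)

omit [Fact p.Prime] in
open scoped Classical in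
/-- The principal block of a group whose quotient by a normal `p'`-subgroup has a
self-centralising normal `p`-subgroup. -/
theorem principal_inner_of_quotient (hM : IsPModular p M) (N : Subgroup G) [N.Normal]
    (hN : ¬ p ∣ Nat.card N) (Q : Subgroup (G ⧸ N)) [Q.Normal] (hQ : IsPGroup p Q)
    (hC : Subgroup.centralizer (Q : Set (G ⧸ N)) ≤ Q) (a b : G) :
    ∑ χ ∈ Finset.univ.filter (· ∈ principalBlock M G),
        conj ((χ : G → ℂ) a) * (χ : G → ℂ) b =
      if IsConj (b : G ⧸ N) (a : G ⧸ N) then
        (Nat.card (Subgroup.centralizer ({(b : G ⧸ N)} : Set (G ⧸ N))) : ℂ) else 0 := by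
  letI := Fintype.ofFinite (G ⧸ N)
  have hset : ∀ χ : IrrCharacter G,
      χ ∈ principalBlock M G ↔ N ≤ CfsgLib.Chars17.irrKer χ := fun χ => by
    refine ⟨fun hχ n hn => CfsgLib.Chars17.mem_irrKer.2 (principalBlock_kernel hM hχ hN hn),
      fun hle => ?_⟩
    obtain ⟨η, rfl⟩ := CfsgLib.Chars17.exists_infl_eq N hle
    have h1 : η ∈ principalBlock M (G ⧸ N) := by
      rw [CfsgLib.SingleBlock.principalBlock_eq_univ hM Q hQ hC]; exact Set.mem_univ _
    exact sameBlock_infl hM N (principalIrr (G ⧸ N)) η h1
  rw [Finset.filter_congr (fun χ _ => hset χ), CfsgLib.Chars17.sum_filter_le_irrKer N]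
  simp only [CfsgLib.Chars17.infl_apply]
  convert column_orth (b : G ⧸ N) (a : G ⧸ N) using 1
  · exact Finset.sum_congr rfl fun η _ => mul_comm _ _
  · congr 1

end CfsgLib.UFour73
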