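import Cfsg.Agent.Lib.UFour73.BlockLocal
import Cfsg.Agent.Lib.UFour73.Sections
import Cfsg.Agent.Lib.PiHom.SectionCoeff

/-!
# The principal block is constant on the cosets of the cores
-/

set_option autoImplicit false
set_option linter.style.haveILetI false
set_option linter.unusedSectionVars false

namespace CfsgLib.UFour73.BlockAux

open Cfsg CfsgLib.Characters CfsgLib.Blocks
open CfsgLib.PiHom (zInv)
open CfsgLib.InvCharSixtyFour (HermLike)

universe u

theorem isPPart_map {G H : Type*} [Group G] [Group H] {p : ℕ} [hp : Fact p.Prime] (f : G →* H)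
    {g x : G} (h : IsPPart p g x) : IsPPart p (f g) (f x) := by
  obtain ⟨y, hy, hc, ⟨k, hk⟩, hyp⟩ := h
  refine ⟨f y, by rw [← map_mul, hy], hc.map f, ?_, fun hd => hyp (hd.trans (orderOf_map_dvd f y))⟩
  obtain ⟨i, -, hi⟩ := (Nat.dvd_prime_pow hp.out).1 (hk ▸ orderOf_map_dvd f x)
  exact ⟨i, hi⟩

/-- Modulo a normal subgroup of odd order a 2-element is determined up to conjugacy. -/
theorem exists_conj_of_mk_eq {H : Type*} [Group H] [Finite H] (N : Subgroup H) [N.Normal]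
    (hN : Odd (Nat.card ↥N)) {p s : H} (hp : ∃ k : ℕ, orderOf p = 2 ^ k)
    (hs : ∃ k : ℕ, orderOf s = 2 ^ k) (h : (p : H ⧸ N) = (s : H ⧸ N)) :
    ∃ t : H, (t : H ⧸ N) ∈ Subgroup.zpowers (s : H ⧸ N) ∧ t * p * t⁻¹ = s := by
  haveI : Fact (Nat.Prime 2) := ⟨Nat.prime_two⟩
  set T := (Subgroup.zpowers (s : H ⧸ N)).comap (QuotientGroup.mk' N) with hT
  have hpT : p ∈ T := by
    rw [hT, Subgroup.mem_comap, QuotientGroup.mk'_apply, h]
    exact Subgroup.mem_zpowers _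
  have hsT : s ∈ T := by
    rw [hT, Subgroup.mem_comap, QuotientGroup.mk'_apply]
    exact Subgroup.mem_zpowers _
  have hz : ∀ x : ↥T, (∃ k : ℕ, orderOf (x : H) = 2 ^ k) → IsPGroup 2 ↥(Subgroup.zpowers x) := by
    rintro x ⟨k, hk⟩
    exact IsPGroup.of_card (n := k) (by rw [Nat.card_zpowers, ← Subgroup.orderOf_coe, hk])
  obtain ⟨P, hP⟩ := (hz ⟨p, hpT⟩ hp).exists_le_sylow
  obtain ⟨Q, hQ⟩ := (hz ⟨s, hsT⟩ hs).exists_le_sylow
  obtain ⟨t, ht⟩ := MulAction.exists_smul_eq ↥T P Q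
  refine ⟨(t : H), t.2, ?_⟩
  set q : ↥T := t * ⟨p, hpT⟩ * t⁻¹ with hq
  have hqQ : q ∈ (Q : Subgroup ↥T) := by
    rw [← ht, Sylow.coe_subgroup_smul]
    exact Subgroup.smul_mem_pointwise_smul _ (MulAut.conj t) _ (hP (Subgroup.mem_zpowers _))
  have hd : q⁻¹ * ⟨s, hsT⟩ ∈ (Q : Subgroup ↥T) :=
    mul_mem (inv_mem hqQ) (hQ (Subgroup.mem_zpowers _))
  have hdN : (t : H) * p * (t : H)⁻¹ * ((t : H) * p * (t : H)⁻¹)⁻¹ = 1 := mul_inv_cancel _
  have hbar : (((q⁻¹ * ⟨s, hsT⟩ : ↥T) : H) : H ⧸ N) = 1 := by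
    obtain ⟨j, hj⟩ := Subgroup.mem_zpowers_iff.1 t.2
    simp only [QuotientGroup.mk'_apply] at hj
    simp only [hq, Subgroup.coe_mul, Subgroup.coe_inv, QuotientGroup.mk_mul, QuotientGroup.mk_inv,
      h, ← hj]
    group
  have h2 : ((q⁻¹ * ⟨s, hsT⟩ : ↥T) : H) = 1 := by
    obtain ⟨k, hk⟩ := IsPGroup.iff_orderOf.1 Q.isPGroup' ⟨_, hd⟩
    rw [← Subgroup.orderOf_coe, ← Subgroup.orderOf_coe] at hk
    rw [← orderOf_eq_one_iff, hk]
    have hodd : Odd (2 ^ k) := hk ▸ hN.of_dvd_nat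
      (Subgroup.orderOf_dvd_natCard N ((QuotientGroup.eq_one_iff _).1 hbar))
    rcases Nat.eq_zero_or_pos k with rfl | hk0
    · simp
    · exact absurd hodd (Nat.not_odd_iff_even.2 (Nat.even_pow.2 ⟨even_two, hk0.ne'⟩))
  simp only [hq, Subgroup.coe_mul, Subgroup.coe_inv] at h2
  exact inv_mul_eq_one.1 h2

/-- The form of `g u` for `u` in a normal subgroup of odd order. -/
theorem exists_section_form {H : Type*} [Group H] [Finite H] (N : Subgroup H) [N.Normal]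
    (hN : Odd (Nat.card ↥N)) {s v u : H} (hsv : Commute s v) (hs : ∃ k : ℕ, orderOf s = 2 ^ k)
    (hv : ¬ 2 ∣ orderOf v) (hu : u ∈ N) :
    ∃ t w : H, t * (s * v * u) * t⁻¹ = s * w ∧ Commute s w ∧ ¬ 2 ∣ orderOf w ∧ v⁻¹ * w ∈ N := by
  haveI : Fact (Nat.Prime 2) := ⟨Nat.prime_two⟩
  obtain ⟨p, hp⟩ := exists_isPPart Nat.prime_two (s * v * u)
  obtain ⟨q, hq, hpq, hpk, hqp⟩ := id hp
  have hmk : ((s * v * u : H) : H ⧸ N) = ((s * v : H) : H ⧸ N) :=
    (QuotientGroup.eq.2 (show (s * v)⁻¹ * (s * v * u) ∈ N by rwa [inv_mul_cancel_left])).symm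
  have h1 : (p : H ⧸ N) = (s : H ⧸ N) := by
    refine IsPPart.unique Nat.prime_two (g := ((s * v : H) : H ⧸ N)) ?_
      (isPPart_map (QuotientGroup.mk' N) (isPPart_mul hsv hs hv))
    rw [← hmk]
    exact isPPart_map (QuotientGroup.mk' N) hp
  have h2 : (q : H ⧸ N) = (v : H ⧸ N) := by
    rw [← hq, QuotientGroup.mk_mul, QuotientGroup.mk_mul, h1] at hmk
    exact mul_left_cancel hmk
  obtain ⟨t, ht, htp⟩ := exists_conj_of_mk_eq N hN hpk hs h1
  refine ⟨t, t * q * t⁻¹, ?_, ?_, ?_, ?_⟩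
  · rw [← hq, ← htp]; group
  · rw [← htp]
    exact hpq.map (MulAut.conj t).toMonoidHom
  · rwa [show orderOf (t * q * t⁻¹) = orderOf q from
      orderOf_injective (MulAut.conj t).toMonoidHom (MulAut.conj t).injective q]
  · rw [← QuotientGroup.eq_one_iff]
    obtain ⟨j, hj⟩ := Subgroup.mem_zpowers_iff.1 ht
    have hc : Commute ((s : H ⧸ N) ^ j) (v : H ⧸ N) :=
      ((hsv.map (QuotientGroup.mk' N)).zpow_left j)
    simp only [QuotientGroup.mk_mul, QuotientGroup.mk_inv, h2, ← hj]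
    rw [hc.eq, mul_inv_cancel_right, inv_mul_cancel]

variable {G : Type u} [Group G] [Fintype G] (D : Setting G)

/-- The square of a nontrivial element of `S`, or itself if central: an involution `a l`. -/
theorem exists_cent_le {s : G} (hs : s ∈ D.S) (hs1 : s ≠ 1) :
    ∃ l, Subgroup.centralizer ({s} : Set G) ≤ Subgroup.centralizer ({D.a l} : Set G) := by
  by_cases h : s ∈ zInv D.S
  · obtain ⟨l, hl⟩ := D.a_cover s h hs1
    exact ⟨l, by rw [hl]⟩
  · obtain ⟨l, hl⟩ := D.a_cover _ (sq_mem D hs) fun e => h (mem_zInv_of_sq D hs e)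
    refine ⟨l, fun g hg => ?_⟩
    rw [Subgroup.mem_centralizer_singleton_iff] at hg ⊢
    rw [← hl, ← mul_assoc, hg, mul_assoc, hg, ← mul_assoc]

variable {M : Ideal AlgInt}

/-- Characters of the principal block are constant on the cosets of the cores at the elements of
even order of `X`. -/
theorem fixed_apply (hM : IsPModular 2 M) {χ : IrrCharacter G} (hχ : χ ∈ principalBlock M G)
    (i : Fin 3) {g : G} (hg : g ∈ D.X) (heven : Even (orderOf g)) {u : G} (hu : u ∈ D.θ i) :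
    (χ : G → ℂ) (g * u) = (χ : G → ℂ) g := by
  haveI : Fact (Nat.Prime 2) := ⟨Nat.prime_two⟩
  obtain ⟨e, he, e0⟩ := exists_pPart_exponent Nat.prime_two (isOfFinOrder_of_finite g)
  set s := g ^ e with hsdef
  obtain ⟨v, hv, hsv, hsk, hvodd⟩ := he
  have hsX : s ∈ D.X := pow_mem hg e
  have hvX : v ∈ D.X := by
    rw [show v = s⁻¹ * g by rw [← hv]; group]
    exact mul_mem (inv_mem hsX) hg
  have hs : s ∈ D.S := mem_S_of_two_power D hsX hsk
  have hs1 : s ≠ 1 := fun h1 => by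
    rw [h1, one_mul] at hv
    exact hvodd (hv ▸ even_iff_two_dvd.1 heven)
  obtain ⟨l, hl⟩ := exists_cent_le D hs hs1
  set Cs := Subgroup.centralizer ({s} : Set G) with hCs
  set Ci := Subgroup.centralizer ({D.a i} : Set G) with hCi
  haveI : ((D.θ i).subgroupOf Ci).Normal :=
    Subgroup.normal_subgroupOf_of_le_normalizer (D.cent_norm i)
  have hXC : D.X ≤ Ci := X_le_cent D (D.a_mem i)
  obtain ⟨t, w, hconj, hsw, hwodd, hvw⟩ := exists_section_form ((D.θ i).subgroupOf Ci)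
    (by rw [Nat.card_congr (Subgroup.subgroupOfEquivOfLe (θ_le_cent D i)).toEquiv]; exact D.θ_odd i)
    (s := ⟨s, hXC hsX⟩) (v := ⟨v, hXC hvX⟩) (u := ⟨u, θ_le_cent D i hu⟩) (Subtype.ext hsv.eq)
    (by rw [Subgroup.orderOf_mk]; exact hsk) (by rw [Subgroup.orderOf_mk]; exact hvodd)
    (Subgroup.mem_subgroupOf.2 hu)
  have hconj' := congrArg Subtype.val hconj
  have hsw' : Commute s (w : G) := congrArg Subtype.val hsw.eq
  have hvw' : v⁻¹ * (w : G) ∈ D.θ i := Subgroup.mem_subgroupOf.1 hvw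
  simp only [Subgroup.coe_mul, Subgroup.coe_inv, hv] at hconj'
  rw [classFunction_eq_of_isConj (irr_isClassFunction χ) (isConj_iff.2 ⟨_, hconj'⟩)]
  have hvC : v ∈ Cs := Subgroup.mem_centralizer_singleton_iff.2 hsv.symm.eq
  have hwC : (w : G) ∈ Cs := Subgroup.mem_centralizer_singleton_iff.2 hsw'.symm.eq
  have hx : v⁻¹ * (w : G) ∈ D.θ l :=
    meet_le D i l ⟨hvw', hl (mul_mem (inv_mem hvC) hwC)⟩
  haveI : ((D.θ l ⊓ Cs).subgroupOf Cs).Normal := by
    refine Subgroup.normal_subgroupOf_of_le_normalizer ?_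
    exact (le_inf (hl.trans (D.cent_norm l)) Subgroup.le_normalizer).trans
      Subgroup.inf_normalizer_le_normalizer_inf
  have hNodd : ¬ 2 ∣ Nat.card ((D.θ l ⊓ Cs).subgroupOf Cs) := by
    rw [Nat.card_congr (Subgroup.subgroupOfEquivOfLe inf_le_right).toEquiv]
    exact Nat.two_dvd_ne_zero.2 (Nat.odd_iff.1
      ((D.θ_odd l).of_dvd_nat (Subgroup.card_dvd_of_le inf_le_left)))
  have key := principal_apply_congr hM hsk (N := (D.θ l ⊓ Cs).subgroupOf Cs) hNodd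
    (v := ⟨v, hvC⟩) (w := ⟨_, hwC⟩) (by rw [Subgroup.orderOf_mk]; exact hvodd)
    (by rw [Subgroup.orderOf_mk, Subgroup.orderOf_coe]; exact hwodd)
    (Subgroup.mem_subgroupOf.2 ⟨hx, Cs.mul_mem (Cs.inv_mem hvC) hwC⟩) hχ
  rw [key, hv]

/-- Elements outside the centre have normal 2-complements of index sixteen in their centralisers. -/
theorem exists_twoCompl {x : G} (hx : x ∈ D.S) (hxA : x ∉ zInv D.S) :
    ∃ O : Subgroup G, PiHom.TwoCompl x O 4 := by
  haveI : Fact (Nat.Prime 2) := ⟨Nat.prime_two⟩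
  obtain ⟨P, hP⟩ := D.sylow
  obtain ⟨l, hl⟩ := exists_cent_le D hx fun e => hxA (e ▸ one_mem _)
  set Cx := Subgroup.centralizer ({x} : Set G) with hCx
  have hodd : Odd (Nat.card ↥(D.θ l ⊓ Cx : Subgroup G)) :=
    (D.θ_odd l).of_dvd_nat (Subgroup.card_dvd_of_le inf_le_left)
  refine ⟨D.θ l ⊓ Cx, inf_le_right, ?_, hodd, ?_⟩
  · exact (le_inf (hl.trans (D.cent_norm l)) Subgroup.le_normalizer).trans
      Subgroup.inf_normalizer_le_normalizer_inf
  have hdec : ∀ g ∈ Cx, ∃ t ∈ D.S ⊓ Cx, ∃ o ∈ D.θ l ⊓ Cx, g = t * o := by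
    intro g hg
    obtain ⟨e, he, y, hy, rfl⟩ := (D.cent l g).1 (hl hg)
    have hgx := Subgroup.mem_centralizer_singleton_iff.1 hg
    have hyx : y * x = x * y := by
      have h1 : y * x * y⁻¹ * x⁻¹ ∈ D.S := D.S.mul_mem (conj_mem_S D hy hx) (D.S.inv_mem hx)
      have h2 : y * x * y⁻¹ * x⁻¹ = e⁻¹ * (x * e * x⁻¹) := by
        calc y * x * y⁻¹ * x⁻¹ = e⁻¹ * (e * y * x) * (e * y)⁻¹ * e * x⁻¹ := by group
          _ = _ := by rw [hgx]; group
      have h3 : y * x * y⁻¹ * x⁻¹ ∈ D.θ l := by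
        rw [h2]
        exact mul_mem (inv_mem he)
          ((Subgroup.mem_normalizer_iff.1 (D.X_norm_θ l (S_le_X D hx)) e).1 he)
      have h4 := eq_one_of_odd_of_mem D h1 (odd_of_mem (D.θ_odd l) h3)
      calc y * x = y * x * y⁻¹ * x⁻¹ * (x * y) := by group
        _ = x * y := by rw [h4, one_mul]
    obtain ⟨s, hs, w, hw, i, rfl⟩ := decomp D hy
    have hrx : D.r ^ i * x * (D.r ^ i)⁻¹ ∈ D.S := conj_mem_S D (pow_mem (r_mem_X D) i) hx
    have hfix : D.r ^ i * x * (D.r ^ i)⁻¹ = s⁻¹ * x * s := by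
      have h1 : s * (w * (D.r ^ i * x * (D.r ^ i)⁻¹) * w⁻¹) * s⁻¹ = x := by
        calc s * (w * (D.r ^ i * x * (D.r ^ i)⁻¹) * w⁻¹) * s⁻¹
            = s * w * D.r ^ i * x * (s * w * D.r ^ i)⁻¹ := by group
          _ = x := by rw [hyx, mul_inv_cancel_right]
      rw [D.W0_comm w hw _ hrx, mul_inv_cancel_right] at h1
      calc D.r ^ i * x * (D.r ^ i)⁻¹
          = s⁻¹ * (s * (D.r ^ i * x * (D.r ^ i)⁻¹) * s⁻¹) * s := by group
        _ = _ := by rw [h1]
    have hi : 5 ∣ i := dvd_of_fix D hx hxA (by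
      rw [hfix]
      have := (mem_center_iff D _).1 (D.herm.cm_mem ⟨s⁻¹, D.S.inv_mem hs⟩ ⟨x, hx⟩)
      simpa [InvCharSixtyFour.cm] using this)
    set w' := w * D.r ^ i with hw'
    have hw'W : w' ∈ D.W0 := mul_mem hw (pow_five_mul_mem D hi)
    rw [mul_assoc s, ← hw'] at hyx hgx hy hg ⊢
    have hsx : s ∈ Cx := by
      have hw'x := D.W0_comm w' hw'W x hx
      rw [Subgroup.mem_centralizer_singleton_iff]
      calc s * x = s * w' * x * w'⁻¹ := by rw [mul_assoc s w' x, hw'x]; group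
        _ = x * s := by rw [hyx]; group
    have hs' : e * (s * w') = s * (s⁻¹ * e * s * w') := by group
    refine ⟨s, ⟨hs, hsx⟩, s⁻¹ * e * s * w', ⟨?_, ?_⟩, hs'⟩
    · have h5 := (Subgroup.mem_normalizer_iff.1 (D.X_norm_θ l (inv_mem (S_le_X D hs))) e).1 he
      rw [inv_inv] at h5
      exact mul_mem h5 (D.W0_le l hw'W)
    · rw [show s⁻¹ * e * s * w' = s⁻¹ * (e * (s * w')) by group]
      exact Cx.mul_mem (Cx.inv_mem hsx) hg
  rw [PiHom.relIndex_eq_card ((isPGroup_S D).to_le inf_le_left) hodd inf_le_right hdec]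
  have hherm : HermLike ↥(P : Subgroup G) 4 := by rw [hP]; exact D.herm
  have hxP : x ∈ (P : Subgroup G) := by rw [hP]; exact hx
  have h16 := PiHom.Crit.card_centralizer_in P hherm (s := ⟨x, hxP⟩) fun h0 => by
    have : (x : G) ∈ zInv (P : Subgroup G) := ⟨hxP,
      congrArg Subtype.val (hherm.center_sq _ h0),
      fun s hs => congrArg Subtype.val (Subgroup.mem_center_iff.1 h0 ⟨s, hs⟩)⟩
    rw [hP] at this
    exact hxA this
  rw [show (2 : ℕ) ^ 4 = 16 from rfl, ← h16]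
  refine Nat.card_congr
    { toFun := fun t => ⟨⟨t.1, hP.ge t.2.1⟩, Subgroup.mem_centralizer_singleton_iff.2
        (Subtype.ext (Subgroup.mem_centralizer_singleton_iff.1 t.2.2))⟩
      invFun := fun t => ⟨t.1.1, hP.le t.1.2, Subgroup.mem_centralizer_singleton_iff.2
        (congrArg Subtype.val (Subgroup.mem_centralizer_singleton_iff.1 t.2))⟩
      left_inv := fun _ => rfl
      right_inv := fun _ => rfl }

end CfsgLib.UFour73.BlockAux
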