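import Cfsg.Agent.Lib.UFour73.Setting
import Cfsg.Agent.Lib.PiHom.UnitaryCentral

/-!
# Local group theory behind the principal block

Elementary consequences of `Setting`: the structure of `X`, the cores meet the other centralisers
inside the cores there.
-/

set_option autoImplicit false
set_option linter.style.haveILetI false
set_option linter.unusedSectionVars false

namespace CfsgLib.UFour73.BlockAux

open CfsgLib.PiHom (zInv)
open CfsgLib.InvCharSixtyFour (HermLike)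
open CfsgLib.InvCharSixtyFour (cm)

universe u

variable {G : Type u} [Group G]

theorem mem_sup_iff {H N : Subgroup G} (h : H ≤ Subgroup.normalizer (N : Set G)) {g : G} :
    g ∈ H ⊔ N ↔ ∃ a ∈ H, ∃ b ∈ N, a * b = g := by
  rw [← SetLike.mem_coe, Subgroup.coe_mul_of_left_le_normalizer_right H N h, Set.mem_mul]
  simp

theorem mem_normalizer_of_commute {H : Subgroup G} {g : G} (h : ∀ s ∈ H, g * s = s * g) :
    g ∈ Subgroup.normalizer (H : Set G) := by
  rw [Subgroup.mem_normalizer_iff]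
  refine fun s => ⟨fun hs => by rw [h s hs, mul_inv_cancel_right]; exact hs, fun hs => ?_⟩
  have h1 := h _ hs
  have : g * s * g⁻¹ = s := by
    calc g * s * g⁻¹ = g⁻¹ * (g * (g * s * g⁻¹)) := by group
      _ = g⁻¹ * (g * s * g⁻¹ * g) := by rw [h1]
      _ = s := by group
  rwa [this] at hs

variable [Finite G] (D : Setting G)

theorem mem_center_iff (s : ↥D.S) : s ∈ Subgroup.center ↥D.S ↔ (s : G) ∈ zInv D.S := by
  constructor
  · intro hs
    exact ⟨s.2, congrArg Subtype.val (D.herm.center_sq s hs),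
      fun t ht => congrArg Subtype.val (Subgroup.mem_center_iff.1 hs ⟨t, ht⟩)⟩
  · exact fun hs => Subgroup.mem_center_iff.2 fun t => Subtype.ext (hs.2.2 t t.2)

theorem sq_mem {s : G} (hs : s ∈ D.S) : s * s ∈ zInv D.S :=
  (mem_center_iff D _).1 (D.herm.sq_mem ⟨s, hs⟩)

theorem mem_zInv_of_sq {s : G} (hs : s ∈ D.S) (h2 : s * s = 1) : s ∈ zInv D.S :=
  (mem_center_iff D ⟨s, hs⟩).1 (D.herm.sq_one _ (Subtype.ext h2))

theorem isPGroup_S : IsPGroup 2 ↥D.S := by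
  obtain ⟨P, hP⟩ := D.sylow
  exact hP ▸ P.isPGroup'

theorem card_S : Nat.card ↥D.S = 64 := by rw [D.herm.card]; norm_num

theorem card_zInv : Nat.card ↥(zInv D.S) = 4 := by
  rw [← D.herm.card_center]
  exact Nat.card_congr
    { toFun := fun a => ⟨⟨a.1, a.2.1⟩, (mem_center_iff D _).2 a.2⟩
      invFun := fun a => ⟨a.1.1, (mem_center_iff D _).1 a.2⟩
      left_inv := fun _ => rfl
      right_inv := fun _ => rfl }

theorem exists_not_zInv : ∃ s ∈ D.S, s ∉ zInv D.S := by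
  by_contra h
  push Not at h
  have := Nat.card_le_card_of_injective (fun s : ↥D.S => (⟨s.1, h s.1 s.2⟩ : ↥(zInv D.S)))
    fun a b e => Subtype.ext (congrArg (fun t : ↥(zInv D.S) => (t : G)) e)
  rw [card_S, card_zInv] at this
  omega

theorem orderOf_four {s : G} (hs : s ∈ D.S) (hsA : s ∉ zInv D.S) : orderOf s = 2 ^ 2 := by
  haveI : Fact (Nat.Prime 2) := ⟨Nat.prime_two⟩
  refine orderOf_eq_prime_pow (n := 1) ?_ ?_
  · rw [pow_one, pow_two]; exact fun e => hsA (mem_zInv_of_sq D hs e)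
  · rw [show 2 ^ (1 + 1) = 2 + 2 from rfl, pow_add, pow_two]; exact (sq_mem D hs).2.1

theorem orderOf_a (i : Fin 3) : orderOf (D.a i) = 2 :=
  PiHom.orderOf_of_mem_zInv (D.a_mem i) (D.a_ne i)

theorem a_mem_S (i : Fin 3) : D.a i ∈ D.S := (D.a_mem i).1

theorem two_pow_a (i : Fin 3) : ∃ k : ℕ, orderOf (D.a i) = 2 ^ k := ⟨1, by rw [orderOf_a, pow_one]⟩

theorem two_pow_of_mem {s : G} (hs : s ∈ D.S) : ∃ k : ℕ, orderOf s = 2 ^ k := by
  obtain ⟨k, hk⟩ := IsPGroup.iff_orderOf.1 (isPGroup_S D) ⟨s, hs⟩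
  exact ⟨k, by rw [← Subgroup.orderOf_mk s hs]; exact hk⟩

theorem eq_one_of_odd_of_mem {s : G} (hs : s ∈ D.S) (hodd : Odd (orderOf s)) : s = 1 := by
  obtain ⟨k, hk⟩ := two_pow_of_mem D hs
  rw [← orderOf_eq_one_iff, hk]
  rcases Nat.eq_zero_or_pos k with rfl | hk0
  · simp
  · rw [hk] at hodd
    exact absurd hodd (Nat.not_odd_iff_even.2 (Nat.even_pow.2 ⟨even_two, hk0.ne'⟩))

theorem odd_of_mem {H : Subgroup G} (hH : Odd (Nat.card ↥H)) {g : G} (hg : g ∈ H) :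
    Odd (orderOf g) := hH.of_dvd_nat (Subgroup.orderOf_dvd_natCard _ hg)

theorem S_le_X : D.S ≤ D.X := D.X_eq ▸ le_sup_of_le_left le_sup_left

theorem W0_le_X : D.W0 ≤ D.X := D.X_eq ▸ le_sup_of_le_left le_sup_right

theorem r_mem_X : D.r ∈ D.X :=
  D.X_eq ▸ (le_sup_right : Subgroup.zpowers D.r ≤ _) (Subgroup.mem_zpowers _)

theorem W0_le_norm_S : D.W0 ≤ Subgroup.normalizer (D.S : Set G) :=
  fun w hw => mem_normalizer_of_commute (D.W0_comm w hw)

theorem X_norm_S : D.X ≤ Subgroup.normalizer (D.S : Set G) := by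
  rw [D.X_eq]
  exact sup_le (sup_le Subgroup.le_normalizer (W0_le_norm_S D))
    (Subgroup.zpowers_le.2 D.r_norm)

theorem conj_mem_S {g s : G} (hg : g ∈ D.X) (hs : s ∈ D.S) : g * s * g⁻¹ ∈ D.S :=
  (Subgroup.mem_normalizer_iff.1 (X_norm_S D hg) s).1 hs

theorem X_le_cent {z : G} (hz : z ∈ zInv D.S) : D.X ≤ Subgroup.centralizer ({z} : Set G) := by
  rw [D.X_eq]
  refine sup_le (sup_le ?_ ?_) ?_
  · exact fun s hs => Subgroup.mem_centralizer_singleton_iff.2 (hz.2.2 s hs)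
  · exact fun w hw => Subgroup.mem_centralizer_singleton_iff.2 (D.W0_comm w hw z hz.1)
  · exact Subgroup.zpowers_le.2 (Subgroup.mem_centralizer_singleton_iff.2 (D.r_fix z hz))

theorem X_comm {g z : G} (hg : g ∈ D.X) (hz : z ∈ zInv D.S) : g * z = z * g :=
  Subgroup.mem_centralizer_singleton_iff.1 (X_le_cent D hz hg)

theorem θ_le_cent (i : Fin 3) : D.θ i ≤ Subgroup.centralizer ({D.a i} : Set G) :=
  fun u hu => (D.cent i u).2 ⟨u, hu, 1, D.X.one_mem, (mul_one u).symm⟩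

/-- `X = S W₀ ⟨r⟩`. -/
theorem decomp {g : G} (hg : g ∈ D.X) :
    ∃ s ∈ D.S, ∃ w ∈ D.W0, ∃ i : ℕ, g = s * w * D.r ^ i := by
  have hr : Subgroup.zpowers D.r ≤ Subgroup.normalizer ((D.S ⊔ D.W0 : Subgroup G) : Set G) := by
    refine le_trans (Subgroup.zpowers_le.2 ?_) ((Subgroup.normalizer_inf_normalizer_le_normalizer_sup _ _))
    exact ⟨D.r_norm, D.X_norm_W0 (r_mem_X D)⟩
  rw [D.X_eq, sup_comm, mem_sup_iff hr] at hg
  obtain ⟨a, ha, n, hn, rfl⟩ := hg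
  have hn' : a * n * a⁻¹ ∈ D.S ⊔ D.W0 := (Subgroup.mem_normalizer_iff.1 (hr ha) n).1 hn
  rw [mem_sup_iff (fun s hs => mem_normalizer_of_commute fun w hw =>
    (D.W0_comm w hw s hs).symm)] at hn'
  obtain ⟨s, hs, w, hw, e⟩ := hn'
  obtain ⟨i, rfl⟩ := (isOfFinOrder_of_finite D.r).mem_powers_iff_mem_zpowers.2 ha
  exact ⟨s, hs, w, hw, i, by
    rw [e]
    show D.r ^ i * n = D.r ^ i * n * (D.r ^ i)⁻¹ * D.r ^ i
    group⟩

/-- A power `r^i` with `5 ∤ i` has a further power in `r W₀`. -/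
theorem exists_inverse_exp {i : ℕ} (hi : ¬ 5 ∣ i) :
    ∃ j : ℕ, ∃ w ∈ D.W0, D.r ^ (i * j) = w * D.r := by
  obtain ⟨j, -, hj⟩ := Nat.exists_mul_mod_eq_one_of_coprime
    ((Nat.prime_five.coprime_iff_not_dvd.2 hi).symm) (by norm_num)
  refine ⟨j, (D.r ^ 5) ^ (i * j / 5), pow_mem D.r_pow _, ?_⟩
  rw [← pow_mul, ← pow_succ]
  congr 1
  have := Nat.div_add_mod (i * j) 5
  omega

theorem dvd_of_fix {s : G} (hs : s ∈ D.S) (hsA : s ∉ zInv D.S) {i : ℕ}
    (h : D.r ^ i * s * (D.r ^ i)⁻¹ * s⁻¹ ∈ zInv D.S) : 5 ∣ i := by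
  by_contra hi
  obtain ⟨j, w, hw, hj⟩ := exists_inverse_exp D hi
  have hall : ∀ n : ℕ, D.r ^ (i * n) * s * (D.r ^ (i * n))⁻¹ * s⁻¹ ∈ zInv D.S := fun n => by
    induction n with
    | zero => simp
    | succ n ih =>
      set z := D.r ^ (i * n) * s * (D.r ^ (i * n))⁻¹ * s⁻¹ with hz
      have hzc : D.r ^ i * z = z * D.r ^ i := X_comm D (pow_mem (r_mem_X D) i) ih
      have e : D.r ^ (i * (n + 1)) * s * (D.r ^ (i * (n + 1)))⁻¹ * s⁻¹ =
          z * (D.r ^ i * s * (D.r ^ i)⁻¹ * s⁻¹) := by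
        calc D.r ^ (i * (n + 1)) * s * (D.r ^ (i * (n + 1)))⁻¹ * s⁻¹
            = D.r ^ i * z * s * (D.r ^ i)⁻¹ * s⁻¹ := by
              rw [mul_add, mul_one, Nat.add_comm, pow_add, hz]; group
          _ = _ := by rw [hzc]; group
      rw [e]
      exact mul_mem ih h
  have h1 := hall j
  have hrs : D.r * s * D.r⁻¹ ∈ D.S := conj_mem_S D (r_mem_X D) hs
  rw [hj, show w * D.r * s * (w * D.r)⁻¹ * s⁻¹ = w * (D.r * s * D.r⁻¹) * w⁻¹ * s⁻¹ by group,
    D.W0_comm w hw _ hrs, mul_inv_cancel_right] at h1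
  exact hsA (D.r_free s hs h1)

theorem dvd_of_mem {i : ℕ} (h : D.r ^ i ∈ D.S ⊔ D.W0) : 5 ∣ i := by
  by_contra hi
  obtain ⟨j, w, hw, hj⟩ := exists_inverse_exp D hi
  have h1 : w * D.r ∈ D.S ⊔ D.W0 := by rw [← hj, pow_mul]; exact pow_mem h j
  exact D.r_not_mem ((Subgroup.mul_mem_cancel_left _ ((le_sup_right : D.W0 ≤ _) hw)).1 h1)

theorem r_odd : Odd (orderOf D.r) := by
  have h1 : Odd (orderOf (D.r ^ 5)) := odd_of_mem D.W0_odd D.r_pow
  have h2 : orderOf D.r ∣ 5 * orderOf (D.r ^ 5) := orderOf_dvd_of_pow_eq_one (by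
    rw [pow_mul]; exact pow_orderOf_eq_one _)
  exact ((by decide : Odd 5).mul h1).of_dvd_nat h2

theorem five_dvd_orderOf : 5 ∣ orderOf D.r := dvd_of_mem D (by
  rw [pow_orderOf_eq_one]; exact one_mem _)

theorem pow_five_mul_mem {i : ℕ} (hi : 5 ∣ i) : D.r ^ i ∈ D.W0 := by
  obtain ⟨k, rfl⟩ := hi
  rw [pow_mul]
  exact pow_mem D.r_pow k

theorem mem_S_of_two_power {x : G} (hx : x ∈ D.X) (h2 : ∃ k : ℕ, orderOf x = 2 ^ k) :
    x ∈ D.S := by
  haveI : Fact (Nat.Prime 2) := ⟨Nat.prime_two⟩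
  obtain ⟨k, hk⟩ := h2
  obtain ⟨P, hP⟩ := D.sylow
  have hT : IsPGroup 2 ↥(Subgroup.zpowers x ⊔ D.S) :=
    IsPGroup.to_sup_of_normal_right' (IsPGroup.of_card (n := k) (by rw [Nat.card_zpowers, hk]))
      (isPGroup_S D) (Subgroup.zpowers_le.2 (X_norm_S D hx))
  have e := P.is_maximal' hT (hP.le.trans le_sup_right)
  exact hP ▸ e ▸ Subgroup.mem_sup_left (Subgroup.mem_zpowers x)

/-- An element of odd order of `X` centralising `S` lies in `W₀`. -/
theorem mem_W0_of_comm {k : G} (hk : k ∈ D.X) (hodd : Odd (orderOf k))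
    (hc : ∀ s ∈ D.S, k * s = s * k) : k ∈ D.W0 := by
  obtain ⟨s0, hs0, w, hw, i, rfl⟩ := decomp D hk
  obtain ⟨t, ht, htA⟩ := exists_not_zInv D
  have hrt : D.r ^ i * t * (D.r ^ i)⁻¹ ∈ D.S := conj_mem_S D (pow_mem (r_mem_X D) i) ht
  have hfix : D.r ^ i * t * (D.r ^ i)⁻¹ = s0⁻¹ * t * s0 := by
    have h1 : s0 * (w * (D.r ^ i * t * (D.r ^ i)⁻¹) * w⁻¹) * s0⁻¹ = t := by
      calc s0 * (w * (D.r ^ i * t * (D.r ^ i)⁻¹) * w⁻¹) * s0⁻¹
          = s0 * w * D.r ^ i * t * (s0 * w * D.r ^ i)⁻¹ := by group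
        _ = t := by rw [hc t ht, mul_inv_cancel_right]
    rw [D.W0_comm w hw _ hrt, mul_inv_cancel_right] at h1
    calc D.r ^ i * t * (D.r ^ i)⁻¹
        = s0⁻¹ * (s0 * (D.r ^ i * t * (D.r ^ i)⁻¹) * s0⁻¹) * s0 := by group
      _ = _ := by rw [h1]
  have hi : 5 ∣ i := dvd_of_fix D ht htA (by
    rw [hfix]
    have := (mem_center_iff D _).1 (D.herm.cm_mem ⟨s0⁻¹, D.S.inv_mem hs0⟩ ⟨t, ht⟩)
    simpa [cm] using this)
  set w' := w * D.r ^ i with hw'
  have hw'W : w' ∈ D.W0 := mul_mem hw (pow_five_mul_mem D hi)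
  rw [mul_assoc s0, ← hw'] at hodd ⊢
  have hcom : Commute s0 w' := (D.W0_comm w' hw'W s0 hs0).symm
  have h1 := pow_orderOf_eq_one (s0 * w')
  rw [hcom.mul_pow] at h1
  have h2 : s0 ^ orderOf (s0 * w') = 1 := eq_one_of_odd_of_mem D (pow_mem hs0 _) (by
    rw [eq_inv_of_mul_eq_one_left h1]
    exact odd_of_mem D.W0_odd (inv_mem (pow_mem hw'W _)))
  have h3 : s0 = 1 := eq_one_of_odd_of_mem D hs0
    (hodd.of_dvd_nat (orderOf_dvd_of_pow_eq_one h2))
  rw [h3, one_mul]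
  exact hw'W

/-- A core meets the centraliser of another involution inside that involution's core. -/
theorem meet_le (i l : Fin 3) :
    D.θ i ⊓ Subgroup.centralizer ({D.a l} : Set G) ≤ D.θ l := by
  set E := D.θ i ⊓ Subgroup.centralizer ({D.a l} : Set G) with hE
  have hEn : E ≤ Subgroup.normalizer (D.θ l : Set G) := inf_le_right.trans (D.cent_norm l)
  set T := E ⊔ D.θ l with hT
  have hTodd : ∀ g ∈ T, Odd (orderOf g) := by
    intro g hg
    obtain ⟨d, hd, e, he, rfl⟩ := (mem_sup_iff hEn).1 hg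
    set n := orderOf d
    have hn : Odd n := odd_of_mem (D.θ_odd i) hd.1
    have hpow : ∀ m : ℕ, ∃ e' ∈ D.θ l, (d * e) ^ m = d ^ m * e' := fun m => by
      induction m with
      | zero => exact ⟨1, one_mem _, by simp⟩
      | succ m ih =>
        obtain ⟨e', he', hm⟩ := ih
        have hd' := Subgroup.mem_normalizer_iff.1 (inv_mem (hEn hd)) e'
        rw [inv_inv] at hd'
        exact ⟨d⁻¹ * e' * d * e, mul_mem (hd'.1 he') he, by rw [pow_succ, hm, pow_succ]; group⟩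
    obtain ⟨e', he', hm⟩ := hpow n
    rw [pow_orderOf_eq_one, one_mul] at hm
    have h1 : orderOf (d * e) ∣ n * orderOf e' := orderOf_dvd_of_pow_eq_one (by
      rw [pow_mul, hm, pow_orderOf_eq_one])
    exact (hn.mul (odd_of_mem (D.θ_odd l) he')).of_dvd_nat h1
  have hXT : D.X ≤ Subgroup.normalizer (T : Set G) := by
    refine le_trans (le_inf ?_ (D.X_norm_θ l)) (Subgroup.normalizer_inf_normalizer_le_normalizer_sup _ _)
    refine le_trans (le_inf (D.X_norm_θ i) ?_) Subgroup.inf_normalizer_le_normalizer_inf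
    exact (X_le_cent D (D.a_mem l)).trans Subgroup.le_normalizer
  intro d hd
  obtain ⟨e, he, x, hx, rfl⟩ := (D.cent l d).1 hd.2
  have hxT : x ∈ T := by
    have : e * x ∈ T := Subgroup.mem_sup_left hd
    exact (Subgroup.mul_mem_cancel_left _ (Subgroup.mem_sup_right he)).1 this
  have hxW : x ∈ D.W0 := by
    refine mem_W0_of_comm D hx (hTodd x hxT) fun s hs => ?_
    have h1 : x * s * x⁻¹ * s⁻¹ ∈ D.S := D.S.mul_mem (conj_mem_S D hx hs) (D.S.inv_mem hs)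
    have h2 : x * s * x⁻¹ * s⁻¹ ∈ T := by
      rw [show x * s * x⁻¹ * s⁻¹ = x * (s * x⁻¹ * s⁻¹) by group]
      exact mul_mem hxT ((Subgroup.mem_normalizer_iff.1 (hXT (S_le_X D hs)) _).1 (inv_mem hxT))
    have h3 := eq_one_of_odd_of_mem D h1 (hTodd _ h2)
    calc x * s = (x * s * x⁻¹ * s⁻¹) * (s * x) := by group
      _ = s * x := by rw [h3, one_mul]
  exact mul_mem he (D.W0_le l hxW)

end CfsgLib.UFour73.BlockAux
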