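import Cfsg.Agent.Lib.UFour73.BlockFixed
import Cfsg.Agent.Lib.Characters.Galois
import Cfsg.Agent.Lib.Characters.LinearTwist
import Cfsg.Agent.Lib.Sporadic.CharTools

/-!
# The integers attached to a character of the principal block
-/

set_option autoImplicit false
set_option linter.style.haveILetI false
set_option linter.unusedSectionVars false

namespace CfsgLib.UFour73.BlockAux

open Cfsg CfsgLib.Characters CfsgLib.Blocks
open CfsgLib.PiHom (zInv)
open CfsgLib.InvCharSixtyFour (HermLike)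
open scoped ComplexConjugate

universe u

/-! ## Fifth roots of unity -/

theorem sum_pow_mul {ζ : ℂ} (hζ : IsPrimitiveRoot ζ 5) (n : ℕ) :
    ∑ k : Fin 5, ζ ^ (n * (k : ℕ)) = if 5 ∣ n then 5 else 0 := by
  simp only [pow_mul]
  rw [Fin.sum_univ_eq_sum_range (fun k => (ζ ^ n) ^ k) 5]
  split_ifs with h
  · simp [(hζ.pow_eq_one_iff_dvd n).2 h]
  · refine eq_zero_of_ne_zero_of_mul_right_eq_zero
      (sub_ne_zero.2 fun h' => h ((hζ.pow_eq_one_iff_dvd n).1 h')) ?_
    rw [geom_sum_mul, ← pow_mul, mul_comm n 5, pow_mul, hζ.pow_eq_one, one_pow, sub_self]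

/-- A function with period five, summed with a twist. -/
theorem sum_range_mul_periodic (f : ℕ → ℂ) (c q : ℕ) (h : ∀ n, f (n + c) = f n) :
    ∑ n ∈ Finset.range (c * q), f n = (q : ℂ) * ∑ n ∈ Finset.range c, f n := by
  have hp : ∀ m n, f (c * m + n) = f n := fun m n => by
    induction m with
    | zero => simp
    | succ m ih => rw [show c * (m + 1) + n = c * m + n + c by ring, h, ih]
  induction q with
  | zero => simp
  | succ q ih =>
    rw [show c * (q + 1) = c * q + c by ring, Finset.sum_range_add, ih,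
      Finset.sum_congr rfl fun n _ => hp q n]
    push_cast
    ring

variable {G : Type u} [Group G] [Fintype G] (D : Setting G) {M : Ideal AlgInt}

/-! ## Values -/

theorem a_pow_even (n : ℕ) : Even (orderOf (D.a 0 * D.r ^ n)) := by
  by_contra hcon
  have hodd := Nat.not_even_iff_odd.1 hcon
  set o := orderOf (D.a 0 * D.r ^ n)
  have h1 := pow_orderOf_eq_one (D.a 0 * D.r ^ n)
  have hc : Commute (D.a 0) (D.r ^ n) :=
    (Commute.pow_left (X_comm D (r_mem_X D) (D.a_mem 0) : Commute D.r (D.a 0)) n).symm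
  rw [hc.mul_pow] at h1
  have h2 : D.a 0 ^ o = D.a 0 := by
    obtain ⟨j, hj⟩ := hodd
    rw [hj, pow_succ, pow_mul, pow_two, (D.a_mem 0).2.1, one_pow, one_mul]
  rw [h2, mul_eq_one_iff_eq_inv] at h1
  have h3 : Odd (orderOf (D.a 0)) := by
    rw [h1, orderOf_inv]
    exact (r_odd D).of_dvd_nat ((orderOf_pow_dvd _).trans (orderOf_pow_dvd _))
  rw [orderOf_a] at h3
  exact absurd h3 (by decide)

theorem a_pow_mem (n : ℕ) : D.a 0 * D.r ^ n ∈ D.X :=
  D.X.mul_mem (S_le_X D (a_mem_S D 0)) (D.X.pow_mem (r_mem_X D) n)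

theorem apply_a_pow (hM : IsPModular 2 M) {χ : IrrCharacter G} (hχ : χ ∈ principalBlock M G)
    (n : ℕ) : (χ : G → ℂ) (D.a 0 * D.r ^ n) = (χ : G → ℂ) (D.a 0 * D.r ^ (n % 5)) := by
  conv_lhs => rw [← Nat.mod_add_div n 5, pow_add, ← mul_assoc, pow_mul]
  exact fixed_apply D hM hχ 0 (a_pow_mem D _) (a_pow_even D _)
    (D.W0_le 0 (pow_mem D.r_pow _))

theorem apply_a (χ : IrrCharacter G) (i : Fin 3) : (χ : G → ℂ) (D.a i) = (χ : G → ℂ) (D.a 0) := by
  have h : ∀ j, (χ : G → ℂ) (D.a (j + 1)) = (χ : G → ℂ) (D.a j) := fun j =>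
    (classFunction_eq_of_isConj (irr_isClassFunction χ) (isConj_iff.2 ⟨D.y, D.y_a j⟩)).symm
  fin_cases i
  · rfl
  · exact h 0
  · exact (h 1).trans (h 0)

theorem apply_four (χ : IrrCharacter G) {s t : G} (hs : s ∈ D.S) (hsA : s ∉ zInv D.S)
    (ht : t ∈ D.S) (htA : t ∉ zInv D.S) : (χ : G → ℂ) s = (χ : G → ℂ) t :=
  classFunction_eq_of_isConj (irr_isClassFunction χ) (D.four_conj s hs hsA t ht htA)

theorem two_dvd_card (D : Setting G) : 2 ∣ Nat.card G :=
  (orderOf_a D 0) ▸ orderOf_dvd_natCard (D.a 0)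

theorem exists_int_a (χ : IrrCharacter G) : ∃ α : ℤ, (χ : G → ℂ) (D.a 0) = α := by
  obtain ⟨v, hv, -⟩ := Sporadic.CharTools.exists_int_of_sq_eq_one (irr_isCharacter χ)
    (LinearTwist.apply_one_eq_charDegree (irr_isCharacter χ)) (t := D.a 0)
    (by rw [pow_two]; exact (D.a_mem 0).2.1)
  exact ⟨v, hv⟩

theorem exists_int_four (χ : IrrCharacter G) {s : G} (hs : s ∈ D.S) (hsA : s ∉ zInv D.S) :
    ∃ γ : ℤ, (χ : G → ℂ) s = γ := by
  obtain ⟨q, hq⟩ := CharGalois.exists_rat_char (irr_isCharacter χ) s fun m hm => by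
    have hodd : Odd m := Nat.coprime_two_right.1 (hm.coprime_dvd_right (two_dvd_card D))
    refine apply_four D χ (pow_mem hs m) (fun h => ?_) hs hsA
    have h4 := orderOf_four D hs hsA
    have h5 : orderOf (s ^ m) = orderOf s :=
      (Nat.Coprime.orderOf_pow (by rw [h4]; exact (Nat.coprime_two_left.2 hodd).pow_left 2))
    have h6 : orderOf (s ^ m) ∣ 2 := orderOf_dvd_of_pow_eq_one (by rw [pow_two]; exact h.2.1)
    rw [h5, h4] at h6
    norm_num at h6
  obtain ⟨c, hc⟩ := exists_int_of_isIntegral_rat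
    (hq ▸ isIntegral_of_isCharacter (irr_isCharacter χ) _)
  exact ⟨c, by rw [hq, ← hc, Rat.cast_intCast]⟩

/-- The Fourier coefficients of the values at `a r^k` are integers. -/
theorem exists_int_fourier (hM : IsPModular 2 M) {χ : IrrCharacter G}
    (hχ : χ ∈ principalBlock M G) {ζ : ℂ} (hζ : IsPrimitiveRoot ζ 5) (j : ℕ) :
    ∃ t : ℤ, ∑ k : Fin 5, (χ : G → ℂ) (D.a 0 * D.r ^ (k : ℕ)) * ζ ^ (j * (k : ℕ)) = 5 * (t : ℂ) := by
  classical
  set g := D.a 0 * D.r with hg
  set N := Nat.card G with hN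
  obtain ⟨m, z, hz, hdec⟩ := CharGalois.exists_root_decomp (irr_isCharacter χ) g
  have h10 : 10 ∣ N := Nat.Coprime.mul_dvd_of_dvd_of_dvd (by norm_num : Nat.Coprime 2 5)
    (two_dvd_card D) ((five_dvd_orderOf D).trans (orderOf_dvd_natCard _))
  obtain ⟨q, hq⟩ := h10
  have hq0 : q ≠ 0 := fun h => (Nat.card_pos (α := G)).ne' (by rw [← hN, hq, h, mul_zero])
  set c : ℕ → ℂ := fun n => (χ : G → ℂ) (D.a 0 * D.r ^ (n % 5)) with hc
  have hodd : ∀ n, Odd n → (χ : G → ℂ) (g ^ n) = c n := fun n hn => by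
    have hcom : Commute (D.a 0) D.r := (X_comm D (r_mem_X D) (D.a_mem 0)).symm
    have h2 : D.a 0 ^ n = D.a 0 := by
      obtain ⟨i, rfl⟩ := hn
      rw [pow_succ, pow_mul, pow_two, (D.a_mem 0).2.1, one_pow, one_mul]
    rw [hg, hcom.mul_pow, h2, apply_a_pow D hM hχ n]
  set f : ℕ → ℂ := fun n => (1 - (-1 : ℂ) ^ n) * c n * ζ ^ (j * n) with hf
  have e1 : ∀ n, f n = ∑ i, ((z i * ζ ^ j) ^ n - (-(z i * ζ ^ j)) ^ n) := fun n => by
    have : ∀ i, (z i * ζ ^ j) ^ n - (-(z i * ζ ^ j)) ^ n =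
        (1 - (-1 : ℂ) ^ n) * ζ ^ (j * n) * z i ^ n := fun i => by
      rw [neg_pow, mul_pow, ← pow_mul]; ring
    rw [Finset.sum_congr rfl fun i _ => this i, ← Finset.mul_sum, ← hdec n]
    rcases Nat.even_or_odd n with hn | hn
    · simp [hf, hn.neg_one_pow]
    · rw [hodd n hn]; simp only [hf]; ring
  have hper : ∀ n, f (n + 10) = f n := fun n => by
    simp only [hf, hc, pow_add, show (n + 10) % 5 = n % 5 by omega, mul_add,
      show j * 10 = 5 * (2 * j) by ring, pow_mul ζ 5, hζ.pow_eq_one, one_pow, mul_one]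
    norm_num
  have hgeom : ∀ w : ℂ, w ^ N = 1 →
      ∑ n ∈ Finset.range N, w ^ n = if w = 1 then (N : ℂ) else 0 := fun w hw => by
    split_ifs with h
    · simp [h]
    · exact eq_zero_of_ne_zero_of_mul_right_eq_zero (sub_ne_zero.2 h) (by
        rw [geom_sum_mul, hw, sub_self])
  have hwN : ∀ i, (z i * ζ ^ j) ^ N = 1 := fun i => by
    rw [mul_pow, hz i, one_mul, ← pow_mul, hq, show j * (10 * q) = 5 * (2 * j * q) by ring,
      pow_mul, hζ.pow_eq_one, one_pow]
  have hwN' : ∀ i, (-(z i * ζ ^ j)) ^ N = 1 := fun i => by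
    rw [neg_pow, hwN, mul_one, hq, show 10 * q = 2 * (5 * q) by ring, pow_mul]; norm_num
  set t : ℤ := ∑ i, ((if z i * ζ ^ j = 1 then 1 else 0) - if -(z i * ζ ^ j) = 1 then 1 else 0)
    with ht
  refine ⟨t, ?_⟩
  have h1 : ∑ n ∈ Finset.range N, f n = (N : ℂ) * (t : ℂ) := by
    rw [Finset.sum_congr rfl fun n _ => e1 n, Finset.sum_comm, ht, Int.cast_sum, Finset.mul_sum]
    refine Finset.sum_congr rfl fun i _ => ?_
    rw [Finset.sum_sub_distrib, hgeom _ (hwN i), hgeom _ (hwN' i)]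
    split_ifs <;> simp
  rw [hq, sum_range_mul_periodic f 10 q hper] at h1
  simp only [Finset.sum_range_succ, Finset.sum_range_zero, hf, hc, Nat.reduceMod] at h1
  have h5 : ∀ n, ζ ^ (j * (n + 5)) = ζ ^ (j * n) := fun n => by
    rw [mul_add, pow_add, mul_comm j 5, pow_mul ζ 5 j, hζ.pow_eq_one, one_pow, mul_one]
  have e5 := h5 0
  have e7 := h5 2
  have e9 := h5 4
  simp only [Nat.reduceAdd, mul_zero, pow_zero] at e5 e7 e9
  rw [e5, e7, e9] at h1
  norm_num at h1
  simp only [Fin.sum_univ_five, Fin.val_zero, Fin.val_one, Fin.val_two,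
    show ((3 : Fin 5) : ℕ) = 3 from rfl, show ((4 : Fin 5) : ℕ) = 4 from rfl]
  simp only [pow_zero, pow_one, mul_one, mul_zero] at h1 ⊢
  have hq' : ((q : ℂ) * 2) ≠ 0 := mul_ne_zero (Nat.cast_ne_zero.2 hq0) two_ne_zero
  apply mul_left_cancel₀ hq'
  linear_combination h1

/-- `16 ∣ χ(1) - χ(a)`: two commuting elements of order four generate `ℤ/4 × ℤ/4`. -/
theorem sixteen_dvd (χ : IrrCharacter G) {d α : ℤ} (hd : (χ : G → ℂ) 1 = d)
    (hα : (χ : G → ℂ) (D.a 0) = α) : (16 : ℤ) ∣ d - α := by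
  classical
  obtain ⟨P, hP⟩ := D.sylow
  obtain ⟨T, hTS, hTA⟩ := exists_not_zInv D
  obtain ⟨γ, hγ⟩ := exists_int_four D χ hTS hTA
  -- an element commuting with `T`, outside `A⟨T⟩`
  obtain ⟨U, hUS, hTU, hUA, hUTA⟩ : ∃ U ∈ D.S, Commute T U ∧ U ∉ zInv D.S ∧ U * T ∉ zInv D.S := by
    by_contra hcon
    push Not at hcon
    have hherm : HermLike ↥(P : Subgroup G) 4 := by rw [hP]; exact D.herm
    have hTP : T ∈ (P : Subgroup G) := by rw [hP]; exact hTS
    have hnc : (⟨T, hTP⟩ : ↥(P : Subgroup G)) ∉ Subgroup.center ↥(P : Subgroup G) := fun h0 => by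
      have : T ∈ zInv (P : Subgroup G) := ⟨hTP, congrArg Subtype.val (hherm.center_sq _ h0),
        fun s hs => congrArg Subtype.val (Subgroup.mem_center_iff.1 h0 ⟨s, hs⟩)⟩
      rw [hP] at this
      exact hTA this
    have h16 := PiHom.Crit.card_centralizer_in P hherm hnc
    have hle : Nat.card ↥(Subgroup.centralizer
        ({(⟨T, hTP⟩ : ↥(P : Subgroup G))} : Set ↥(P : Subgroup G))) ≤
          Nat.card (↥(zInv D.S) ⊕ ↥(zInv D.S)) := by
      refine Nat.card_le_card_of_injective (fun u =>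
        if h : (u.1 : G) ∈ zInv D.S then Sum.inl ⟨_, h⟩
        else Sum.inr ⟨(u.1 : G) * T, hcon _ (hP.le u.1.2) (congrArg Subtype.val
          (Subgroup.mem_centralizer_singleton_iff.1 u.2)).symm h⟩) fun u v h => ?_
      apply Subtype.ext
      apply Subtype.ext
      dsimp only at h
      split_ifs at h with h1 h2
      · exact congrArg (fun z : ↥(zInv D.S) => (z : G)) (Sum.inl.inj h)
      · exact mul_right_cancel (congrArg (fun z : ↥(zInv D.S) => (z : G)) (Sum.inr.inj h))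
    rw [h16, Nat.card_sum, card_zInv D] at hle
    omega
  have hT4 : T ^ 4 = 1 := by rw [show (4 : ℕ) = 2 ^ 2 from rfl, ← orderOf_four D hTS hTA, pow_orderOf_eq_one]
  have hU4 : U ^ 4 = 1 := by rw [show (4 : ℕ) = 2 ^ 2 from rfl, ← orderOf_four D hUS hUA, pow_orderOf_eq_one]
  let φ : Multiplicative (ZMod 4 × ZMod 4) →* G :=
    MonoidHom.mk' (fun p => T ^ (p.toAdd.1.val) * U ^ (p.toAdd.2.val)) fun p q => by
      simp only [toAdd_mul, Prod.fst_add, Prod.snd_add, ZMod.val_add]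
      rw [← pow_eq_pow_mod _ hT4, ← pow_eq_pow_mod _ hU4, pow_add, pow_add]
      have hc2 := ((hTU.pow_pow q.toAdd.1.val p.toAdd.2.val).eq).symm
      calc T ^ p.toAdd.1.val * T ^ q.toAdd.1.val * (U ^ p.toAdd.2.val * U ^ q.toAdd.2.val)
          = T ^ p.toAdd.1.val * (T ^ q.toAdd.1.val * U ^ p.toAdd.2.val) * U ^ q.toAdd.2.val := by
            group
        _ = _ := by rw [← hc2]; group
  let ψ : Multiplicative (ZMod 4 × ZMod 4) →* ℂˣ := MonoidHom.mk'
    (fun p => (Units.mk0 Complex.I Complex.I_ne_zero) ^ (p.toAdd.2.val)) fun p q => by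
      simp only [toAdd_mul, Prod.snd_add, ZMod.val_add]
      rw [← pow_add, ← pow_eq_pow_mod]
      refine Units.ext ?_
      simp [Complex.I_pow_four]
  letI := Fintype.ofFinite (Multiplicative (ZMod 4 × ZMod 4))
  obtain ⟨m, hm⟩ := classInner_char_nat
    (CharGalois.isCharacter_comp (irr_isCharacter χ) φ) (isCharacter_of_irr (isIrrCharacter_of_hom ψ))
  have hval : ∀ p : Multiplicative (ZMod 4 × ZMod 4),
      (χ : G → ℂ) (φ p) =
        if p.toAdd.1.val % 2 = 0 ∧ p.toAdd.2.val % 2 = 0 then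
          (if p.toAdd.1.val = 0 ∧ p.toAdd.2.val = 0 then (d : ℂ) else (α : ℂ))
        else (γ : ℂ) := by
    intro p
    set a := p.toAdd.1.val with ha
    set b := p.toAdd.2.val with hb
    have la : a < 4 := ZMod.val_lt _
    have lb : b < 4 := ZMod.val_lt _
    show (χ : G → ℂ) (T ^ a * U ^ b) = _
    have hmem : T ^ a * U ^ b ∈ D.S := D.S.mul_mem (pow_mem hTS a) (pow_mem hUS b)
    have hT2 : T ^ (2 * (a / 2)) ∈ zInv D.S := by
      rw [pow_mul, pow_two]; exact pow_mem (sq_mem D hTS) _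
    have hU2 : U ^ (2 * (b / 2)) ∈ zInv D.S := by
      rw [pow_mul, pow_two]; exact pow_mem (sq_mem D hUS) _
    have hsplit : T ^ a * U ^ b = T ^ (a % 2) * U ^ (b % 2) * (T ^ (2 * (a / 2)) * U ^ (2 * (b / 2))) := by
      conv_lhs => rw [← Nat.mod_add_div a 2, ← Nat.mod_add_div b 2, pow_add, pow_add]
      have h := ((hTU.pow_pow (2 * (a / 2)) (b % 2)).eq)
      calc T ^ (a % 2) * T ^ (2 * (a / 2)) * (U ^ (b % 2) * U ^ (2 * (b / 2)))
          = T ^ (a % 2) * (T ^ (2 * (a / 2)) * U ^ (b % 2)) * U ^ (2 * (b / 2)) := by group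
        _ = _ := by rw [h]; group
    by_cases hcase : a % 2 = 0 ∧ b % 2 = 0
    · rw [if_pos hcase]
      by_cases h0 : a = 0 ∧ b = 0
      · rw [if_pos h0, h0.1, h0.2, pow_zero, pow_zero, one_mul, hd]
      · rw [if_neg h0]
        have hz : T ^ a * U ^ b ∈ zInv D.S := by
          rw [hsplit, hcase.1, hcase.2, pow_zero, pow_zero, one_mul, one_mul]
          exact mul_mem hT2 hU2
        have hne : T ^ a * U ^ b ≠ 1 := fun e => by
          have hT2' : T ^ 2 ≠ 1 := fun e2 => hTA (mem_zInv_of_sq D hTS (by rwa [← pow_two]))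
          have hU2' : U ^ 2 ≠ 1 := fun e2 => hUA (mem_zInv_of_sq D hUS (by rwa [← pow_two]))
          have hTU2 : T ^ 2 * U ^ 2 ≠ 1 := fun e2 =>
            hUTA (mem_zInv_of_sq D (D.S.mul_mem hUS hTS) (by
              rw [← pow_two, hTU.symm.mul_pow, (hTU.symm.pow_pow 2 2).eq]; exact e2))
          have ca : a = 0 ∨ a = 2 := by omega
          have cb : b = 0 ∨ b = 2 := by omega
          rcases ca with ea | ea <;> rcases cb with eb | eb <;> rw [ea, eb] at e
          · exact h0 ⟨ea, eb⟩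
          · exact hU2' (by simpa using e)
          · exact hT2' (by simpa using e)
          · exact hTU2 e
        obtain ⟨l, hl⟩ := D.a_cover _ hz hne
        rw [hl, apply_a D, hα]
    · rw [if_neg hcase, ← hγ]
      refine apply_four D χ hmem (fun hz => ?_) hTS hTA
      rw [hsplit, Subgroup.mul_mem_cancel_right _ (mul_mem hT2 hU2)] at hz
      have ca := Nat.mod_two_eq_zero_or_one a
      have cb := Nat.mod_two_eq_zero_or_one b
      rcases ca with ea | ea <;> rcases cb with eb | eb <;> rw [ea, eb] at hz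
      · exact hcase ⟨ea, eb⟩
      · exact hUA (by simpa using hz)
      · exact hTA (by simpa using hz)
      · refine hUTA ?_
        rw [← hTU.eq]
        simpa using hz
  have hcard : Nat.card (Multiplicative (ZMod 4 × ZMod 4)) = 16 := by
    rw [Nat.card_congr Multiplicative.toAdd, Nat.card_prod, Nat.card_zmod]
  simp only [classInner, hcard, hval] at hm
  rw [← Equiv.sum_comp (Multiplicative.ofAdd : ZMod 4 × ZMod 4 ≃ _), Fintype.sum_prod_type] at hm
  simp only [ψ, MonoidHom.mk'_apply, toAdd_ofAdd] at hm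
  have hs4 : ∀ g : ZMod 4 → ℂ, ∑ a, g a = g 0 + g 1 + g 2 + g 3 := fun g => Fin.sum_univ_four g
  simp only [hs4, show (0 : ZMod 4).val = 0 from rfl, show (1 : ZMod 4).val = 1 from rfl,
    show (2 : ZMod 4).val = 2 from rfl, show (3 : ZMod 4).val = 3 from rfl] at hm
  simp [pow_succ] at hm
  have h1 : ((d - α : ℤ) : ℂ) = ((16 * (m : ℤ) : ℤ) : ℂ) := by
    push_cast
    linear_combination 16 * hm
  exact ⟨m, by exact_mod_cast h1⟩

/-- `64` divides the sum of the values on `S`; with the previous congruence `α ≡ γ (mod 4)`. -/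
theorem four_dvd (χ : IrrCharacter G) {α γ : ℤ} (hα : (χ : G → ℂ) (D.a 0) = α)
    (hγ : ∀ s ∈ D.S, s ∉ zInv D.S → (χ : G → ℂ) s = γ) : (4 : ℤ) ∣ γ - α := by
  classical
  letI := Fintype.ofFinite ↥D.S
  have hd : (χ : G → ℂ) 1 = ((charDegree (χ : G → ℂ) : ℤ) : ℂ) := by
    rw [LinearTwist.apply_one_eq_charDegree (irr_isCharacter χ)]; simp
  set d : ℤ := (charDegree (χ : G → ℂ) : ℤ)
  have h16 := sixteen_dvd D χ hd hα
  obtain ⟨m, hm⟩ := Sporadic.CharTools.exists_nat_sum (irr_isCharacter χ) D.S.subtype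
  rw [card_S D] at hm
  simp only [Subgroup.coe_subtype] at hm
  set Z := Finset.univ.filter fun s : ↥D.S => (s : G) ∈ zInv D.S with hZ
  have hZ4 : Z.card = 4 := by
    rw [hZ, ← card_zInv D, ← Fintype.card_subtype, ← Nat.card_eq_fintype_card]
    exact Nat.card_congr
      { toFun := fun s => ⟨(s.1 : G), s.2⟩
        invFun := fun z => ⟨⟨z.1, z.2.1⟩, z.2⟩
        left_inv := fun _ => rfl
        right_inv := fun _ => rfl }
  have hcpl : Zᶜ.card = 60 := by
    rw [Finset.card_compl, hZ4, ← Nat.card_eq_fintype_card, card_S D]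
  rw [← Finset.sum_add_sum_compl Z, Finset.sum_congr rfl (s₁ := Zᶜ) (g := fun _ => (γ : ℂ))
    (fun s hs => hγ s s.2 fun h => (Finset.mem_compl.1 hs)
      (Finset.mem_filter.2 ⟨Finset.mem_univ _, h⟩)),
    ← Finset.add_sum_erase Z _ (show (1 : ↥D.S) ∈ Z from
      Finset.mem_filter.2 ⟨Finset.mem_univ _, one_mem _⟩),
    Finset.sum_congr rfl (s₁ := Z.erase 1) (g := fun _ => (α : ℂ)) (fun s hs => ?_),
    Finset.sum_const, Finset.sum_const, Finset.card_erase_of_mem
      (show (1 : ↥D.S) ∈ Z from Finset.mem_filter.2 ⟨Finset.mem_univ _, one_mem _⟩), hZ4, hcpl,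
    OneMemClass.coe_one, hd] at hm
  · simp only [nsmul_eq_mul] at hm
    norm_num at hm
    have h64 : ((d + 3 * α + 60 * γ : ℤ) : ℂ) = ((64 * (m : ℤ) : ℤ) : ℂ) := by
      push_cast
      linear_combination hm
    have := Int.cast_injective h64
    omega
  · obtain ⟨hs1, hs2⟩ := Finset.mem_erase.1 hs
    obtain ⟨l, hl⟩ := D.a_cover _ (Finset.mem_filter.1 hs2).2 fun e => hs1 (Subtype.ext e)
    show (χ : G → ℂ) (s : G) = α
    rw [hl, apply_a D, hα]

end CfsgLib.UFour73.BlockAux
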