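import Cfsg.Agent.Lib.UFour73.BlockNums
import Cfsg.Agent.Lib.Blocks.BlockGalois
import Cfsg.Agent.Lib.Blocks.ThirdMain

/-!
# The Galois twist `χ ↦ χ (· ^ K)` on the principal block and on the averages
-/

set_option autoImplicit false
set_option linter.style.haveILetI false
set_option linter.unusedSectionVars false

namespace CfsgLib.UFour73.BlockAux

open Cfsg CfsgLib.Characters CfsgLib.Blocks
open CfsgLib.PiHom (zInv)

universe u

variable {G : Type u} [Group G] [Fintype G] {p : ℕ} {M : Ideal AlgInt}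

/-- `g ↦ χ (g ^ K)` for `K` prime to the group order. -/
noncomputable def powChar {K : ℕ} (hK : K.Coprime (Nat.card G)) (χ : IrrCharacter G) :
    IrrCharacter G :=
  ⟨fun g => (χ : G → ℂ) (g ^ K), CharGalois.isIrrCharacter_pow χ.2 hK⟩

theorem powChar_apply {K : ℕ} (hK : K.Coprime (Nat.card G)) (χ : IrrCharacter G) (g : G) :
    (powChar hK χ : G → ℂ) g = (χ : G → ℂ) (g ^ K) := rfl

theorem powChar_bijective {K : ℕ} (hK : K.Coprime (Nat.card G)) :
    Function.Bijective (powChar (G := G) hK) := by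
  refine Finite.injective_iff_bijective.1 fun χ ψ h => ?_
  refine Subtype.ext (funext fun g => ?_)
  obtain ⟨x, rfl⟩ := (powCoprime (hK.symm)).surjective g
  exact congrFun (congrArg Subtype.val h) x

/-- The principal block is stable under the twist. -/
theorem powChar_mem (hM : IsPModular p M) {K : ℕ} (hK : K.Coprime (Nat.card G))
    {χ : IrrCharacter G} (hχ : χ ∈ principalBlock M G) :
    powChar hK χ ∈ principalBlock M G := by
  haveI : NeZero (Nat.card G) := ⟨Nat.card_pos.ne'⟩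
  obtain ⟨σ, hσ⟩ := CharGalois.exists_autComplex (Nat.card G) hK
  let f : AlgInt →+* AlgInt :=
    RingHom.codRestrict (σ.toRingHom.comp (algebraMap AlgInt ℂ)) AlgInt.toSubring fun a =>
      map_isIntegral_int σ.toRingHom a.2
  let e : AlgInt →+* AlgInt :=
    RingHom.codRestrict (σ.symm.toRingHom.comp (algebraMap AlgInt ℂ)) AlgInt.toSubring fun a =>
      map_isIntegral_int σ.symm.toRingHom a.2
  have hfe : ∀ a, f (e a) = a := fun a => Subtype.ext (σ.apply_symm_apply _)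
  haveI := IsPModular.isMaximal hM
  have hM' : IsPModular p (M.comap f) :=
    ⟨hM.1, Ideal.comap_isMaximal_of_surjective f fun a => ⟨e a, hfe a⟩, by
      rw [Ideal.mem_comap, map_natCast]; exact hM.2.2⟩
  intro g
  obtain ⟨r, hr, hrval⟩ := centralChar_sub_mem_of_sameBlock hM hM' (χ := principalIrr G) hχ g
  have hmap : ∀ ψ : IrrCharacter G,
      σ (centralChar (ψ : G → ℂ) g) = centralChar (powChar hK ψ : G → ℂ) g := fun ψ => by
    simp only [centralChar, map_div₀, map_mul, map_natCast, powChar_apply,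
      CharGalois.map_char_eq_pow (irr_isCharacter ψ) σ hσ]
  have h1 : (f r : ℂ) = centralChar (fun _ : G => (1 : ℂ)) g -
      centralChar (powChar hK χ : G → ℂ) g := by
    show σ (r : ℂ) = _
    rw [hrval, map_sub, hmap, hmap]
    rfl
  rw [← h1]
  exact memLocalIdeal_coe hM (Ideal.mem_comap.1 hr)

variable (D : Setting G)

open scoped Classical in
/-- The twist moves the index of the averages by `j ↦ 2 j` when `K ≡ 3 (mod 5)`. -/
theorem avg_twist {K : ℕ} (hK : K.Coprime (Nat.card G)) (h3 : K % 5 = 3) {ζ : ℂ}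
    (hζ : IsPrimitiveRoot ζ 5) (f : G → ℂ) (W : Subgroup G) (hW0 : D.W0 ≤ W)
    (hXW : D.X ≤ Subgroup.normalizer (W : Set G)) (hmeet : ∀ w ∈ W, w ∈ D.X → w ∈ D.W0) (j : Fin 5) :
    avg D.toLocal ζ (fun g => f (g ^ K)) W j = avg D.toLocal ζ f W (Arith.dbl j) := by
  set N := D.S ⊔ W with hN
  have hSW : D.S ≤ Subgroup.normalizer (W : Set G) := (S_le_X D).trans hXW
  have hXN : D.X ≤ Subgroup.normalizer (N : Set G) :=
    (le_inf (X_norm_S D) hXW).trans (Subgroup.normalizer_inf_normalizer_le_normalizer_sup _ _)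
  have hWodd : ∀ s ∈ D.S, s ∈ W → s = 1 := fun s hs hsW =>
    eq_one_of_odd_of_mem D hs (odd_of_mem D.W0_odd (hmeet s hsW (S_le_X D hs)))
  -- the parametrisation is injective
  let ev : Fin 5 × ↥D.S × ↥W → G := fun p => D.r ^ (p.1 : ℕ) * p.2.1 * p.2.2
  have hev : Function.Injective ev := by
    rintro ⟨i, s, w⟩ ⟨i', s', w'⟩ h
    simp only [ev] at h
    have hx : (D.r ^ (i' : ℕ))⁻¹ * D.r ^ (i : ℕ) = (s' : G) * ((w' : G) * (w : G)⁻¹) * (s : G)⁻¹ := by
      calc (D.r ^ (i' : ℕ))⁻¹ * D.r ^ (i : ℕ)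
          = (D.r ^ (i' : ℕ))⁻¹ * (D.r ^ (i : ℕ) * s * w) * (w : G)⁻¹ * (s : G)⁻¹ := by group
        _ = _ := by rw [h]; group
    have hX : (w' : G) * (w : G)⁻¹ ∈ D.X := by
      have h1 : (w' : G) * (w : G)⁻¹ =
          (s' : G)⁻¹ * ((D.r ^ (i' : ℕ))⁻¹ * D.r ^ (i : ℕ)) * s := by rw [hx]; group
      rw [h1]
      exact D.X.mul_mem (D.X.mul_mem (D.X.inv_mem (S_le_X D s'.2)) (D.X.mul_mem
        (D.X.inv_mem (D.X.pow_mem (r_mem_X D) _)) (D.X.pow_mem (r_mem_X D) _))) (S_le_X D s.2)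
    have hw : (w' : G) * (w : G)⁻¹ ∈ D.W0 := hmeet _ (W.mul_mem w'.2 (W.inv_mem w.2)) hX
    have hmem : D.r ^ ((i : ℕ) + 4 * (i' : ℕ)) ∈ D.S ⊔ D.W0 := by
      have e : D.r ^ ((i : ℕ) + 4 * (i' : ℕ)) =
          (D.r ^ (i' : ℕ))⁻¹ * D.r ^ (i : ℕ) * (D.r ^ 5) ^ (i' : ℕ) := by
        rw [← pow_mul, mul_assoc, ← pow_add,
          show (i : ℕ) + 5 * (i' : ℕ) = (i' : ℕ) + ((i : ℕ) + 4 * (i' : ℕ)) by omega, pow_add _ (i' : ℕ),
          inv_mul_cancel_left]
      rw [e, hx]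
      exact mul_mem (mul_mem (mul_mem (Subgroup.mem_sup_left s'.2) (Subgroup.mem_sup_right hw))
        (inv_mem (Subgroup.mem_sup_left s.2))) (Subgroup.mem_sup_right (pow_mem D.r_pow _))
    have h5 := dvd_of_mem D hmem
    obtain rfl : i = i' := Fin.ext (by have := i.2; have := i'.2; omega)
    rw [mul_assoc, mul_assoc, mul_left_cancel_iff] at h
    have h2 : (s' : G)⁻¹ * s = (w' : G) * (w : G)⁻¹ := by
      calc (s' : G)⁻¹ * s = (s' : G)⁻¹ * (s * w) * (w : G)⁻¹ := by group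
        _ = _ := by rw [h]; group
    obtain rfl : s' = s := Subtype.ext (inv_mul_eq_one.1 (hWodd _
      (D.S.mul_mem (D.S.inv_mem s'.2) s.2) (h2 ▸ W.mul_mem w'.2 (W.inv_mem w.2))))
    rw [mul_left_cancel_iff] at h
    exact Prod.ext rfl (Prod.ext rfl (Subtype.ext h))
  -- powers stay in the shape
  have hshape : ∀ (i : ℕ) (n : G), n ∈ N → ∀ m : ℕ, ∃ n' ∈ N,
      (D.r ^ i * n) ^ m = D.r ^ (i * m) * n' := fun i n hn m => by
    induction m with
    | zero => exact ⟨1, N.one_mem, by simp⟩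
    | succ m ih =>
      obtain ⟨n', hn', he⟩ := ih
      have h1 := (Subgroup.mem_normalizer_iff.1
        (hXN (D.X.inv_mem (D.X.pow_mem (r_mem_X D) i))) n').1 hn'
      rw [inv_inv] at h1
      exact ⟨(D.r ^ i)⁻¹ * n' * D.r ^ i * n, N.mul_mem h1 hn, by
        rw [pow_succ, he, mul_add, mul_one, pow_add]; group⟩
  have hex : ∀ p, ∃ q, ev q = ev p ^ K ∧ (q.1 : ℕ) = 3 * (p.1 : ℕ) % 5 := by
    rintro ⟨i, s, w⟩
    obtain ⟨n', hn', he⟩ := hshape i ((s : G) * w)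
      (N.mul_mem (Subgroup.mem_sup_left s.2) (Subgroup.mem_sup_right w.2)) K
    set i' := 3 * (i : ℕ) % 5 with hi'
    have hiK : (i : ℕ) * K % 5 = i' := by
      rw [hi', Nat.mul_mod, h3]; omega
    have hrest : (D.r ^ 5) ^ ((i : ℕ) * K / 5) * n' ∈ N :=
      N.mul_mem (Subgroup.mem_sup_right (hW0 (pow_mem D.r_pow _))) hn'
    obtain ⟨s', hs', w', hw', hsw⟩ := (mem_sup_iff hSW).1 hrest
    refine ⟨(⟨i', Nat.mod_lt _ (by norm_num)⟩, ⟨s', hs'⟩, ⟨w', hw'⟩), ?_, rfl⟩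
    simp only [ev]
    rw [mul_assoc (D.r ^ (i : ℕ)), he, mul_assoc (D.r ^ i'), hsw, ← mul_assoc, ← pow_mul, ← pow_add,
      ← hiK, Nat.mod_add_div]
  choose φ hφ hφ1 using hex
  have hφb : Function.Bijective φ := Finite.injective_iff_bijective.1 fun p q h => by
    refine hev ((powCoprime hK.symm).injective ?_)
    show ev p ^ K = ev q ^ K
    rw [← hφ, ← hφ, h]
  have hpow : ∀ n, ζ ^ (n % 5) = ζ ^ n := fun n => by
    conv_rhs => rw [← Nat.mod_add_div n 5, pow_add, pow_mul, hζ.pow_eq_one, one_pow, mul_one]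
  simp only [avg]
  congr 1
  simp only [← Fintype.sum_prod_type']
  refine Fintype.sum_bijective (fun p : Fin 5 × ↥D.S × ↥W => φ p) hφb _ _ fun p => ?_
  rw [show f ((D.r ^ (p.1 : ℕ) * p.2.1 * p.2.2) ^ K) = f (D.r ^ ((φ p).1 : ℕ) * (φ p).2.1 * (φ p).2.2) from
    congrArg f (hφ p).symm]
  congr 2
  rw [← hpow ((p.1 : ℕ) * (j : ℕ)), ← hpow (((φ p).1 : ℕ) * (Arith.dbl j : ℕ)), hφ1]
  congr 1
  rw [Arith.dbl, Fin.val_mul]
  show (p.1 : ℕ) * (j : ℕ) % 5 = 3 * (p.1 : ℕ) % 5 * (2 * (j : ℕ) % 5) % 5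
  rw [← Nat.mul_mod, show 3 * (p.1 : ℕ) * (2 * (j : ℕ)) = (p.1 : ℕ) * j + 5 * ((p.1 : ℕ) * j) by ring,
    Nat.add_mul_mod_self_left]

end CfsgLib.UFour73.BlockAux
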