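import Cfsg.Agent.Lib.Characters.Decomp
import Cfsg.Agent.Lib.Blocks.ClassCount

/-!
# Class equations from a tight subset of a centraliser

If `C ≤ G`, `D ⊆ C` is invariant under `C` and two elements of `D` are only conjugate by elements of
`C`, then the indicator of the closure of `D` under conjugation has coefficient `|D| / |C| · conj b`
at the characters whose values on `D` are the constants `b`, and zero elsewhere as soon as the
squares of these constants exhaust the norm of the indicator.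
-/

set_option autoImplicit false
set_option linter.style.haveILetI false

namespace CfsgLib.UFour73

open Cfsg CfsgLib.Characters
open scoped ComplexConjugate

universe u

variable {G : Type u} [Group G] [Fintype G]

open scoped Classical in
/-- the closure under conjugation -/
noncomputable def closConj (D : Finset G) : Finset G :=
  Finset.univ.filter fun g => ∃ h : G, h * g * h⁻¹ ∈ D

theorem mem_closConj {D : Finset G} {g : G} : g ∈ closConj D ↔ ∃ h : G, h * g * h⁻¹ ∈ D := by
  classical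
  simp [closConj]

open scoped Classical in
/-- its indicator -/
noncomputable def closInd (D : Finset G) : G → ℂ := fun g => if g ∈ closConj D then 1 else 0

theorem isClassFunction_closInd (D : Finset G) : IsClassFunction G (closInd D) := by
  intro g k
  classical
  simp only [closInd, mem_closConj]
  refine if_congr ⟨?_, ?_⟩ rfl rfl
  · rintro ⟨h, hh⟩
    exact ⟨h * k, by rwa [show h * k * g * (h * k)⁻¹ = h * (k * g * k⁻¹) * h⁻¹ by group]⟩
  · rintro ⟨h, hh⟩
    exact ⟨h * k⁻¹, by rwa [show h * k⁻¹ * (k * g * k⁻¹) * (h * k⁻¹)⁻¹ = h * g * h⁻¹ by group]⟩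

/-- A subset of a subgroup that is a union of its classes, fusion in it being controlled there. -/
structure Tight (C : Subgroup G) (D : Finset G) : Prop where
  le : ∀ d ∈ D, d ∈ C
  inv : ∀ c ∈ C, ∀ d ∈ D, c * d * c⁻¹ ∈ D
  tight : ∀ d ∈ D, ∀ h : G, h * d * h⁻¹ ∈ D → h ∈ C

variable {C : Subgroup G} {D : Finset G}

theorem Tight.sum_clos (hD : Tight C D) (f : G → ℂ) (hf : IsClassFunction G f) :
    (Nat.card ↥C : ℂ) * ∑ t ∈ closConj D, f t = (Nat.card G : ℂ) * ∑ d ∈ D, f d := by
  classical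
  set φ : G × G → G := fun p => p.1 * p.2 * p.1⁻¹ with hφ
  have himg : (Finset.univ ×ˢ D).image φ = closConj D := by
    ext g
    simp only [Finset.mem_image, Finset.mem_product, Finset.mem_univ, true_and, mem_closConj, hφ]
    constructor
    · rintro ⟨⟨h, d⟩, hd, rfl⟩
      exact ⟨h⁻¹, by simpa [mul_assoc] using hd⟩
    · rintro ⟨h, hh⟩
      exact ⟨(h⁻¹, h * g * h⁻¹), hh, by group⟩
  have hfib : ∀ t ∈ closConj D,
      ((Finset.univ ×ˢ D).filter fun p => φ p = t).card = Nat.card ↥C := by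
    intro t ht
    obtain ⟨h, hh⟩ := mem_closConj.1 ht
    haveI := Fintype.ofFinite ↥C
    rw [Nat.card_eq_fintype_card, ← Finset.card_univ]
    symm
    refine Finset.card_bij (fun (c : ↥C) _ => (h⁻¹ * (c : G), (c : G)⁻¹ * (h * t * h⁻¹) * c))
      (fun c _ => ?_) (fun a _ b _ e => ?_) (fun p hp => ?_)
    · refine Finset.mem_filter.2 ⟨Finset.mem_product.2 ⟨Finset.mem_univ _, ?_⟩, by simp only [hφ]; group⟩
      have h1 := hD.inv _ (C.inv_mem c.2) _ hh
      rwa [inv_inv] at h1
    · exact Subtype.ext (mul_left_cancel (congrArg Prod.fst e))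
    · obtain ⟨hp1, hp2⟩ := Finset.mem_filter.1 hp
      obtain ⟨x, d⟩ := p
      have hd : d ∈ D := (Finset.mem_product.1 hp1).2
      simp only [hφ] at hp2
      have hx : h * x ∈ C := hD.tight d hd _ (by
        rwa [show h * x * d * (h * x)⁻¹ = h * (x * d * x⁻¹) * h⁻¹ by group, hp2])
      refine ⟨⟨h * x, hx⟩, Finset.mem_univ _, ?_⟩
      rw [← hp2]
      ext <;> simp only <;> group
  have h1 : ∑ p ∈ (Finset.univ : Finset G) ×ˢ D, f (φ p) = (Nat.card G : ℂ) * ∑ d ∈ D, f d := by
    rw [Finset.sum_product, Finset.sum_congr rfl fun x _ => Finset.sum_congr rfl fun d _ =>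
      show f (φ (x, d)) = f d from hf d x]
    rw [Finset.sum_const, Finset.card_univ, ← Nat.card_eq_fintype_card, nsmul_eq_mul]
  rw [← h1, Finset.sum_comp f φ, himg, Finset.mul_sum]
  refine Finset.sum_congr rfl fun t ht => ?_
  rw [hfib t ht, nsmul_eq_mul]

theorem Tight.card_clos (hD : Tight C D) :
    (Nat.card ↥C : ℂ) * ((closConj D).card : ℂ) = (Nat.card G : ℂ) * (D.card : ℂ) := by
  have h := hD.sum_clos (fun _ => 1) (fun _ _ => rfl)
  simpa using h

theorem Tight.classInner_eq (hD : Tight C D) (χ : IrrCharacter G) :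
    classInner (closInd D) (χ : G → ℂ) =
      (∑ d ∈ D, conj ((χ : G → ℂ) d)) / (Nat.card ↥C : ℂ) := by
  classical
  have h1 := hD.sum_clos (fun t => conj ((χ : G → ℂ) t)) (fun g h => by
    show conj ((χ : G → ℂ) (h * g * h⁻¹)) = conj ((χ : G → ℂ) g)
    rw [irr_isClassFunction χ g h])
  have hG : (Nat.card G : ℂ) ≠ 0 := Nat.cast_ne_zero.2 Nat.card_pos.ne'
  have hC : (Nat.card ↥C : ℂ) ≠ 0 := Nat.cast_ne_zero.2 Nat.card_pos.ne'
  have h2 : ∑ g, closInd D g * conj ((χ : G → ℂ) g) = ∑ t ∈ closConj D, conj ((χ : G → ℂ) t) := by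
    simp [closInd, Finset.sum_ite_mem]
  rw [classInner, h2, eq_div_iff hC, mul_assoc, mul_comm _ (Nat.card ↥C : ℂ), h1, ← mul_assoc,
    inv_mul_cancel₀ hG, one_mul]

/-- The pairs of conjugates of `a` with product in the closure of `D`, counted by the characters
taking constant values on `D` that exhaust the norm. -/
theorem Tight.pairs_eq (hD : Tight C D) (hne : D.Nonempty) {ι : Type*} [Fintype ι]
    (χ : ι → IrrCharacter G) (hinj : Function.Injective χ) (b : ι → ℂ)
    (hb : ∀ i, ∀ d ∈ D, (χ i : G → ℂ) d = b i)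
    (hnorm : (∑ i, b i * conj (b i)) * (D.card : ℂ) = (Nat.card ↥C : ℂ)) (a : G) :
    ((ClassCount.pairs a a (closConj D)).card : ℂ) *
        (Nat.card (Subgroup.centralizer ({a} : Set G)) : ℂ) ^ 2 * (Nat.card ↥C : ℂ) =
      (Nat.card G : ℂ) ^ 2 * (D.card : ℂ) *
        ∑ i, (χ i : G → ℂ) a ^ 2 * conj (b i) / (χ i : G → ℂ) 1 := by
  classical
  have hG : (Nat.card G : ℂ) ≠ 0 := Nat.cast_ne_zero.2 Nat.card_pos.ne'
  have hC : (Nat.card ↥C : ℂ) ≠ 0 := Nat.cast_ne_zero.2 Nat.card_pos.ne'
  have hd0 : (D.card : ℂ) ≠ 0 := Nat.cast_ne_zero.2 (Finset.card_pos.2 hne).ne'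
  set c : IrrCharacter G → ℂ := fun ζ => classInner (closInd D) (ζ : G → ℂ) with hc
  have hci : ∀ i, c (χ i) = (D.card : ℂ) * conj (b i) / (Nat.card ↥C : ℂ) := fun i => by
    simp only [hc, hD.classInner_eq]
    rw [Finset.sum_congr rfl fun d hd => show conj ((χ i : G → ℂ) d) = conj (b i) by rw [hb i d hd],
      Finset.sum_const, nsmul_eq_mul]
  have hpar : ∑ ζ, c ζ * conj (c ζ) = (D.card : ℂ) / (Nat.card ↥C : ℂ) := by
    rw [← classInner_eq_sum_mul (isClassFunction_closInd D), classInner]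
    have h1 : ∑ g, closInd D g * conj (closInd D g) = ((closConj D).card : ℂ) := by
      simp [closInd, apply_ite (conj : ℂ → ℂ)]
    rw [h1, eq_div_iff hC, mul_assoc, mul_comm _ (Nat.card ↥C : ℂ), hD.card_clos, ← mul_assoc,
      inv_mul_cancel₀ hG, one_mul]
  have himg : ∑ ζ ∈ Finset.univ.image χ, c ζ * conj (c ζ) = (D.card : ℂ) / (Nat.card ↥C : ℂ) := by
    rw [Finset.sum_image fun i _ j _ e => hinj e]
    simp only [hci, map_div₀, map_mul, Complex.conj_natCast, Complex.conj_conj]
    rw [Finset.sum_congr rfl fun i _ => show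
      (D.card : ℂ) * conj (b i) / (Nat.card ↥C : ℂ) * ((D.card : ℂ) * b i / (Nat.card ↥C : ℂ)) =
        b i * conj (b i) * ((D.card : ℂ) * ((D.card : ℂ) / (Nat.card ↥C : ℂ) ^ 2)) by field_simp,
      ← Finset.sum_mul, ← mul_assoc, hnorm]
    field_simp
  have hout : ∀ ζ, ζ ∉ Finset.univ.image χ → c ζ = 0 := by
    intro ζ hζ
    have h1 : ∑ ξ ∈ (Finset.univ.image χ)ᶜ, c ξ * conj (c ξ) = 0 := by
      have h2 := Finset.sum_add_sum_compl (Finset.univ.image χ) fun ξ => c ξ * conj (c ξ)
      rw [himg, hpar] at h2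
      exact add_eq_left.1 h2
    simp only [Complex.mul_conj] at h1
    rw [← Complex.ofReal_sum, Complex.ofReal_eq_zero] at h1
    exact Complex.normSq_eq_zero.1 ((Finset.sum_eq_zero_iff_of_nonneg fun x _ =>
      Complex.normSq_nonneg _).1 h1 ζ (Finset.mem_compl.2 hζ))
  have hsum : ∀ ζ : IrrCharacter G,
      ∑ t ∈ closConj D, (ζ : G → ℂ) t⁻¹ = (Nat.card G : ℂ) * c ζ := fun ζ => by
    rw [Finset.sum_congr rfl fun t _ => irr_apply_inv ζ t]
    simp only [hc, classInner, closInd, ite_mul, one_mul, zero_mul, Finset.sum_ite_mem,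
      Finset.univ_inter]
    rw [← mul_assoc, mul_inv_cancel₀ hG, one_mul]
  have key := ClassCount.card_pairs_mul_centralizers a a (closConj D)
  rw [mul_assoc, ← pow_two] at key
  rw [key]
  simp only [hsum]
  rw [← Finset.sum_subset (Finset.subset_univ (Finset.univ.image χ)) (fun ζ _ hζ => by
    rw [hout ζ hζ]; ring), Finset.sum_image fun i _ j _ e => hinj e, Finset.sum_mul,
    Finset.mul_sum]
  refine Finset.sum_congr rfl fun i _ => ?_
  rw [hci, ← ClassCount.card_div_degree]
  field_simp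

end CfsgLib.UFour73
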