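import Cfsg.Agent.Lib.UFour73.Setting
import Cfsg.Agent.Lib.UFour73.ClassEqBase
import Cfsg.Agent.Lib.PiHom.Colour
import Cfsg.Agent.Lib.PiHom.UnitaryCentral

/-!
# The three 2-singular sections inside the centraliser of an involution

`C = C(a₀) = θ X` has order `320 |θ|`; the sets `aθ`, `a (r^k)^S θ`, `{x ∈ S | x² = a, x ∉ A} θ` are
tight in it, and no product of two conjugates of `a` falls into the last two.
-/

set_option autoImplicit false
set_option linter.style.haveILetI false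

namespace CfsgLib.UFour73

open CfsgLib.PiHom (zInv)
open CfsgLib.InvCharSixtyFour (HermLike)

universe u

variable {G : Type u} [Group G]

namespace Setting

variable (E : Setting G)

theorem isPGroup : IsPGroup 2 ↥E.S := by
  obtain ⟨P, hP⟩ := E.sylow
  rw [← hP]; exact P.isPGroup'

theorem S_le : E.S ≤ E.X := by rw [E.X_eq]; exact le_sup_left.trans le_sup_left

theorem W0_leX : E.W0 ≤ E.X := by rw [E.X_eq]; exact le_sup_right.trans le_sup_left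

theorem r_mem : E.r ∈ E.X := by
  rw [E.X_eq]; exact Subgroup.mem_sup_right (Subgroup.mem_zpowers _)

theorem X_le_cent (i : Fin 3) : E.X ≤ Subgroup.centralizer ({E.a i} : Set G) := fun x hx =>
  (E.cent i x).2 ⟨1, one_mem _, x, hx, (one_mul x).symm⟩

theorem θ_le_cent (i : Fin 3) : E.θ i ≤ Subgroup.centralizer ({E.a i} : Set G) := fun u hu =>
  (E.cent i u).2 ⟨u, hu, 1, one_mem _, (mul_one u).symm⟩

theorem θ_conj (i : Fin 3) {c u : G} (hc : c ∈ Subgroup.centralizer ({E.a i} : Set G))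
    (hu : u ∈ E.θ i) : c * u * c⁻¹ ∈ E.θ i :=
  (Subgroup.mem_normalizer_iff.1 (E.cent_norm i hc) u).1 hu

theorem a_memS (i : Fin 3) : E.a i ∈ E.S := (E.a_mem i).1

theorem a_sq (i : Fin 3) : E.a i * E.a i = 1 := (E.a_mem i).2.1

theorem orderOf_a (i : Fin 3) : orderOf (E.a i) = 2 :=
  PiHom.orderOf_of_mem_zInv (E.a_mem i) (E.a_ne i)

theorem mem_zInv_of_sq {s : G} (hs : s ∈ E.S) (h2 : s * s = 1) : s ∈ zInv E.S :=
  ⟨hs, h2, fun t ht => congrArg Subtype.val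
    (Subgroup.mem_center_iff.1 (E.herm.sq_one ⟨s, hs⟩ (Subtype.ext h2)) ⟨t, ht⟩)⟩

theorem mem_center_iff (s : ↥E.S) : s ∈ Subgroup.center ↥E.S ↔ (s : G) ∈ zInv E.S := by
  constructor
  · intro hs
    refine ⟨s.2, congrArg Subtype.val (E.herm.center_sq s hs), fun t ht => ?_⟩
    exact congrArg Subtype.val (Subgroup.mem_center_iff.1 hs ⟨t, ht⟩)
  · intro hs
    exact Subgroup.mem_center_iff.2 fun t => Subtype.ext (hs.2.2 t t.2)

theorem card_zInv : Nat.card ↥(zInv E.S) = 4 := by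
  rw [← E.herm.card_center]
  exact Nat.card_congr
    { toFun := fun a => ⟨⟨a.1, a.2.1⟩, (E.mem_center_iff _).2 a.2⟩
      invFun := fun a => ⟨a.1.1, (E.mem_center_iff _).1 a.2⟩
      left_inv := fun _ => rfl
      right_inv := fun _ => rfl }

/-- `S W₀` as a set of products. -/
theorem mem_SW {g : G} : g ∈ E.S ⊔ E.W0 ↔ ∃ s ∈ E.S, ∃ w ∈ E.W0, g = s * w := by
  constructor
  · intro hg
    have h := Subgroup.coe_mul_of_left_le_normalizer_right E.S E.W0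
      (E.S_le.trans E.X_norm_W0)
    have h1 : g ∈ ((E.S ⊔ E.W0 : Subgroup G) : Set G) := hg
    rw [h] at h1
    obtain ⟨s, hs, w, hw, rfl⟩ := h1
    exact ⟨s, hs, w, hw, rfl⟩
  · rintro ⟨s, hs, w, hw, rfl⟩
    exact mul_mem (Subgroup.mem_sup_left hs) (Subgroup.mem_sup_right hw)

theorem r_conj_S {s : G} (hs : s ∈ E.S) : E.r * s * E.r⁻¹ ∈ E.S :=
  (Subgroup.mem_normalizer_iff.1 E.r_norm s).1 hs

theorem conj_W0 {x w : G} (hx : x ∈ E.X) (hw : w ∈ E.W0) : x * w * x⁻¹ ∈ E.W0 :=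
  (Subgroup.mem_normalizer_iff.1 (E.X_norm_W0 hx) w).1 hw

theorem r_inv_conj_S {s : G} (hs : s ∈ E.S) : E.r⁻¹ * s * E.r ∈ E.S := by
  have h := (Subgroup.mem_normalizer_iff.1 (inv_mem E.r_norm) s).1 hs
  rwa [inv_inv] at h

theorem pow_r_conj_S (k : ℕ) {s : G} (hs : s ∈ E.S) : (E.r ^ k)⁻¹ * s * E.r ^ k ∈ E.S := by
  have h := (Subgroup.mem_normalizer_iff.1 (inv_mem (pow_mem E.r_norm k)) s).1 hs
  rwa [inv_inv] at h

theorem zpowers_le_normalizer :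
    Subgroup.zpowers E.r ≤ Subgroup.normalizer ((E.S ⊔ E.W0 : Subgroup G) : Set G) := by
  rw [Subgroup.zpowers_le, Subgroup.mem_normalizer_iff]
  intro g
  constructor
  · intro hg
    obtain ⟨s, hs, w, hw, rfl⟩ := E.mem_SW.1 hg
    exact E.mem_SW.2 ⟨_, E.r_conj_S hs, _, E.conj_W0 E.r_mem hw, by group⟩
  · intro hg
    obtain ⟨s, hs, w, hw, e⟩ := E.mem_SW.1 hg
    refine E.mem_SW.2 ⟨_, E.r_inv_conj_S hs, E.r⁻¹ * w * E.r⁻¹⁻¹,
      E.conj_W0 (inv_mem E.r_mem) hw, ?_⟩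
    calc g = E.r⁻¹ * (E.r * g * E.r⁻¹) * E.r := by group
      _ = E.r⁻¹ * (s * w) * E.r := by rw [e]
      _ = _ := by group

theorem pow_r_mem_SW {k : ℕ} (h : E.r ^ k ∈ E.S ⊔ E.W0) : 5 ∣ k := by
  by_contra hk
  have h5 : E.r ^ 5 ∈ E.S ⊔ E.W0 := Subgroup.mem_sup_right E.r_pow
  have hcop : Nat.Coprime k 5 := ((Nat.prime_five.coprime_iff_not_dvd).2 hk).symm
  obtain ⟨l, -, hl⟩ := Nat.exists_mul_mod_eq_one_of_coprime hcop (by norm_num)
  refine E.r_not_mem ?_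
  have h1 : E.r ^ (k * l) ∈ E.S ⊔ E.W0 := by rw [pow_mul]; exact pow_mem h l
  rw [← Nat.div_add_mod (k * l) 5, hl, pow_add, pow_mul, pow_one] at h1
  have h2 := mul_mem (inv_mem (pow_mem h5 (k * l / 5))) h1
  rwa [inv_mul_cancel_left] at h2

theorem exists_eq {x : G} (hx : x ∈ E.X) :
    ∃ i : Fin 5, ∃ s ∈ E.S, ∃ w ∈ E.W0, x = E.r ^ i.val * s * w := by
  rw [E.X_eq, sup_comm] at hx
  have h1 : x ∈ ((Subgroup.zpowers E.r ⊔ (E.S ⊔ E.W0) : Subgroup G) : Set G) := hx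
  rw [Subgroup.coe_mul_of_left_le_normalizer_right _ _ E.zpowers_le_normalizer] at h1
  obtain ⟨_, ⟨k, rfl⟩, m, hm, rfl⟩ := h1
  obtain ⟨s, hs, w, hw, rfl⟩ := E.mem_SW.1 hm
  obtain ⟨i, hi⟩ : ∃ i : ℕ, k % 5 = (i : ℤ) := ⟨(k % 5).toNat, by omega⟩
  have hi5 : i < 5 := by omega
  have hk : E.r ^ k = E.r ^ i * (E.r ^ 5) ^ (k / 5) := by
    rw [← zpow_natCast E.r i, ← zpow_natCast E.r 5, ← zpow_mul, ← zpow_add]
    congr 1
    push_cast
    omega
  refine ⟨⟨i, hi5⟩, s, hs, _, mul_mem (zpow_mem E.r_pow (k / 5)) hw, ?_⟩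
  show E.r ^ k * (s * w) = _
  rw [hk]
  have hc := E.W0_comm _ (zpow_mem E.r_pow (k / 5)) s hs
  calc E.r ^ i * (E.r ^ 5) ^ (k / 5) * (s * w) = E.r ^ i * ((E.r ^ 5) ^ (k / 5) * s) * w := by group
    _ = E.r ^ i * (s * (E.r ^ 5) ^ (k / 5)) * w := by rw [hc]
    _ = _ := by group

theorem zInv_comm_X {z x : G} (hz : z ∈ zInv E.S) (hx : x ∈ E.X) : z * x = x * z := by
  obtain ⟨i, s, hs, w, hw, rfl⟩ := E.exists_eq hx
  have h1 : Commute z E.r := (E.r_fix z hz).symm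
  have h2 : Commute z s := (hz.2.2 s hs).symm
  have h3 : Commute z w := (E.W0_comm w hw z hz.1).symm
  exact (((h1.pow_right i.val).mul_right h2).mul_right h3).eq

theorem θ_mul_X {u x : G} {i : Fin 3} (hu : u ∈ E.θ i) (hx : x ∈ E.X) :
    x * u * x⁻¹ ∈ E.θ i :=
  E.θ_conj i (E.X_le_cent i hx) hu

/-- `θ` meets `X` in `W₀`. -/
theorem mem_W0 {i : Fin 3} {g : G} (hg : g ∈ E.θ i) (hx : g ∈ E.X) : g ∈ E.W0 := by
  rw [← E.θ_inf i]; exact ⟨hg, hx⟩

variable [Finite G]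

theorem eq_one_of_mem_θ {i : Fin 3} {g : G} (hg : g ∈ E.θ i) (hS : g ∈ E.S) : g = 1 := by
  have h : g ∈ E.θ i ⊓ E.S := ⟨hg, hS⟩
  rwa [PiHom.inf_eq_bot_of_odd E.isPGroup (E.θ_odd i), Subgroup.mem_bot] at h

theorem eq_one_of_mem_W0 {g : G} (hg : g ∈ E.W0) (hS : g ∈ E.S) : g = 1 :=
  E.eq_one_of_mem_θ (E.W0_le 0 hg) hS

/-- An involution of `C(a)` is central modulo `θ`. -/
theorem involution_form {i : Fin 3} {t : G} (ht : t ∈ Subgroup.centralizer ({E.a i} : Set G))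
    (ht2 : t * t = 1) : ∃ u ∈ E.θ i, ∃ z ∈ zInv E.S, t = u * z := by
  obtain ⟨u, hu, x, hx, rfl⟩ := (E.cent i t).1 ht
  have hxx : x * x ∈ E.θ i := by
    have e : x * x = (x * u * x⁻¹)⁻¹ * u⁻¹ := by
      calc x * x = (x * u * x⁻¹)⁻¹ * u⁻¹ * (u * x * (u * x)) := by group
        _ = _ := by rw [ht2, mul_one]
    rw [e]
    exact mul_mem (inv_mem (E.θ_mul_X hu hx)) (inv_mem hu)
  have hW := E.mem_W0 hxx (mul_mem hx hx)
  obtain ⟨j, s, hs, w, hw, rfl⟩ := E.exists_eq hx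
  have hj : j.val = 0 := by
    have hsw : s * w ∈ E.S ⊔ E.W0 := E.mem_SW.2 ⟨s, hs, w, hw, rfl⟩
    have hn := (Subgroup.mem_normalizer_iff.1 (E.zpowers_le_normalizer
      (inv_mem (pow_mem (Subgroup.mem_zpowers E.r) j.val))) (s * w)).1 hsw
    rw [inv_inv] at hn
    have h2 : E.r ^ (j.val + j.val) ∈ E.S ⊔ E.W0 := by
      have e : E.r ^ (j.val + j.val) =
          E.r ^ j.val * s * w * (E.r ^ j.val * s * w) * (s * w)⁻¹ *
            ((E.r ^ j.val)⁻¹ * (s * w) * E.r ^ j.val)⁻¹ := by rw [pow_add]; group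
      rw [e]
      exact mul_mem (mul_mem (Subgroup.mem_sup_right hW) (inv_mem hsw)) (inv_mem hn)
    have := E.pow_r_mem_SW h2
    have := j.isLt
    omega
  simp only [hj, pow_zero, one_mul] at hW ht2 ⊢
  have hss : s * s ∈ E.W0 := by
    have e : s * s = s * w * (s * w) * (w * w)⁻¹ := by
      have hc := E.W0_comm w hw s hs
      calc s * s = s * s * (w * w) * (w * w)⁻¹ := by group
        _ = s * (s * w) * w * (w * w)⁻¹ := by group
        _ = s * (w * s) * w * (w * w)⁻¹ := by rw [hc]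
        _ = _ := by group
    rw [e]; exact mul_mem hW (inv_mem (mul_mem hw hw))
  have hz := E.mem_zInv_of_sq hs (E.eq_one_of_mem_W0 hss (mul_mem hs hs))
  refine ⟨u * w, mul_mem hu (E.W0_le i hw), s, hz, ?_⟩
  rw [← E.W0_comm w hw s hs]; group

/-- An involution of `C(a)` centralises `C(a)` modulo `θ`. -/
theorem involution_comm {i : Fin 3} {t g : G} (ht : t ∈ Subgroup.centralizer ({E.a i} : Set G))
    (ht2 : t * t = 1) (hg : g ∈ Subgroup.centralizer ({E.a i} : Set G)) :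
    t * g * t⁻¹ * g⁻¹ ∈ E.θ i := by
  obtain ⟨v, hv, z, hz, rfl⟩ := E.involution_form ht ht2
  obtain ⟨u, hu, x, hx, rfl⟩ := (E.cent i g).1 hg
  have hzC := E.X_le_cent i (E.S_le hz.1)
  have hgC : u * x ∈ Subgroup.centralizer ({E.a i} : Set G) := hg
  have e : v * z * (u * x) * (v * z)⁻¹ * (u * x)⁻¹ =
      v * ((z * u * z⁻¹) * u⁻¹) * (u * x * v⁻¹ * (u * x)⁻¹) := by
    have hc := E.zInv_comm_X hz hx
    calc v * z * (u * x) * (v * z)⁻¹ * (u * x)⁻¹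
        = v * (z * u * z⁻¹) * (z * x) * z⁻¹ * v⁻¹ * (u * x)⁻¹ := by group
      _ = v * (z * u * z⁻¹) * (x * z) * z⁻¹ * v⁻¹ * (u * x)⁻¹ := by rw [hc]
      _ = _ := by group
  rw [e]
  exact mul_mem (mul_mem hv (mul_mem (E.θ_conj i hzC hu) (inv_mem hu)))
    (E.θ_conj i hgC (inv_mem hv))

theorem card_cent : Nat.card ↥(Subgroup.centralizer ({E.a 0} : Set G)) =
    320 * Nat.card ↥(E.θ 0) := by
  have hbij : Function.Bijective
      (fun p : ↥(E.θ 0) × Fin 5 × ↥E.S =>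
        (⟨(p.1 : G) * (E.r ^ p.2.1.val * (p.2.2 : G)),
          mul_mem (E.θ_le_cent 0 p.1.2) (E.X_le_cent 0 (mul_mem (pow_mem E.r_mem _) (E.S_le p.2.2.2)))⟩ :
          ↥(Subgroup.centralizer ({E.a 0} : Set G)))) := by
    constructor
    · rintro ⟨u, i, s⟩ ⟨u', j, s'⟩ he
      have he' : (u : G) * (E.r ^ i.val * s) = u' * (E.r ^ j.val * s') := congrArg Subtype.val he
      have h1 : E.r ^ j.val * s' * (E.r ^ i.val * s)⁻¹ ∈ E.θ 0 := by
        have e : E.r ^ j.val * (s' : G) * (E.r ^ i.val * s)⁻¹ = (u' : G)⁻¹ * u := by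
          calc E.r ^ j.val * (s' : G) * (E.r ^ i.val * s)⁻¹
              = (u' : G)⁻¹ * (u' * (E.r ^ j.val * s')) * (E.r ^ i.val * s)⁻¹ := by group
            _ = _ := by rw [← he']; group
        rw [e]; exact mul_mem (inv_mem u'.2) u.2
      have h2 := E.mem_W0 h1 (mul_mem (mul_mem (pow_mem E.r_mem _) (E.S_le s'.2))
        (inv_mem (mul_mem (pow_mem E.r_mem _) (E.S_le s.2))))
      have hij : i = j := by
        have h4 : E.r ^ (j.val + (5 - i.val)) ∈ E.S ⊔ E.W0 := by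
          have e : E.r ^ (j.val + (5 - i.val)) =
              E.r ^ j.val * (s' : G) * (E.r ^ i.val * s)⁻¹ *
              (E.r ^ i.val * ((s : G) * (s' : G)⁻¹) * (E.r ^ i.val)⁻¹) *
              E.r ^ 5 := by
            have : E.r ^ 5 = E.r ^ i.val * E.r ^ (5 - i.val) := by
              rw [← pow_add]; congr 1; omega
            rw [pow_add, this]; group
          rw [e]
          refine mul_mem (mul_mem (Subgroup.mem_sup_right h2) ?_) (Subgroup.mem_sup_right E.r_pow)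
          exact (Subgroup.mem_normalizer_iff.1 (E.zpowers_le_normalizer
            (pow_mem (Subgroup.mem_zpowers E.r) i.val)) _).1
              (Subgroup.mem_sup_left (mul_mem s.2 (inv_mem s'.2)))
        have := E.pow_r_mem_SW h4
        have := i.isLt
        have := j.isLt
        exact Fin.ext (by omega)
      subst hij
      have h5 : (s' : G) * (s : G)⁻¹ = 1 := by
        refine E.eq_one_of_mem_W0 ?_ (mul_mem s'.2 (inv_mem s.2))
        have h6 := E.conj_W0 (inv_mem (pow_mem E.r_mem i.val)) h2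
        rwa [show (E.r ^ i.val)⁻¹ * (E.r ^ i.val * (s' : G) * (E.r ^ i.val * s)⁻¹) *
          (E.r ^ i.val)⁻¹⁻¹ = (s' : G) * (s : G)⁻¹ by group] at h6
      have hs : s = s' := Subtype.ext (mul_inv_eq_one.1 h5).symm
      subst hs
      have hu : u = u' := Subtype.ext (mul_right_cancel he')
      rw [hu]
    · rintro ⟨g, hg⟩
      obtain ⟨u, hu, x, hx, rfl⟩ := (E.cent 0 g).1 hg
      obtain ⟨i, s, hs, w, hw, rfl⟩ := E.exists_eq hx
      refine ⟨⟨⟨u * (E.r ^ i.val * w * (E.r ^ i.val)⁻¹),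
        mul_mem hu (E.θ_mul_X (E.W0_le 0 hw) (pow_mem E.r_mem _))⟩, i, ⟨s, hs⟩⟩, Subtype.ext ?_⟩
      show u * (E.r ^ i.val * w * (E.r ^ i.val)⁻¹) * (E.r ^ i.val * s) = u * (E.r ^ i.val * s * w)
      have hc := E.W0_comm w hw s hs
      calc u * (E.r ^ i.val * w * (E.r ^ i.val)⁻¹) * (E.r ^ i.val * s)
          = u * (E.r ^ i.val * (w * s)) := by group
        _ = _ := by rw [hc]; group
  rw [← Nat.card_eq_of_bijective _ hbij, Nat.card_prod, Nat.card_prod, Nat.card_fin, E.herm.card]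
  ring

end Setting

section Sets

variable [Fintype G] (E : Setting G)

open scoped Classical in
/-- `P θ₀` -/
noncomputable def cosetsθ (P : Finset G) : Finset G :=
  (P ×ˢ (Finset.univ.filter (· ∈ E.θ 0))).image fun p => p.1 * p.2

theorem mem_cosetsθ {P : Finset G} {g : G} :
    g ∈ cosetsθ E P ↔ ∃ p ∈ P, ∃ u ∈ E.θ 0, g = p * u := by
  classical
  simp only [cosetsθ, Finset.mem_image, Finset.mem_product, Finset.mem_filter, Finset.mem_univ,
    true_and, Prod.exists]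
  constructor
  · rintro ⟨p, u, ⟨hp, hu⟩, rfl⟩; exact ⟨p, hp, u, hu, rfl⟩
  · rintro ⟨p, hp, u, hu, rfl⟩; exact ⟨p, u, ⟨hp, hu⟩, rfl⟩

/-- the hypotheses on a set of representatives -/
structure Reps (P : Finset G) (n : ℕ) : Prop where
  le : ∀ p ∈ P, p ∈ E.X
  conjS : ∀ p ∈ P, ∀ s ∈ E.S, s * p * s⁻¹ ∈ P
  conjR : ∀ p ∈ P, E.r * p * E.r⁻¹ ∈ P
  pow : ∀ p ∈ P, (E.a 0)⁻¹ * p ^ n ∈ E.θ 0
  distinct : ∀ p ∈ P, ∀ q ∈ P, p⁻¹ * q ∈ E.θ 0 → p = q

variable {E} {P : Finset G} {n : ℕ}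

theorem Reps.card_eq (h : Reps E P n) : (cosetsθ E P).card = P.card * Nat.card ↥(E.θ 0) := by
  classical
  have hθ : Nat.card ↥(E.θ 0) = (Finset.univ.filter (· ∈ E.θ 0)).card := by
    rw [Nat.card_eq_fintype_card, Fintype.card_subtype]
  rw [hθ, ← Finset.card_product, cosetsθ, Finset.card_image_of_injOn]
  intro x hx y hy he
  simp only [Finset.coe_product, Set.mem_prod, Finset.mem_coe, Finset.mem_filter, Finset.mem_univ,
    true_and] at hx hy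
  have he' : x.1 * x.2 = y.1 * y.2 := he
  have h1 : x.1 = y.1 := h.distinct _ hx.1 _ hy.1 (by
    have e : x.1⁻¹ * y.1 = x.2 * y.2⁻¹ := by
      calc x.1⁻¹ * y.1 = x.1⁻¹ * (y.1 * y.2) * y.2⁻¹ := by group
        _ = _ := by rw [← he']; group
    rw [e]; exact mul_mem hx.2 (inv_mem hy.2))
  rw [h1] at he'
  exact Prod.ext h1 (mul_left_cancel he')

theorem Reps.mem_cent (h : Reps E P n) {g : G} (hg : g ∈ cosetsθ E P) :
    g ∈ Subgroup.centralizer ({E.a 0} : Set G) := by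
  obtain ⟨p, hp, u, hu, rfl⟩ := (mem_cosetsθ E).1 hg
  exact mul_mem (E.X_le_cent 0 (h.le p hp)) (E.θ_le_cent 0 hu)

theorem Reps.pow_eq (h : Reps E P n) {g : G} (hg : g ∈ cosetsθ E P) :
    g ^ (n * Nat.card ↥(E.θ 0)) = E.a 0 := by
  obtain ⟨p, hp, u, hu, rfl⟩ := (mem_cosetsθ E).1 hg
  have hpC := E.X_le_cent 0 (h.le p hp)
  have key : ∀ m : ℕ, ∃ v ∈ E.θ 0, (p * u) ^ m = p ^ m * v := by
    intro m
    induction m with
    | zero => exact ⟨1, one_mem _, by simp⟩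
    | succ m ih =>
      obtain ⟨v, hv, e⟩ := ih
      refine ⟨p⁻¹ * v * p⁻¹⁻¹ * u, mul_mem (E.θ_conj 0 (inv_mem hpC) hv) hu, ?_⟩
      rw [pow_succ, e, pow_succ]; group
  obtain ⟨v, hv, e⟩ := key n
  set w := (E.a 0)⁻¹ * p ^ n * v with hwdef
  have hw : w ∈ E.θ 0 := mul_mem (h.pow p hp) hv
  have e2 : (p * u) ^ n = E.a 0 * w := by rw [e, hwdef]; group
  have hc : Commute (E.a 0) w := (Subgroup.mem_centralizer_singleton_iff.1 (E.θ_le_cent 0 hw)).symm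
  have hw1 : w ^ Nat.card ↥(E.θ 0) = 1 :=
    congrArg Subtype.val (pow_card_eq_one' (x := (⟨w, hw⟩ : ↥(E.θ 0))))
  rw [pow_mul, e2, hc.mul_pow, hw1, mul_one]
  obtain ⟨j, hj⟩ := E.θ_odd 0
  rw [hj, pow_succ, pow_mul, pow_two, E.a_sq, one_pow, one_mul]

theorem Reps.even (h : Reps E P n) {p : G} (hp : p ∈ P) : Even (orderOf p) := by
  have h1 := h.pow_eq ((mem_cosetsθ E).2 ⟨p, hp, 1, one_mem _, (mul_one p).symm⟩)
  have h2 := orderOf_pow_dvd (x := p) (n * Nat.card ↥(E.θ 0))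
  rw [h1, E.orderOf_a] at h2
  exact even_iff_two_dvd.2 h2

theorem Reps.tight (h : Reps E P n) :
    Tight (Subgroup.centralizer ({E.a 0} : Set G)) (cosetsθ E P) := by
  refine ⟨fun d hd => h.mem_cent hd, ?_, fun d hd g hg => ?_⟩
  · let Q : Set G := {c | c ∈ Subgroup.centralizer ({E.a 0} : Set G) ∧
      ∀ p ∈ P, c * p * c⁻¹ ∈ cosetsθ E P}
    have hmul : ∀ c ∈ Q, ∀ d ∈ Q, c * d ∈ Q := by
      rintro c ⟨hc, hc'⟩ d ⟨hd, hd'⟩
      refine ⟨mul_mem hc hd, fun p hp => ?_⟩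
      obtain ⟨q, hq, u, hu, e⟩ := (mem_cosetsθ E).1 (hd' p hp)
      obtain ⟨q', hq', u', hu', e'⟩ := (mem_cosetsθ E).1 (hc' q hq)
      refine (mem_cosetsθ E).2 ⟨q', hq', u' * (c * u * c⁻¹), mul_mem hu' (E.θ_conj 0 hc hu), ?_⟩
      calc c * d * p * (c * d)⁻¹ = c * (d * p * d⁻¹) * c⁻¹ := by group
        _ = c * q * c⁻¹ * (c * u * c⁻¹) := by rw [e]; group
        _ = _ := by rw [e', mul_assoc]
    have hθ : ∀ v ∈ E.θ 0, v ∈ Q := fun v hv => ⟨E.θ_le_cent 0 hv, fun p hp =>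
      (mem_cosetsθ E).2 ⟨p, hp, p⁻¹ * v * p⁻¹⁻¹ * v⁻¹,
        mul_mem (E.θ_conj 0 (inv_mem (E.X_le_cent 0 (h.le p hp))) hv) (inv_mem hv), by group⟩⟩
    have hself : ∀ c ∈ Subgroup.centralizer ({E.a 0} : Set G),
        (∀ p ∈ P, c * p * c⁻¹ ∈ P) → c ∈ Q := fun c hc h' => ⟨hc, fun p hp =>
      (mem_cosetsθ E).2 ⟨_, h' p hp, 1, one_mem _, (mul_one _).symm⟩⟩
    have hS : ∀ s ∈ E.S, s ∈ Q := fun s hs =>
      hself s (E.X_le_cent 0 (E.S_le hs)) fun p hp => h.conjS p hp s hs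
    have hr : ∀ i : ℕ, E.r ^ i ∈ Q := by
      intro i
      induction i with
      | zero => simpa using hθ 1 (one_mem _)
      | succ i ih =>
        rw [pow_succ]
        exact hmul _ ih _ (hself _ (E.X_le_cent 0 E.r_mem) h.conjR)
    intro c hc d hd
    have hcQ : c ∈ Q := by
      obtain ⟨u, hu, x, hx, rfl⟩ := (E.cent 0 c).1 hc
      obtain ⟨i, s, hs, w, hw, rfl⟩ := E.exists_eq hx
      exact hmul _ (hθ u hu) _ (hmul _ (hmul _ (hr _) _ (hS s hs)) _ (hθ w (E.W0_le 0 hw)))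
    obtain ⟨p, hp, u, hu, rfl⟩ := (mem_cosetsθ E).1 hd
    obtain ⟨q, hq, u', hu', e⟩ := (mem_cosetsθ E).1 (hcQ.2 p hp)
    refine (mem_cosetsθ E).2 ⟨q, hq, u' * (c * u * c⁻¹), mul_mem hu' (E.θ_conj 0 hc hu), ?_⟩
    calc c * (p * u) * c⁻¹ = c * p * c⁻¹ * (c * u * c⁻¹) := by group
      _ = _ := by rw [e, mul_assoc]
  · have h1 := h.pow_eq hg
    rw [conj_pow, h.pow_eq hd, mul_inv_eq_iff_eq_mul] at h1
    exact Subgroup.mem_centralizer_singleton_iff.2 h1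

/-- No product of two conjugates of `a` lies in a section whose squares are outside `θ`. -/
theorem Reps.pairs_empty (h : Reps E P n) (hsq : ∀ p ∈ P, p * p ∉ E.θ 0) :
    ClassCount.pairs (E.a 0) (E.a 0) (closConj (cosetsθ E P)) = ∅ := by
  classical
  refine Finset.eq_empty_iff_forall_notMem.2 fun z hz => ?_
  obtain ⟨hz, hzT⟩ := Finset.mem_filter.1 hz
  obtain ⟨hx, hy⟩ := Finset.mem_product.1 hz
  obtain ⟨k, hk⟩ := mem_closConj.1 hzT
  have hinv : ∀ v, IsConj (E.a 0) v → v * v = 1 := fun v hv => by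
    obtain ⟨c, rfl⟩ := isConj_iff.1 hv
    rw [show c * E.a 0 * c⁻¹ * (c * E.a 0 * c⁻¹) = c * (E.a 0 * E.a 0) * c⁻¹ by group, E.a_sq]
    group
  obtain ⟨x, hxd⟩ : ∃ x, x = k * z.1 * k⁻¹ := ⟨_, rfl⟩
  obtain ⟨y, hyd⟩ : ∃ y, y = k * z.2 * k⁻¹ := ⟨_, rfl⟩
  have hx2 : x * x = 1 :=
    hinv _ ((ClassCount.mem_cls.1 hx).trans (isConj_iff.2 ⟨k, hxd.symm⟩))
  have hy2 : y * y = 1 :=
    hinv _ ((ClassCount.mem_cls.1 hy).trans (isConj_iff.2 ⟨k, hyd.symm⟩))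
  have hg : x * y ∈ cosetsθ E P := by
    rw [hxd, hyd, show k * z.1 * k⁻¹ * (k * z.2 * k⁻¹) = k * (z.1 * z.2) * k⁻¹ by group]
    exact hk
  have hxg : x * (x * y) * x⁻¹ = (x * y)⁻¹ := by
    rw [mul_inv_rev, inv_eq_of_mul_eq_one_right hx2, inv_eq_of_mul_eq_one_right hy2, ← mul_assoc,
      hx2, one_mul]
  have hxC : x ∈ Subgroup.centralizer ({E.a 0} : Set G) := by
    rw [Subgroup.mem_centralizer_singleton_iff]
    have e1 : (x * (x * y) * x⁻¹) ^ (n * Nat.card ↥(E.θ 0)) =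
        (x * y)⁻¹ ^ (n * Nat.card ↥(E.θ 0)) := by rw [hxg]
    rw [conj_pow, inv_pow, h.pow_eq hg, inv_eq_of_mul_eq_one_right (E.a_sq 0),
      mul_inv_eq_iff_eq_mul] at e1
    exact e1
  have hm := E.involution_comm hxC hx2 (h.mem_cent hg)
  rw [hxg] at hm
  have hm2 : x * y * (x * y) ∈ E.θ 0 := by
    have := inv_mem hm
    rwa [show ((x * y)⁻¹ * (x * y)⁻¹)⁻¹ = x * y * (x * y) by group] at this
  obtain ⟨p, hp, u, hu, e⟩ := (mem_cosetsθ E).1 hg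
  rw [e] at hm2
  refine hsq p hp ?_
  have hpC := E.X_le_cent 0 (h.le p hp)
  have := mul_mem hm2 (inv_mem (mul_mem (E.θ_conj 0 (inv_mem hpC) hu) hu))
  rwa [show p * u * (p * u) * (p⁻¹ * u * p⁻¹⁻¹ * u)⁻¹ = p * p by group] at this

end Sets

end CfsgLib.UFour73
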