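import Cfsg.Agent.Lib.UThreeSylow.Main
import Cfsg.Agent.Lib.UThreeSylow.FourClosed

/-!
# Sylow 2-subgroups of type `PSU₃(4)`: the strongly embedded ending
-/

set_option autoImplicit false
set_option linter.style.haveILetI false
set_option linter.unusedSectionVars false

namespace CfsgLib.UThreeSylow

open Subgroup

universe u v

variable {G : Type u} [Group G] [Finite G] {F : Type v} [Field F] [Fintype F]

/-- A simple group with Sylow 2-subgroup of type `PSU₃(4)` and a strongly embedded subgroup. -/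
theorem four_psu_of_stronglyEmbedded [IsSimpleGroup G] (hna : ¬ IsMulCommutative G)
    (hF : Fintype.card F = 16) {S : Sylow 2 G} (h : UT ↥(S : Subgroup G) 4) {H : Subgroup G}
    (hH : Cfsg.IsStronglyEmbedded H) : Nonempty (G ≃* Cfsg.PSU 3 F 4) := by
  have : Fact (Nat.Prime 2) := ⟨Nat.prime_two⟩
  obtain ⟨a, ha, ha1, -⟩ := exists_other (a := 1) h
  have hO : Cfsg.pPrimeCore 2 G = ⊥ := by
    refine (Cfsg.pPrimeCore_normal 2 G).eq_bot_or_eq_top.resolve_right fun e => ?_
    have h1 : (Nat.card (Cfsg.pPrimeCore 2 G)).Coprime 2 := CfsgLib.PCore.pPrimeCore_coprime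
    rw [e, card_top, Nat.coprime_two_right] at h1
    have h2 := (S : Subgroup G).card_subgroup_dvd_card
    rw [h.card] at h2
    exact h1.not_two_dvd_nat ((show 2 ∣ 4 ^ 3 by norm_num).trans h2)
  rcases BenderQ.classification BenderQ.benderKernel RankOneRecog.rankOneClass hH with h1 | h1
  · exfalso
    have ha2 : orderOf a = 2 := orderOf_eq_prime (by rw [pow_two, zS_sq h ha]) ha1
    have h2 := (h1 a ha2).1
    rw [hO, bot_sup_eq] at h2
    have hac : a ∈ center G :=
      mem_center_iff.2 fun g => mem_centralizer_singleton_iff.1 (h2 ▸ mem_top g)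
    have h3 := IsSimpleGroup.eq_bot_or_eq_top_of_normal (center G) inferInstance
    rcases h3 with e | e
    · rw [e, mem_bot] at hac; exact ha1 hac
    · exact hna ⟨⟨fun x y => mem_center_iff.1 (e ▸ mem_top y) x⟩⟩
  · obtain ⟨N, hN, -, ⟨e⟩⟩ := of_bender (n := 2) (F := F) le_rfl (by norm_num) (by rw [hF]; norm_num) S h h1
    have hOb : Cfsg.oddCore G = ⊥ := hO
    let e0 : G ⧸ Cfsg.oddCore G ≃* G := (QuotientGroup.quotientMulEquivOfEq hOb).trans QuotientGroup.quotientBot
    haveI := hN
    rcases (hN.map e0.toMonoidHom e0.surjective).eq_bot_or_eq_top with hb | ht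
    · exfalso
      rw [map_eq_bot_iff_of_injective _ e0.injective] at hb
      subst hb
      haveI : Subsingleton (Cfsg.PSU 3 F 4) := e.symm.injective.subsingleton
      obtain ⟨P⟩ := (inferInstance : Nonempty (Sylow 2 (Cfsg.PSU 3 F 4)))
      have h5 := (ut_psu (n := 2) (by norm_num) (by norm_num : (4 : ℕ) = 2 ^ 2) (by rw [hF]; norm_num) P).card
      rw [Nat.card_of_subsingleton (1 : ↥(P : Subgroup (Cfsg.PSU 3 F 4)))] at h5
      norm_num at h5
    · exact ⟨(((N.equivMapOfInjective e0.toMonoidHom e0.injective).trans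
        ((MulEquiv.subgroupCongr ht).trans Subgroup.topEquiv)).symm).trans e⟩

end CfsgLib.UThreeSylow
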