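import Mathlib

/-!
# Idempotent operators and additive counting functions on invariant subspaces
-/

set_option autoImplicit false

namespace CfsgLib.UFour73.Mod

open Module

variable {U : Type*} [AddCommGroup U] [Module ℂ U]

/-- The image of an invariant subspace under an idempotent is its intersection with the range. -/
theorem map_inf_of_idem {P : Module.End ℂ U} (hP : P * P = P) {p q : Submodule ℂ U}
    (hp : p.map P ≤ p) (hq : q.map P ≤ q) : (p ⊓ q).map P = p.map P ⊓ q.map P := by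
  refine le_antisymm (Submodule.map_inf_le P) fun v hv => ?_
  obtain ⟨⟨x, hx, rfl⟩, hv2⟩ := hv
  exact ⟨P x, ⟨hp ⟨x, hx, rfl⟩, hq hv2⟩, by rw [← Module.End.mul_apply, hP]⟩

variable [FiniteDimensional ℂ U]

theorem finrank_map_modular {P : Module.End ℂ U} (hP : P * P = P) {p q : Submodule ℂ U}
    (hp : p.map P ≤ p) (hq : q.map P ≤ q) :
    (finrank ℂ ↥((p ⊔ q).map P) : ℤ) + finrank ℂ ↥((p ⊓ q).map P) =
      finrank ℂ ↥(p.map P) + finrank ℂ ↥(q.map P) := by
  rw [Submodule.map_sup, map_inf_of_idem hP hp hq]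
  exact_mod_cast Submodule.finrank_sup_add_finrank_inf_eq (p.map P) (q.map P)

/-- The rank of an idempotent restricted to an invariant subspace is the trace. -/
theorem trace_restrict_idem {P : Module.End ℂ U} (hP : P * P = P) (p : Submodule ℂ U)
    (hp : ∀ v ∈ p, P v ∈ p) :
    LinearMap.trace ℂ p (P.restrict hp) = (finrank ℂ ↥(p.map P) : ℂ) := by
  have h : LinearMap.IsProj ((p.map P).comap p.subtype) (P.restrict hp) := by
    refine ⟨fun v => ⟨v.1, v.2, rfl⟩, fun v hv => ?_⟩
    obtain ⟨x, -, hx⟩ := hv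
    refine Subtype.ext ?_
    show P v.1 = v.1
    rw [show v.1 = P x from hx.symm, ← Module.End.mul_apply, hP]
  rw [h.trace]
  congr 1
  exact LinearEquiv.finrank_eq (Submodule.comapSubtypeEquivOfLe fun v hv => by
    obtain ⟨x, hx, rfl⟩ := hv
    exact hp x hx)

theorem trace_idem {P : Module.End ℂ U} (hP : P * P = P) :
    LinearMap.trace ℂ U P = (finrank ℂ ↥((⊤ : Submodule ℂ U).map P) : ℂ) := by
  have h : LinearMap.IsProj ((⊤ : Submodule ℂ U).map P) P := by
    refine ⟨fun v => ⟨v, trivial, rfl⟩, fun v hv => ?_⟩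
    obtain ⟨x, -, rfl⟩ := hv
    rw [← Module.End.mul_apply, hP]
  exact h.trace

/-- The average of the powers of an operator of order dividing five. -/
noncomputable def avgFive (Q : Module.End ℂ U) : Module.End ℂ U :=
  (5 : ℂ)⁻¹ • ∑ i : Fin 5, Q ^ i.val

omit [FiniteDimensional ℂ U] in
theorem mul_avgFive {Q : Module.End ℂ U} (hQ : Q ^ 5 = 1) : Q * avgFive Q = avgFive Q := by
  simp only [avgFive, mul_smul_comm, Fin.sum_univ_five, mul_add, ← pow_succ']
  simp only [Fin.val_zero, Fin.val_one, Fin.val_two, show ((3 : Fin 5) : ℕ) = 3 from rfl,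
    show ((4 : Fin 5) : ℕ) = 4 from rfl, Nat.reduceAdd, hQ, pow_zero, pow_one]
  abel_nf

omit [FiniteDimensional ℂ U] in
theorem pow_mul_avgFive {Q : Module.End ℂ U} (hQ : Q ^ 5 = 1) (i : ℕ) :
    Q ^ i * avgFive Q = avgFive Q := by
  induction i with
  | zero => rw [pow_zero, one_mul]
  | succ i ih => rw [pow_succ, mul_assoc, mul_avgFive hQ, ih]

omit [FiniteDimensional ℂ U] in
theorem avgFive_idem {Q : Module.End ℂ U} (hQ : Q ^ 5 = 1) :
    avgFive Q * avgFive Q = avgFive Q := by
  conv_lhs => arg 1; rw [avgFive]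
  rw [smul_mul_assoc, Finset.sum_mul]
  simp only [pow_mul_avgFive hQ, Finset.sum_const, Finset.card_univ, Fintype.card_fin,
    ← Nat.cast_smul_eq_nsmul ℂ, smul_smul]
  norm_num

omit [FiniteDimensional ℂ U] in
theorem avgFive_mem {Q : Module.End ℂ U} {p : Submodule ℂ U} (hp : ∀ v ∈ p, Q v ∈ p) :
    ∀ v ∈ p, avgFive Q v ∈ p := fun v hv => by
  have key : ∀ i : ℕ, (Q ^ i) v ∈ p := fun i => by
    induction i with
    | zero => simpa using hv
    | succ i ih => rw [pow_succ', Module.End.mul_apply]; exact hp _ ih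
  simp only [avgFive, LinearMap.smul_apply, LinearMap.sum_apply]
  exact p.smul_mem _ (p.sum_mem fun i _ => key i)

variable {H : Type*} [Group H] [Fintype H]

/-- The average of a homomorphism into the operators. -/
noncomputable def avgHom (f : H →* Module.End ℂ U) : Module.End ℂ U :=
  (Fintype.card H : ℂ)⁻¹ • ∑ h, f h

omit [FiniteDimensional ℂ U] in
theorem mul_avgHom (f : H →* Module.End ℂ U) (h : H) : f h * avgHom f = avgHom f := by
  simp only [avgHom, mul_smul_comm, Finset.mul_sum, ← map_mul]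
  rw [(Group.mulLeft_bijective h).sum_comp (fun x => f x)]

omit [FiniteDimensional ℂ U] in
theorem avgHom_idem (f : H →* Module.End ℂ U) : avgHom f * avgHom f = avgHom f := by
  conv_lhs => arg 1; rw [avgHom]
  rw [smul_mul_assoc, Finset.sum_mul]
  simp only [mul_avgHom, Finset.sum_const, Finset.card_univ, ← Nat.cast_smul_eq_nsmul ℂ,
    smul_smul]
  rw [inv_mul_cancel₀ (Nat.cast_ne_zero.2 Fintype.card_ne_zero), one_smul]

omit [FiniteDimensional ℂ U] in
theorem avgHom_mem {f : H →* Module.End ℂ U} {p : Submodule ℂ U}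
    (hp : ∀ h, ∀ v ∈ p, f h v ∈ p) : ∀ v ∈ p, avgHom f v ∈ p := fun v hv => by
  simp only [avgHom, LinearMap.smul_apply, LinearMap.sum_apply]
  exact p.smul_mem _ (p.sum_mem fun h _ => hp h v hv)

omit [FiniteDimensional ℂ U] in
/-- A product of commuting idempotents is idempotent. -/
theorem idem_mul {P Q : Module.End ℂ U} (hP : P * P = P) (hQ : Q * Q = Q) (h : P * Q = Q * P) :
    P * Q * (P * Q) = P * Q := by
  rw [mul_assoc, ← mul_assoc Q P Q, ← h, mul_assoc P Q Q, hQ, ← mul_assoc, hP]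

/-- Three subobjects meeting in zero, counted by a monotone modular function. -/
theorem three_meet {L : Type*} [Lattice L] [OrderBot L] [OrderTop L] (F : L → ℤ)
    (hmod : ∀ p q, F (p ⊔ q) + F (p ⊓ q) = F p + F q) (hmono : ∀ p, F p ≤ F ⊤) (hbot : F ⊥ = 0)
    (u v w : L) (h0 : u ⊓ v ⊓ w = ⊥) : F u + F v + F w ≤ 2 * F ⊤ := by
  have h1 := hmod u v
  have h2 := hmod (u ⊓ v) w
  rw [h0, hbot] at h2
  have h3 := hmono (u ⊔ v)
  have h4 := hmono (u ⊓ v ⊔ w)
  omega

end CfsgLib.UFour73.Mod
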