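import Cfsg.Agent.Lib.UFour73.ModuleHb

/-!
# The spectrum of the element of order five on a faithful part

On the part where `A` acts by a non-trivial character, each eigenspace of `r` has at most a
quarter of the dimension: every irreducible constituent has degree four and four different
eigenvalues.
-/

set_option autoImplicit false
set_option linter.unusedSectionVars false
set_option linter.style.haveILetI false

namespace CfsgLib.UFour73.Mod

open Module
open scoped Classical

/-- At most eight. -/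
theorem le_eight {d q : ℕ} (hcs : d * d ≤ 5 * q) (h : 16 * q = 16 + 3 * d ^ 2) : d ≤ 8 := by
  by_contra hlt
  push Not at hlt
  nlinarith

theorem mul_self_le_self {x : ℕ} (h : x * x ≤ x) : x ≤ 1 := by
  nlinarith

theorem three_mul_le (x : ℕ) : 3 * x ≤ x * x + 2 := by
  rcases x with _ | _ | _ | x
  · omega
  · omega
  · omega
  · nlinarith

/-- The multiplicities of the eigenvalues in an irreducible constituent. -/
theorem four_le_of_norm (e : Fin 5 → ℕ)
    (h : 16 * ∑ j, e j * e j = 16 + 3 * (∑ j, e j) ^ 2) (j : Fin 5) : 4 * e j ≤ ∑ i, e i := by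
  have hcs := Finset.sum_mul_sq_le_sq_mul_sq Finset.univ (fun i => (e i : ℤ)) fun _ => (1 : ℤ)
  have hcs' : (∑ i, e i) * ∑ i, e i ≤ 5 * ∑ i, e i * e i := by
    simp only [mul_one, one_pow, sq, Finset.sum_const, Finset.card_univ, Fintype.card_fin] at hcs
    norm_num at hcs
    have h' : (∑ i, (e i : ℤ)) * ∑ i, (e i : ℤ) ≤ 5 * ∑ i, (e i : ℤ) * (e i : ℤ) := by linarith
    exact_mod_cast h'
  have hd := le_eight hcs' h
  have h1 : ∀ i, e i ≤ e i * e i := fun i => Nat.le_mul_self _
  have h2 := fun i => three_mul_le (e i)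
  obtain ⟨d, hdd⟩ : ∃ d, d = ∑ i, e i := ⟨_, rfl⟩
  rw [← hdd] at h hd ⊢
  obtain ⟨q, hqq⟩ : ∃ q, q = ∑ i, e i * e i := ⟨_, rfl⟩
  rw [← hqq] at h
  have b1 : d ≤ q := by rw [hdd, hqq]; exact Finset.sum_le_sum fun i _ => h1 i
  have b2 : 3 * d ≤ q + 10 := by
    rw [hdd, hqq, Finset.mul_sum]
    refine (Finset.sum_le_sum fun i _ => h2 i).trans ?_
    simp [Finset.sum_add_distrib]
  have b3 : q ≤ d * d := by
    rw [hdd, hqq, Finset.sum_mul]
    exact Finset.sum_le_sum fun i hi =>
      Nat.mul_le_mul_left _ (Finset.single_le_sum (fun _ _ => Nat.zero_le _) hi)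
  have hd4 : d = 4 ∧ q = 4 := by interval_cases d <;> omega
  have hall : e j * e j ≤ e j := by
    have h3 : ∑ i, e i * e i = ∑ i, e i := by rw [← hqq, ← hdd, hd4.1, hd4.2]
    have h4 := (Finset.sum_eq_sum_iff_of_le fun i _ => h1 i).1 h3.symm j (Finset.mem_univ j)
    omega
  have := mul_self_le_self hall
  omega

namespace XData

variable {X : Type*} [Group X] [Fintype X] (D : XData X)
variable {U : Type*} [AddCommGroup U] [Module ℂ U] [FiniteDimensional ℂ U]
  {τ : Representation ℂ X U}

/-- rank of the `λ`-part of a subspace -/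
noncomputable def rA (τ : Representation ℂ X U) (p : Submodule ℂ U) : ℕ :=
  finrank ℂ ↥(p.map (D.PA τ))

/-- rank of an eigenspace of `r` in the `λ`-part -/
noncomputable def rAE (τ : Representation ℂ X U) (ζ : ℂ) (j : Fin 5) (p : Submodule ℂ U) : ℕ :=
  finrank ℂ ↥(p.map (D.PA τ * D.E τ ζ j))

/-- rank of an eigenspace of `r` in the fixed points of `S` -/
noncomputable def rSE (τ : Representation ℂ X U) (ζ : ℂ) (j : Fin 5) (p : Submodule ℂ U) : ℕ :=
  finrank ℂ ↥(p.map (D.PS τ * D.E τ ζ j))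

theorem apply_mem_PA (p : Subrepresentation τ) : ∀ v ∈ p.toSubmodule, D.PA τ v ∈ p.toSubmodule :=
  avgHom_mem fun _ _ hv => p.toSubmodule.smul_mem _ (p.apply_mem_toSubmodule _ hv)

theorem apply_mem_PS (p : Subrepresentation τ) : ∀ v ∈ p.toSubmodule, D.PS τ v ∈ p.toSubmodule :=
  avgHom_mem fun _ _ hv => p.apply_mem_toSubmodule _ hv

theorem apply_mem_E (p : Subrepresentation τ) (ζ : ℂ) (j : Fin 5) :
    ∀ v ∈ p.toSubmodule, D.E τ ζ j v ∈ p.toSubmodule :=
  avgFive_mem fun _ hv => p.toSubmodule.smul_mem _ (p.apply_mem_toSubmodule _ hv)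

theorem map_le_PA (p : Subrepresentation τ) : p.toSubmodule.map (D.PA τ) ≤ p.toSubmodule :=
  Submodule.map_le_iff_le_comap.2 (D.apply_mem_PA p)

theorem map_le_PAE (p : Subrepresentation τ) (ζ : ℂ) (j : Fin 5) :
    p.toSubmodule.map (D.PA τ * D.E τ ζ j) ≤ p.toSubmodule :=
  Submodule.map_le_iff_le_comap.2 fun v hv => D.apply_mem_PA p _ (D.apply_mem_E p ζ j v hv)

theorem map_le_PSE (p : Subrepresentation τ) (ζ : ℂ) (j : Fin 5) :
    p.toSubmodule.map (D.PS τ * D.E τ ζ j) ≤ p.toSubmodule :=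
  Submodule.map_le_iff_le_comap.2 fun v hv => D.apply_mem_PS p _ (D.apply_mem_E p ζ j v hv)

theorem restrict_PAE (p : Subrepresentation τ) (ζ : ℂ) (j : Fin 5) (v : p.toSubmodule) :
    (((D.PA p.toRepresentation * D.E p.toRepresentation ζ j) v : p.toSubmodule) : U) =
      (D.PA τ * D.E τ ζ j) v := by
  rw [Module.End.mul_apply, Module.End.mul_apply, D.restrict_PA, D.restrict_E]

theorem restrict_PSE (p : Subrepresentation τ) (ζ : ℂ) (j : Fin 5) (v : p.toSubmodule) :
    (((D.PS p.toRepresentation * D.E p.toRepresentation ζ j) v : p.toSubmodule) : U) =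
      (D.PS τ * D.E τ ζ j) v := by
  rw [Module.End.mul_apply, Module.End.mul_apply, D.restrict_PS, D.restrict_E]

theorem rA_sub (p : Subrepresentation τ) :
    D.rA p.toRepresentation ⊤ = D.rA τ p.toSubmodule :=
  XData.map_eq_of_restrict p (D.restrict_PA p)

theorem rAE_sub (p : Subrepresentation τ) (ζ : ℂ) (j : Fin 5) :
    D.rAE p.toRepresentation ζ j ⊤ = D.rAE τ ζ j p.toSubmodule :=
  XData.map_eq_of_restrict p (D.restrict_PAE p ζ j)

theorem rSE_sub (p : Subrepresentation τ) (ζ : ℂ) (j : Fin 5) :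
    D.rSE p.toRepresentation ζ j ⊤ = D.rSE τ ζ j p.toSubmodule :=
  XData.map_eq_of_restrict p (D.restrict_PSE p ζ j)

/-- Roots of unity. -/
theorem sum_root {ζ : ℂ} (hζ : IsPrimitiveRoot ζ 5) (i k : Fin 5) :
    ∑ j : Fin 5, ζ ^ (k.val * j.val) * (ζ ^ (i.val * j.val))⁻¹ = if i = k then 5 else 0 := by
  have h0 : ζ ≠ 0 := hζ.ne_zero (by norm_num)
  obtain ⟨x, hx⟩ : ∃ x, x = ζ ^ k.val * (ζ ^ i.val)⁻¹ := ⟨_, rfl⟩
  have e : ∀ j : Fin 5, ζ ^ (k.val * j.val) * (ζ ^ (i.val * j.val))⁻¹ = x ^ j.val := fun j => by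
    rw [hx, mul_pow, ← pow_mul, inv_pow, ← pow_mul]
  rw [Finset.sum_congr rfl fun j _ => e j, Fin.sum_univ_eq_sum_range (fun j => x ^ j) 5]
  have hx5 : x ^ 5 = 1 := by
    rw [hx, mul_pow, inv_pow, ← pow_mul, ← pow_mul, mul_comm k.val, mul_comm i.val, pow_mul,
      pow_mul, hζ.pow_eq_one, one_pow, one_pow, inv_one, one_mul]
  by_cases hik : i = k
  · subst hik
    rw [if_pos rfl, hx, mul_inv_cancel₀ (pow_ne_zero _ h0)]
    simp
  · rw [if_neg hik]
    have hx1 : x ≠ 1 := fun h => hik (Fin.ext (hζ.pow_inj i.2 k.2 (by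
      rw [hx] at h
      exact ((mul_inv_eq_one₀ (pow_ne_zero _ h0)).1 h).symm)))
    have h := geom_sum_mul x 5
    rw [hx5, sub_self] at h
    exact (mul_eq_zero.1 h).resolve_right (sub_ne_zero.2 hx1)

theorem five_not_dvd {i : Fin 5} (hi : i ≠ 0) : ¬ 5 ∣ i.val := fun h =>
  hi (Fin.ext (by
    have := i.2
    simp only [Fin.val_zero]
    omega))

theorem irreducible_case (hW : ∀ w ∈ D.W0, τ w = 1) [τ.IsIrreducible] {ζ : ℂ}
    (hζ : IsPrimitiveRoot ζ 5) (hA : ∀ v, D.PA τ v = v) (j : Fin 5) :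
    4 * D.rAE τ ζ j ⊤ ≤ D.rA τ ⊤ := by
  have hlam : ∀ z : ↥D.A, τ z = D.lam z • (1 : Module.End ℂ U) := fun z => by
    refine LinearMap.ext fun v => ?_
    have h := congrArg (fun T : Module.End ℂ U => T v) (mul_avgHom (D.fA τ) z)
    have h' : D.lam z • τ z v = v := by
      have e : avgHom (D.fA τ) v = v := hA v
      simp only [Module.End.mul_apply, e] at h
      simpa [fA] using h
    calc τ z v = (D.lam z * D.lam z) • τ z v := by rw [D.lam_sq, one_smul]
      _ = D.lam z • v := by rw [mul_smul, h']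
      _ = _ := by simp
  have hchar : ∀ (z : ↥D.A) (g : X), τ.character ((z : X) * g) = D.lam z * τ.character g :=
    fun z g => by
      simp [Representation.character, map_mul, hlam z, smul_mul_assoc, map_smul]
  obtain ⟨z₀, hz₀⟩ := D.exists_lam_neg
  have hout : ∀ s ∈ D.S, s ∉ D.A → τ.character s = 0 := fun s hs hsA => by
    obtain ⟨t, -, ht⟩ := D.cm_onto s hs hsA _ z₀.2
    have h := τ.char_conj s t
    rw [ht, hchar, hz₀] at h
    linear_combination (-(1 / 2) : ℂ) * h
  let d := finrank ℂ U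
  have hd : τ.character 1 = (d : ℂ) := τ.char_one
  let F : X → ℂ := fun g => τ.character g * τ.character g⁻¹
  have hF : ∀ g h, F (h * g * h⁻¹) = F g := fun g h => by
    simp only [F]
    rw [show (h * g * h⁻¹)⁻¹ = h * g⁻¹ * h⁻¹ by group]
    simp only [τ.char_conj]
  have hFA : ∀ (z : ↥D.A) g, F ((z : X) * g) = F g := fun z g => by
    simp only [F, mul_inv_rev]
    rw [show g⁻¹ * (z : X)⁻¹ = ((z⁻¹ : ↥D.A) : X) * g⁻¹ by
      rw [Subgroup.coe_inv, D.central _ (D.A.inv_mem z.2)], hchar, hchar]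
    calc D.lam z * τ.character g * (D.lam z⁻¹ * τ.character g⁻¹)
        = D.lam (z * z⁻¹) * (τ.character g * τ.character g⁻¹) := by rw [map_mul]; ring
      _ = _ := by rw [mul_inv_cancel, map_one, one_mul]
  haveI : Invertible (Nat.card X : ℂ) := invertibleOfNonzero (Nat.cast_ne_zero.2 Nat.card_pos.ne')
  have hnorm := Representation.char_orthonormal τ τ
  rw [if_pos ⟨Representation.Equiv.refl τ⟩] at hnorm
  have hcard : Nat.card X = 5 * 64 * Nat.card ↥D.W0 := by
    rw [← Nat.card_eq_of_bijective _ D.bij, Nat.card_prod, Nat.card_prod, Nat.card_eq_fintype_card,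
      Fintype.card_fin, D.card_S, mul_assoc]
  have hsum : ∑ g, F g = (Nat.card ↥D.W0 : ℂ) * ∑ i : Fin 5, ∑ s : ↥D.S, F (D.r ^ i.val * s) := by
    rw [← D.bij.sum_comp F, Fintype.sum_prod_type, Finset.mul_sum]
    refine Finset.sum_congr rfl fun i _ => ?_
    rw [Fintype.sum_prod_type, Finset.mul_sum]
    refine Finset.sum_congr rfl fun s _ => ?_
    have e : ∀ w : ↥D.W0, F (D.r ^ i.val * (s : X) * (w : X)) = F (D.r ^ i.val * (s : X)) :=
      fun w => by
        simp only [F, mul_inv_rev, Representation.character, map_mul, hW _ w.2,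
          hW _ (D.W0.inv_mem w.2), mul_one, one_mul]
    simp only [e, Finset.sum_const, Finset.card_univ, nsmul_eq_mul, Nat.card_eq_fintype_card]
  have hS0 : ∑ s : ↥D.S, F s = 4 * (d : ℂ) ^ 2 := by
    have e : ∀ s : ↥D.S, F s = if (s : X) ∈ D.A then (d : ℂ) ^ 2 else 0 := fun s => by
      by_cases hs : (s : X) ∈ D.A
      · rw [if_pos hs, show (s : X) = ((⟨s, hs⟩ : ↥D.A) : X) * 1 by simp, hFA]
        simp only [F, inv_one, hd, sq]
      · rw [if_neg hs]
        simp [F, hout _ s.2 hs]
    rw [Finset.sum_congr rfl fun s _ => e s, Finset.sum_ite, Finset.sum_const_zero, add_zero,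
      Finset.sum_const, nsmul_eq_mul]
    have h4 : (Finset.univ.filter fun s : ↥D.S => (s : X) ∈ D.A).card = 4 := by
      rw [← Fintype.card_subtype, ← Nat.card_eq_fintype_card, ← D.card_A]
      exact Nat.card_congr ⟨fun s => ⟨s.1, s.2⟩, fun z => ⟨⟨z, D.A_le z.2⟩, z.2⟩, fun _ => rfl,
        fun _ => rfl⟩
    rw [h4]
    norm_num
  have hSk : ∀ i : Fin 5, i ≠ 0 →
      ∑ s : ↥D.S, F (D.r ^ i.val * s) = 64 * F (D.r ^ i.val) := fun i hi => by
    have e : ∀ s : ↥D.S, F (D.r ^ i.val * s) = F (s * D.r ^ i.val) := fun s => by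
      conv_rhs => rw [← hF _ (D.r ^ i.val)]
      rw [← mul_assoc, mul_inv_cancel_right]
    rw [Finset.sum_congr rfl fun s _ => e s, D.sum_coset _ (five_not_dvd hi) F hF]
    simp only [hFA, Finset.sum_const, Finset.card_univ, ← Nat.card_eq_fintype_card, D.card_A,
      nsmul_eq_mul]
    push_cast
    ring
  obtain ⟨e, he⟩ : ∃ e : Fin 5 → ℕ, ∀ j, e j = D.rAE τ ζ j ⊤ := ⟨_, fun _ => rfl⟩
  have hE : ∀ j, (e j : ℂ) = 5⁻¹ * ∑ i : Fin 5, (ζ ^ (i.val * j.val))⁻¹ *
      τ.character (D.r ^ i.val) := fun j => by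
    rw [he, rAE, ← trace_idem (D.PAE_idem hW hζ.pow_eq_one j), D.trace_PAE]
    simp only [hchar, ← mul_assoc, D.lam_sq, one_mul]
    simp only [Finset.mul_sum, Finset.sum_const, Finset.card_univ, ← Nat.card_eq_fintype_card,
      D.card_A, nsmul_eq_mul]
    refine Finset.sum_congr rfl fun i _ => ?_
    push_cast
    ring
  have hinv : ∀ k : Fin 5, τ.character (D.r ^ k.val) =
      ∑ j, (e j : ℂ) * ζ ^ (k.val * j.val) := fun k => by
    simp only [hE, Finset.mul_sum, Finset.sum_mul]
    rw [Finset.sum_comm]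
    have e1 : ∀ i : Fin 5, ∑ j : Fin 5, 5⁻¹ * ((ζ ^ (i.val * j.val))⁻¹ *
        τ.character (D.r ^ i.val)) * ζ ^ (k.val * j.val) =
          if i = k then τ.character (D.r ^ i.val) else 0 := fun i => by
      rw [show ∑ j : Fin 5, 5⁻¹ * ((ζ ^ (i.val * j.val))⁻¹ * τ.character (D.r ^ i.val)) *
          ζ ^ (k.val * j.val) = 5⁻¹ * τ.character (D.r ^ i.val) *
            ∑ j : Fin 5, ζ ^ (k.val * j.val) * (ζ ^ (i.val * j.val))⁻¹ by
        rw [Finset.mul_sum]; exact Finset.sum_congr rfl fun j _ => by ring, sum_root hζ]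
      split_ifs <;> ring
    simp only [e1, Finset.sum_ite_eq', Finset.mem_univ, if_true]
  have hpar : ∑ i : Fin 5, F (D.r ^ i.val) = 5 * ∑ j, (e j : ℂ) * (e j : ℂ) := by
    have hi : ∀ i : Fin 5, τ.character (D.r ^ i.val)⁻¹ =
        ∑ l, (e l : ℂ) * (ζ ^ (i.val * l.val))⁻¹ := fun i => by
      have hneg : (-i).val = (5 - i.val) % 5 := by revert i; decide
      have e2 : τ.character (D.r ^ i.val)⁻¹ = τ.character (D.r ^ (-i).val) := by
        simp only [Representation.character]
        congr 1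
        refine left_inv_eq_right_inv (a := τ (D.r ^ i.val)) ?_ ?_
        · rw [← map_mul, inv_mul_cancel, map_one]
        · rw [map_pow, map_pow, ← pow_add]
          obtain ⟨q, hq⟩ : 5 ∣ i.val + (-i).val := by have := i.2; omega
          rw [hq, pow_mul, D.r_five hW, one_pow]
      rw [e2, hinv]
      refine Finset.sum_congr rfl fun l _ => ?_
      congr 1
      refine eq_inv_of_mul_eq_one_left ?_
      obtain ⟨q, hq⟩ : 5 ∣ i.val + (-i).val := by have := i.2; omega
      rw [← pow_add, show (-i).val * l.val + i.val * l.val = (i.val + (-i).val) * l.val by ring,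
        hq, mul_assoc, pow_mul, hζ.pow_eq_one, one_pow]
    simp only [F, hi, hinv, Finset.mul_sum, Finset.sum_mul]
    rw [Finset.sum_comm]
    refine Finset.sum_congr rfl fun l _ => ?_
    rw [Finset.sum_comm]
    rw [Finset.sum_congr rfl fun j _ => show
      ∑ i : Fin 5, (e j : ℂ) * ζ ^ (i.val * j.val) * ((e l : ℂ) * (ζ ^ (i.val * l.val))⁻¹) =
        if l = j then 5 * ((e l : ℂ) * (e l : ℂ)) else 0 from ?_]
    · simp
    · rw [show ∑ i : Fin 5, (e j : ℂ) * ζ ^ (i.val * j.val) *
          ((e l : ℂ) * (ζ ^ (i.val * l.val))⁻¹) = (e j : ℂ) * (e l : ℂ) *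
            ∑ i : Fin 5, ζ ^ (j.val * i.val) * (ζ ^ (l.val * i.val))⁻¹ by
        rw [Finset.mul_sum]
        exact Finset.sum_congr rfl fun i _ => by rw [mul_comm j.val, mul_comm l.val]; ring,
        sum_root hζ]
      split_ifs with h
      · subst h; ring
      · ring
  have hdsum : (d : ℂ) = ∑ j, (e j : ℂ) := by
    have h := hinv 0
    simp only [Fin.val_zero, pow_zero, zero_mul, mul_one, hd] at h
    exact h
  have hW0 : (Nat.card ↥D.W0 : ℂ) ≠ 0 := Nat.cast_ne_zero.2 Nat.card_pos.ne'
  rw [hsum, hcard, Fin.sum_univ_five] at hnorm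
  simp only [Fin.sum_univ_five, Fin.val_zero, pow_zero] at hpar
  have e0 : F 1 = (d : ℂ) ^ 2 := by simp only [F, inv_one, hd, sq]
  rw [e0] at hpar
  rw [hSk 1 (by decide), hSk 2 (by decide), hSk 3 (by decide), hSk 4 (by decide)] at hnorm
  simp only [Fin.val_zero, pow_zero, one_mul, hS0] at hnorm
  push_cast at hnorm
  field_simp at hnorm
  have hfin : (16 : ℂ) * ∑ j, (e j : ℂ) * (e j : ℂ) = 16 + 3 * (∑ j, (e j : ℂ)) ^ 2 := by
    rw [← hdsum, Fin.sum_univ_five]
    linear_combination (1 / 20 : ℂ) * hnorm - (64 / 20 : ℂ) * hpar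
  have h := four_le_of_norm e (by exact_mod_cast hfin) j
  have hA' : D.rA τ ⊤ = d := by
    have e1 : D.PA τ = 1 := LinearMap.ext hA
    rw [rA, e1, Module.End.one_eq_id, Submodule.map_id, finrank_top]
  rw [hA', ← he]
  exact h.trans_eq (by exact_mod_cast hdsum.symm)

/-- Each eigenspace has at most a quarter of the dimension of the `λ`-part. -/
theorem four_le (hW : ∀ w ∈ D.W0, τ w = 1) {ζ : ℂ} (hζ : IsPrimitiveRoot ζ 5) (j : Fin 5)
    (p : Subrepresentation τ) : 4 * D.rAE τ ζ j p.toSubmodule ≤ D.rA τ p.toSubmodule := by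
  suffices ∀ (n : ℕ) (p : Subrepresentation τ), finrank ℂ p.toSubmodule = n →
      4 * D.rAE τ ζ j p.toSubmodule ≤ D.rA τ p.toSubmodule from this _ p rfl
  intro n
  induction n using Nat.strong_induction_on with
  | _ n ih =>
    intro p hp
    by_cases hq : ∃ q : Subrepresentation τ,
        q.toSubmodule ≤ p.toSubmodule ∧ q.toSubmodule ≠ ⊥ ∧ q.toSubmodule ≠ p.toSubmodule
    · obtain ⟨q, hqp, hq0, hq1⟩ := hq
      haveI : ComplementedLattice (Subrepresentation τ) :=
        (Representation.isSemisimpleRepresentation_iff_isSemisimpleModule_asModule τ).2 inferInstance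
      obtain ⟨c, hc⟩ := exists_isCompl q
      have hsup : q.toSubmodule ⊔ c.toSubmodule = ⊤ :=
        congrArg Subrepresentation.toSubmodule hc.sup_eq_top
      have hinf : q.toSubmodule ⊓ c.toSubmodule = ⊥ :=
        congrArg Subrepresentation.toSubmodule hc.inf_eq_bot
      have e1 : q.toSubmodule ⊔ (c ⊓ p).toSubmodule = p.toSubmodule := by
        show q.toSubmodule ⊔ c.toSubmodule ⊓ p.toSubmodule = p.toSubmodule
        rw [← sup_inf_assoc_of_le c.toSubmodule hqp, hsup, top_inf_eq]
      have e2 : q.toSubmodule ⊓ (c ⊓ p).toSubmodule = ⊥ := by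
        show q.toSubmodule ⊓ (c.toSubmodule ⊓ p.toSubmodule) = ⊥
        rw [← inf_assoc, hinf, bot_inf_eq]
      have hd := Submodule.finrank_sup_add_finrank_inf_eq q.toSubmodule (c ⊓ p).toSubmodule
      rw [e1, e2, finrank_bot, add_zero, hp] at hd
      have hq' : 0 < finrank ℂ q.toSubmodule :=
        Nat.pos_of_ne_zero fun h => hq0 (Submodule.finrank_eq_zero.1 h)
      have hc' : 0 < finrank ℂ (c ⊓ p).toSubmodule := Nat.pos_of_ne_zero fun h => hq1 (by
        have h1 := Submodule.finrank_eq_zero.1 h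
        rw [h1, sup_bot_eq] at e1
        exact e1)
      have i1 := ih _ (by omega) q rfl
      have i2 := ih _ (by omega) (c ⊓ p) rfl
      have m1 := finrank_map_modular D.PA_idem (D.map_le_PA q) (D.map_le_PA (c ⊓ p))
      have m2 := finrank_map_modular (D.PAE_idem hW hζ.pow_eq_one j) (D.map_le_PAE q ζ j)
        (D.map_le_PAE (c ⊓ p) ζ j)
      rw [e1, e2, Submodule.map_bot, finrank_bot] at m1 m2
      simp only [rA, rAE] at i1 i2 ⊢
      omega
    · push Not at hq
      by_cases h0 : p.toSubmodule.map (D.PA τ) = ⊥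
      · have hz : p.toSubmodule.map (D.PA τ * D.E τ ζ j) = ⊥ := by
          rw [eq_bot_iff]
          rintro _ ⟨v, hv, rfl⟩
          rw [← h0]
          exact ⟨_, D.apply_mem_E p ζ j v hv, rfl⟩
        rw [rAE, Submodule.finrank_eq_zero.2 hz, mul_zero]
        exact Nat.zero_le _
      · let q : Subrepresentation τ := ⟨p.toSubmodule.map (D.PA τ), fun g v hv => by
          obtain ⟨x, hx, rfl⟩ := hv
          exact ⟨τ g x, p.apply_mem_toSubmodule g hx, by
            rw [← Module.End.mul_apply, ← (D.PA_comm τ g).eq, Module.End.mul_apply]⟩⟩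
        have hqe : p.toSubmodule.map (D.PA τ) = p.toSubmodule := hq q (D.map_le_PA p) h0
        have hfix : ∀ v, D.PA p.toRepresentation v = v := fun v => by
          refine Subtype.ext ?_
          rw [D.restrict_PA]
          have hv : (v : U) ∈ p.toSubmodule.map (D.PA τ) := hqe.symm ▸ v.2
          obtain ⟨x, -, hx⟩ := hv
          rw [← hx, ← Module.End.mul_apply, D.PA_idem]
        have hWp : ∀ w ∈ D.W0, p.toRepresentation w = 1 := fun w hw => by
          refine LinearMap.ext fun v => Subtype.ext ?_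
          show τ w v = v
          rw [hW w hw]; rfl
        haveI : Nontrivial p.toSubmodule := by
          rw [Submodule.nontrivial_iff_ne_bot]
          intro h
          exact h0 (by rw [h, Submodule.map_bot])
        haveI : p.toRepresentation.IsIrreducible :=
          { exists_pair_ne := by
              refine ⟨⊥, ⊤, fun h => ?_⟩
              have h' := congrArg Subrepresentation.toSubmodule h
              exact bot_ne_top h'
            eq_bot_or_eq_top := fun s => by
              let s' : Subrepresentation τ := ⟨s.toSubmodule.map p.toSubmodule.subtype,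
                fun g v hv => by
                  obtain ⟨x, hx, rfl⟩ := hv
                  exact ⟨_, s.apply_mem_toSubmodule g hx, rfl⟩⟩
              by_cases hs : s'.toSubmodule = ⊥
              · refine Or.inl (Subrepresentation.toSubmodule_injective ?_)
                exact (Submodule.map_injective_of_injective (Submodule.injective_subtype _))
                  (hs.trans (Submodule.map_bot _).symm)
              · refine Or.inr (Subrepresentation.toSubmodule_injective ?_)
                refine (Submodule.map_injective_of_injective (Submodule.injective_subtype _))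
                  ((hq s' (Submodule.map_subtype_le _ _) hs).trans ?_)
                exact (Submodule.map_subtype_top p.toSubmodule).symm }
        have h := D.irreducible_case hWp hζ hfix j
        rwa [D.rAE_sub p ζ j, D.rA_sub p] at h

end XData

end CfsgLib.UFour73.Mod
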